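import Groth.Agent.ZeroCyc.K755.ProjEmbAlg
import Groth.Agent.Ega2.AmpleVery
import Groth.Agent.Ega2.VeryAmpleAmple
import Groth.Agent.FormalB.ProjScalar
import Mathlib.AlgebraicGeometry.ProjectiveSpectrum.Proper
import Mathlib.AlgebraicGeometry.ZariskisMainTheorem

/-!
# Projective embeddings of `Proj` by the elements of degree `n`
-/

set_option autoImplicit false
universe u
open CategoryTheory CategoryTheory.Limits AlgebraicGeometry TopologicalSpace Opposite HomogeneousLocalization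
open Groth.Agent.Fdesc.LocGen Groth.Agent.Ega2

namespace K755.ProjEmb

variable {R A : Type u} [CommRing R] [CommRing A] [Algebra R A] {𝒜 : ℕ → Submodule R A} [GradedAlgebra 𝒜]

theorem one_notMem (x : ProjectiveSpectrum 𝒜) : (1 : A) ∉ x.asHomogeneousIdeal := fun h =>
  x.isPrime.ne_top ((Ideal.eq_top_iff_one _).mpr h)

/-- the non-vanishing locus of the section of `O(n)` defined by `a ∈ 𝒜 n`, when `Proj` is covered by the `D_+(g)`,
`g ∈ 𝒜 n`. -/
theorem genLocus_globalSec {n : ℕ} (h : ∀ x : Proj 𝒜, ∃ g : 𝒜 n, g.1 ∉ (x : ProjectiveSpectrum 𝒜).asHomogeneousIdeal)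
    (a : 𝒜 n) : CohB1.genLocus _ (VeryAmpleAmple.globalSec a) = Proj.basicOpen 𝒜 a.1 := by
  apply le_antisymm
  · intro x hx
    obtain ⟨f, hf⟩ := h x
    let U : (Proj 𝒜).Opens := Proj.basicOpen 𝒜 f.1
    have hxU : x ∈ U := hf
    have hU : ∀ y ∈ U, f.1 ∉ (y : ProjectiveSpectrum 𝒜).asHomogeneousIdeal := fun y hy => hy
    have hV : IsGen (sec (VeryAmpleAmple.globalSec a) (U ⊓ CohB1.genLocus _ (VeryAmpleAmple.globalSec a))) :=
      (le_genLocus_iff _ _).mp inf_le_right
    obtain ⟨c, hc⟩ := hV.exists_eq (show Γ(Twist.twist 𝒜 ((n : ℕ) : ℤ), U ⊓ CohB1.genLocus _ (VeryAmpleAmple.globalSec a)) from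
      TwistBasic.fracSec ((n : ℕ) : ℤ) f (⟨1, SetLike.GradedOne.one_mem⟩ : 𝒜 0) (by simp)
        (U ⊓ CohB1.genLocus _ (VeryAmpleAmple.globalSec a))
        (fun x _ h => (x : ProjectiveSpectrum 𝒜).isPrime.ne_top ((Ideal.eq_top_iff_one _).mpr h)))
    rw [VeryAmpleAmple.sec_globalSec] at hc
    have h1 := congrArg (fun t : Twist.sectN (𝒜 := 𝒜) ((n : ℕ) : ℤ) (op (U ⊓ CohB1.genLocus _ (VeryAmpleAmple.globalSec a))) =>
      (t.1 ⟨x, ⟨hxU, hx⟩⟩).1) hc
    dsimp only at h1
    have h2 := TwistBasic.smulS_val ((n : ℕ) : ℤ) (U := U ⊓ CohB1.genLocus _ (VeryAmpleAmple.globalSec a)) c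
      (TwistBasic.fracSec ((n : ℕ) : ℤ) a (⟨1, SetLike.GradedOne.one_mem⟩ : 𝒜 0) (by simp)
        (U ⊓ CohB1.genLocus _ (VeryAmpleAmple.globalSec a))
        (fun x _ h => (x : ProjectiveSpectrum 𝒜).isPrime.ne_top ((Ideal.eq_top_iff_one _).mpr h))) ⟨x, ⟨hxU, hx⟩⟩
    have h3 := h1.trans h2
    rw [TwistBasic.fracSec_val] at h3
    have hu : IsUnit (Localization.mk f.1 ⟨1, fun h => (x : ProjectiveSpectrum 𝒜).isPrime.ne_top
        ((Ideal.eq_top_iff_one _).mpr h)⟩ : Twist.Loc 𝒜 x) :=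
      TwistBasic.isUnit_mk x f.1 1 (hU x hxU) _
    have hu2 := isUnit_of_mul_isUnit_right (h3 ▸ hu)
    intro hax
    obtain ⟨y, rfl⟩ : ∃ y : ProjectiveSpectrum 𝒜, y = x := ⟨x, rfl⟩
    have h4 := (IsLocalization.AtPrime.isUnit_to_map_iff (Twist.Loc 𝒜 y) y.asHomogeneousIdeal.toIdeal a.1).mp
      (by rw [← Localization.mk_one_eq_algebraMap]; exact hu2)
    exact h4 hax
  · rw [le_genLocus_iff, VeryAmpleAmple.sec_globalSec]
    exact TwistBasic.isGen_fracSec _ _ _ _ _ _ (fun x hx => hx)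

/-- ratios of sections -/
theorem sec_eq_smul {n : ℕ} (g c : 𝒜 n) (z : Away 𝒜 g.1) (hz : z.val * algebraMap A _ g.1 = algebraMap A _ c.1) :
    sec (VeryAmpleAmple.globalSec c) (Proj.basicOpen 𝒜 g.1) =
      (Proj.awayToSection 𝒜 g.1).hom z • sec (VeryAmpleAmple.globalSec g) (Proj.basicOpen 𝒜 g.1) := by
  rw [VeryAmpleAmple.sec_globalSec, VeryAmpleAmple.sec_globalSec]
  refine Subtype.ext (funext fun x => Subtype.ext ?_)
  refine Eq.trans ?_ (TwistBasic.smulS_val (𝒜 := 𝒜) (n : ℤ) ((Proj.awayToSection 𝒜 g.1).hom z) _ x).symm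
  obtain ⟨x, hx⟩ := x
  obtain ⟨y, rfl⟩ : ∃ y : ProjectiveSpectrum 𝒜, y = x := ⟨x, rfl⟩
  have hy : Submonoid.powers g.1 ≤ Submonoid.comap (RingHom.id A) y.asHomogeneousIdeal.toIdeal.primeCompl :=
    Submonoid.powers_le.mpr hx
  have e1 : ((show Twist.O (𝒜 := 𝒜) (op (Proj.basicOpen 𝒜 g.1)) from (Proj.awayToSection 𝒜 g.1).hom z).1 ⟨y, hx⟩).val =
      IsLocalization.map (M := Submonoid.powers g.1) (T := y.asHomogeneousIdeal.toIdeal.primeCompl) (Twist.Loc 𝒜 y)
        (RingHom.id _) hy z.val :=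
    ProjectiveSpectrum.Proj.awayToSection_apply (𝒜 := 𝒜) g.1 z ⟨y, hx⟩
  refine Eq.trans ?_ (congrArg (fun w => w * (Localization.mk g.1 ⟨1, one_notMem y⟩ : Twist.Loc 𝒜 y)) e1).symm
  have h2 := congrArg (IsLocalization.map (M := Submonoid.powers g.1) (T := y.asHomogeneousIdeal.toIdeal.primeCompl)
    (Twist.Loc 𝒜 y) (RingHom.id _) hy) hz
  rw [map_mul, IsLocalization.map_eq, IsLocalization.map_eq, RingHom.id_apply, RingHom.id_apply] at h2
  have h3 : ∀ w : A, (Localization.mk w ⟨1, one_notMem y⟩ : Twist.Loc 𝒜 y) = algebraMap A _ w := fun w => by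
    rw [← Localization.mk_one_eq_algebraMap]; rfl
  show (Localization.mk c.1 ⟨1, _⟩ : Twist.Loc 𝒜 y) = _
  rw [h3, h3]
  exact h2.symm

/-- scalars -/
theorem scalar_eq {n : ℕ} (g : 𝒜 n) (r : R) (q : Proj 𝒜 ⟶ Spec (CommRingCat.of R))
    (hq : q = Proj.toSpecZero 𝒜 ≫ Spec.map (CommRingCat.ofHom (algebraMap R (𝒜 0)))) :
    (Proj.awayToSection 𝒜 g.1).hom (fromZeroRingHom 𝒜 _ (algebraMap R (𝒜 0) r)) =
      ores (le_top : Proj.basicOpen 𝒜 g.1 ≤ q ⁻¹ᵁ ⊤) (q.app ⊤ ((Scheme.ΓSpecIso (CommRingCat.of R)).inv r)) := by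
  subst hq
  refine Subtype.ext (funext fun x => HomogeneousLocalization.val_injective _ ?_)
  obtain ⟨x, hx⟩ := x
  obtain ⟨y, rfl⟩ : ∃ y : ProjectiveSpectrum 𝒜, y = x := ⟨x, rfl⟩
  have hy : Submonoid.powers g.1 ≤ Submonoid.comap (RingHom.id A) y.asHomogeneousIdeal.toIdeal.primeCompl :=
    Submonoid.powers_le.mpr hx
  refine (ProjectiveSpectrum.Proj.awayToSection_apply (𝒜 := 𝒜) g.1 _ ⟨y, hx⟩).trans ?_
  have h1 := Groth.Agent.FormalB.ProjScalar.toSpecZero_appTop_apply 𝒜 (algebraMap R (𝒜 0) r) y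
  refine Eq.trans ?_ (h1.symm.trans ?_)
  · change IsLocalization.map (M := Submonoid.powers g.1) (T := y.asHomogeneousIdeal.toIdeal.primeCompl)
        (Twist.Loc 𝒜 y) (RingHom.id _) hy (Localization.mk (algebraMap R (𝒜 0) r).1 1) = _
    rw [Localization.mk_one_eq_algebraMap, IsLocalization.map_eq]
    rfl
  · have h2 : (Proj.toSpecZero 𝒜 ≫ Spec.map (CommRingCat.ofHom (algebraMap R (𝒜 0)))).appTop.hom
        ((Scheme.ΓSpecIso (CommRingCat.of R)).inv.hom r) =
        (Proj.toSpecZero 𝒜).appTop.hom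
        ((Scheme.ΓSpecIso (CommRingCat.of (𝒜 0))).inv.hom (algebraMap R (𝒜 0) r)) := by
      rw [Scheme.Hom.comp_appTop]
      have h3 := ConcreteCategory.congr_hom (Scheme.ΓSpecIso_inv_naturality
        (CommRingCat.ofHom (algebraMap R (𝒜 0)))) r
      exact (congrArg (Proj.toSpecZero 𝒜).appTop.hom h3).symm
    rw [← h2]
    rfl

theorem mk_val_mul {n : ℕ} (g : 𝒜 n) (m : ℕ) (a : A) (ha : a ∈ 𝒜 (m • n)) :
    (Away.mk 𝒜 g.2 m a ha).val * algebraMap A (Localization (Submonoid.powers g.1)) (g.1 ^ m) =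
      algebraMap A (Localization (Submonoid.powers g.1)) a := by
  rw [Away.val_mk, Localization.mk_eq_mk']
  exact IsLocalization.mk'_spec (M := Submonoid.powers g.1) (Localization (Submonoid.powers g.1)) a
    ⟨g.1 ^ m, m, rfl⟩

/-- Generation of the coordinate ring of `D_+(g)`. -/
theorem away_mem_closure {n : ℕ} (hn : 0 < n) (g : 𝒜 n)
    (hg : ∀ (k : ℕ) (x : A), x ∈ 𝒜 (k * n) → ∃ N : ℕ, x * g.1 ^ N ∈ (𝒜 n) ^ (k + N))
    (T : Set A) (hT : Submodule.span R T = 𝒜 n) (S : Subring (Away 𝒜 g.1))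
    (hSR : ∀ r : R, fromZeroRingHom 𝒜 _ (algebraMap R (𝒜 0) r) ∈ S)
    (hST : ∀ t ∈ T, ∀ z : Away 𝒜 g.1, z.val * algebraMap A _ g.1 = algebraMap A _ t → z ∈ S) :
    S = ⊤ := by
  have hunit : IsUnit (algebraMap A (Localization (Submonoid.powers g.1)) g.1) :=
    IsLocalization.map_units (M := Submonoid.powers g.1) _ ⟨g.1, 1, pow_one _⟩
  have hTmem : ∀ t ∈ T, t ∈ 𝒜 n := fun t ht => hT ▸ Submodule.subset_span ht
  -- scalars
  have hscal : ∀ (r : R) (z : Away 𝒜 g.1), z ∈ S → (fromZeroRingHom 𝒜 _ (algebraMap R (𝒜 0) r)) * z ∈ S :=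
    fun r z hz => S.mul_mem (hSR r) hz
  have hscalval : ∀ (r : R), (fromZeroRingHom 𝒜 (Submonoid.powers g.1) (algebraMap R (𝒜 0) r)).val =
      algebraMap A _ (algebraMap R A r) := fun r => by
    show Localization.mk _ 1 = _
    rw [Localization.mk_one_eq_algebraMap]
    rfl
  -- degree `n` numerators
  have h1 : ∀ c ∈ 𝒜 n, ∀ z : Away 𝒜 g.1, z.val * algebraMap A _ g.1 = algebraMap A _ c → z ∈ S := by
    intro c hc
    rw [← hT] at hc
    induction hc using Submodule.span_induction with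
    | mem t ht => exact hST t ht
    | zero =>
      intro z hz
      rw [map_zero, hunit.mul_left_eq_zero] at hz
      have : z = 0 := val_injective _ (by rw [hz, val_zero])
      rw [this]; exact S.zero_mem
    | add a b ha hb iha ihb =>
      intro z hz
      rw [hT] at ha hb
      let za : Away 𝒜 g.1 := Away.mk 𝒜 g.2 1 a (by rwa [one_smul])
      have hza : za.val * algebraMap A (Localization (Submonoid.powers g.1)) g.1 = algebraMap A _ a := by
        have := mk_val_mul g 1 a (by rwa [one_smul])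
        rwa [pow_one] at this
      have h2 : z - za ∈ S := ihb (z - za) (by
        rw [val_sub, sub_mul, hz, hza, map_add]; abel)
      have h3 : z = za + (z - za) := by abel
      rw [h3]
      exact S.add_mem (iha za hza) h2
    | smul r a ha iha =>
      intro z hz
      rw [hT] at ha
      let za : Away 𝒜 g.1 := Away.mk 𝒜 g.2 1 a (by rwa [one_smul])
      have hza : za.val * algebraMap A (Localization (Submonoid.powers g.1)) g.1 = algebraMap A _ a := by
        have := mk_val_mul g 1 a (by rwa [one_smul])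
        rwa [pow_one] at this
      have h3 : z = fromZeroRingHom 𝒜 _ (algebraMap R (𝒜 0) r) * za := by
        apply val_injective
        apply hunit.mul_left_injective
        dsimp only
        rw [hz, val_mul, mul_assoc, hza, hscalval, ← map_mul, ← Algebra.smul_def]
      rw [h3]
      exact hscal r za (iha za hza)
  -- all numerators in the subalgebra generated in degree `n`
  have h2 : ∀ (m : ℕ) (y : A), y ∈ (𝒜 n) ^ m → y ∈ 𝒜 (m * n) ∧
      ∀ z : Away 𝒜 g.1, z.val * algebraMap A _ (g.1 ^ m) = algebraMap A _ y → z ∈ S := by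
    intro m
    induction m with
    | zero =>
      intro y hy
      rw [pow_zero, Submodule.mem_one] at hy
      obtain ⟨r, rfl⟩ := hy
      refine ⟨by rw [zero_mul]; exact (algebraMap R (𝒜 0) r).2, fun z hz => ?_⟩
      rw [pow_zero, map_one, mul_one] at hz
      have : z = fromZeroRingHom 𝒜 _ (algebraMap R (𝒜 0) r) := val_injective _ (by rw [hz, hscalval])
      rw [this]; exact hSR r
    | succ m ih =>
      intro y hy
      rw [pow_succ] at hy
      induction hy using Submodule.mul_induction_on' with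
      | mem_mul_mem a ha b hb =>
        obtain ⟨ha1, ha2⟩ := ih a ha
        refine ⟨by rw [add_mul, one_mul]; exact SetLike.mul_mem_graded ha1 hb, fun z hz => ?_⟩
        let za : Away 𝒜 g.1 := Away.mk 𝒜 g.2 m a ha1
        have hza : za.val * algebraMap A (Localization (Submonoid.powers g.1)) (g.1 ^ m) = algebraMap A _ a :=
          mk_val_mul g m a ha1
        let zb : Away 𝒜 g.1 := Away.mk 𝒜 g.2 1 b (by rwa [one_smul])
        have hzb : zb.val * algebraMap A (Localization (Submonoid.powers g.1)) g.1 = algebraMap A _ b := by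
          have := mk_val_mul g 1 b (by rwa [one_smul])
          rwa [pow_one] at this
        have h3 : z = za * zb := by
          apply val_injective
          apply (hunit.pow (m + 1)).mul_left_injective
          dsimp only
          rw [← map_pow, hz, val_mul, pow_succ, map_mul, map_mul, ← hza, ← hzb]
          ring
        rw [h3]
        exact S.mul_mem (ha2 za hza) (h1 b hb zb hzb)
      | add a ha b hb iha ihb =>
        refine ⟨Submodule.add_mem _ iha.1 ihb.1, fun z hz => ?_⟩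
        let za : Away 𝒜 g.1 := Away.mk 𝒜 g.2 (m + 1) a iha.1
        have hza : za.val * algebraMap A (Localization (Submonoid.powers g.1)) (g.1 ^ (m + 1)) = algebraMap A _ a :=
          mk_val_mul g (m + 1) a iha.1
        have h3 : z = za + (z - za) := by abel
        rw [h3]
        refine S.add_mem (iha.2 za hza) (ihb.2 _ ?_)
        rw [val_sub, sub_mul, hz, hza, map_add]; abel
  rw [eq_top_iff]
  intro z _
  obtain ⟨k, x, hx, rfl⟩ := Away.mk_surjective 𝒜 g.2 z
  obtain ⟨N, hN⟩ := hg k x hx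
  refine (h2 _ _ hN).2 _ ?_
  rw [pow_add, map_mul, ← mul_assoc, map_mul, mk_val_mul]

end K755.ProjEmb
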