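import Groth.Agent.Zeta.K467.QuotFlat

/-!
# Base change of quotients by a group of invertible order
-/

set_option autoImplicit false
universe u

open CategoryTheory CategoryTheory.Limits AlgebraicGeometry TensorProduct
open Groth.Agent.Sga1.QuotBasic

namespace K755.TameBC

section Alg

variable {A B A' B' : Type u} [CommRing A] [CommRing B] [CommRing A'] [CommRing B']
  [Algebra A B] [Algebra A A'] [Algebra B B'] [Algebra A' B'] [Algebra A B']
  [IsScalarTower A B B'] [IsScalarTower A A' B'] [Algebra.IsPushout A A' B B']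
  {G : Type u} [Group G] [Fintype G]

/-- The trace as a linear map to the invariants. -/
theorem exists_trace (σ : G → B →ₐ[A] B) (hσ : ∀ g h b, σ h (σ g b) = σ (g * h) b)
    (hinj : Function.Injective (algebraMap A B))
    (hinv : ∀ b : B, (∀ i, σ i b = b) → b ∈ Set.range (algebraMap A B)) :
    ∃ T : B →ₗ[A] A, ∀ b, algebraMap A B (T b) = ∑ g, σ g b := by
  let Sg : B →ₗ[A] B := ∑ g, (σ g).toLinearMap
  have hSg : ∀ b, Sg b = ∑ g, σ g b := fun b => by
    rw [LinearMap.sum_apply]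
    rfl
  have hmem : ∀ b, Sg b ∈ LinearMap.range (Algebra.linearMap A B) := by
    intro b
    obtain ⟨a, ha⟩ := hinv (Sg b) (fun h => by
      rw [hSg, map_sum]
      refine Fintype.sum_bijective (fun g => g * h) (Group.mulRight_bijective h) _ _ (fun g => hσ g h b))
    exact ⟨a, ha⟩
  let E := LinearEquiv.ofInjective (Algebra.linearMap A B) hinj
  refine ⟨E.symm.toLinearMap ∘ₗ Sg.codRestrict _ hmem, fun b => ?_⟩
  have h1 : E (E.symm (Sg.codRestrict _ hmem b)) = Sg.codRestrict _ hmem b := E.apply_symm_apply _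
  have h2 := congrArg Subtype.val h1
  rw [← hSg]
  exact h2

theorem invariants_of_invertible (hG : IsUnit ((Fintype.card G : ℕ) : A')) (σ : G → B →ₐ[A] B)
    (hσ : ∀ g h b, σ h (σ g b) = σ (g * h) b) (σ' : G → B' →ₐ[A'] B')
    (compat : ∀ i b, σ' i (algebraMap B B' b) = algebraMap B B' (σ i b))
    (hinj : Function.Injective (algebraMap A B))
    (hinv : ∀ b : B, (∀ i, σ i b = b) → b ∈ Set.range (algebraMap A B)) :
    Function.Injective (algebraMap A' B') ∧
      ∀ b' : B', (∀ i, σ' i b' = b') → b' ∈ Set.range (algebraMap A' B') := by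
  classical
  obtain ⟨T, hT⟩ := exists_trace σ hσ hinj hinv
  let e : A' ⊗[A] B ≃ₐ[A'] B' := Algebra.IsPushout.equiv A A' B B'
  have he : ∀ a b, e (a ⊗ₜ b) = algebraMap A' B' a * algebraMap B B' b :=
    Algebra.IsPushout.equiv_tmul A A' B B'
  constructor
  · rw [injective_iff_map_eq_zero]
    intro a' ha'
    have h1 : e (a' ⊗ₜ 1) = 0 := by rw [he, map_one, mul_one, ha']
    have h2 : (a' ⊗ₜ 1 : A' ⊗[A] B) = 0 := by
      apply e.injective
      rw [h1, map_zero]
    have h3 := congrArg (TensorProduct.rid A A' ∘ T.lTensor A') h2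
    have h4 : T 1 = (Fintype.card G : A) := by
      apply hinj
      rw [hT, map_natCast]
      simp
    simp only [Function.comp_apply, LinearMap.lTensor_tmul, TensorProduct.rid_tmul, map_zero, h4] at h3
    rw [Algebra.smul_def, map_natCast] at h3
    exact hG.mul_right_eq_zero.mp h3
  · intro b' hb'
    obtain ⟨t, rfl⟩ := e.surjective b'
    have h1 : ∀ t : A' ⊗[A] B, ∑ g, σ' g (e t) = algebraMap A' B' (TensorProduct.rid A A' (T.lTensor A' t)) := by
      intro t
      induction t with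
      | zero => simp
      | add x y hx hy => simp only [map_add, Finset.sum_add_distrib, hx, hy]
      | tmul a b =>
        rw [LinearMap.lTensor_tmul, TensorProduct.rid_tmul, Algebra.smul_def, map_mul,
          ← IsScalarTower.algebraMap_apply A A' B', IsScalarTower.algebraMap_apply A B B', hT, map_sum, mul_comm,
          Finset.mul_sum]
        refine Finset.sum_congr rfl fun g _ => ?_
        rw [he, map_mul, AlgHom.commutes, compat]
    have h2 := h1 t
    rw [Finset.sum_congr rfl (fun g _ => hb' g), Finset.sum_const, Finset.card_univ, nsmul_eq_mul] at h2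
    obtain ⟨w, hw⟩ := hG
    refine ⟨(↑w⁻¹ : A') * TensorProduct.rid A A' (T.lTensor A' t), ?_⟩
    rw [map_mul, ← h2, ← mul_assoc]
    have h3 : algebraMap A' B' (↑w⁻¹ : A') * (Fintype.card G : B') = 1 := by
      have : (Fintype.card G : B') = algebraMap A' B' (w : A') := by rw [hw, map_natCast]
      rw [this, ← map_mul, Units.inv_mul, map_one]
    rw [h3, one_mul]

end Alg

section Sch

variable {X Y X' Y' : Scheme.{u}} {G : Type u} [Group G] [Finite G]

/-- Quotients by groups of invertible order commute with arbitrary base change. -/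
theorem isQuot_of_tame_baseChange {ρ : G →* Aut X} {p : X ⟶ Y} (hp : SGA1.IsQuot ρ p)
    {qY : Y' ⟶ Y} (hG : IsUnit ((Nat.card G : ℕ) : Γ(Y', ⊤))) {pX : X' ⟶ X} {p' : X' ⟶ Y'} (hX : IsPullback pX p' p qY)
    {ρ' : G →* Aut X'} (hρ₁ : ∀ g : G, (ρ' g).hom ≫ pX = pX ≫ (ρ g).hom)
    (hρ₂ : ∀ g : G, (ρ' g).hom ≫ p' = p') : SGA1.IsQuot ρ' p' := by
  have haff := hp.affine
  have haff' : IsAffineHom p' := MorphismProperty.of_isPullback hX ‹_›
  refine isQuot_of_affine_cover hρ₂ (fun y' => ?_)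
  obtain ⟨V, hV, hyV⟩ := exists_affine_mem (qY y')
  obtain ⟨V', hV', hyV', hVV'⟩ := TopologicalSpace.Opens.isBasis_iff_nbhd.mp Y'.isBasis_affineOpens
      (show y' ∈ qY ⁻¹ᵁ V from hyV)
  refine ⟨V', hyV', hV', ?_⟩
  have hVX : IsAffineOpen (p ⁻¹ᵁ V) := hV.preimage p
  have hUY : p' ⁻¹ᵁ V' = pX ⁻¹ᵁ (p ⁻¹ᵁ V) ⊓ p' ⁻¹ᵁ V' := by
    refine le_antisymm (le_inf ?_ le_rfl) inf_le_right
    rw [← Scheme.Hom.comp_preimage, hX.w, Scheme.Hom.comp_preimage]
    exact p'.preimage_mono hVV'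
  have hle : p' ⁻¹ᵁ V' ≤ pX ⁻¹ᵁ (p ⁻¹ᵁ V) := hUY.le.trans inf_le_left
  have hiso := isIso_pushoutSection_of_isAffineOpen hX hVV' (le_refl (p ⁻¹ᵁ V)) hUY hV hV' hVX
  rw [isIso_pushoutSection_iff] at hiso
  algebraize [(p.appLE V (p ⁻¹ᵁ V) le_rfl).hom, (qY.appLE V V' hVV').hom,
    (pX.appLE (p ⁻¹ᵁ V) (p' ⁻¹ᵁ V') hle).hom, (p'.appLE V' (p' ⁻¹ᵁ V') le_rfl).hom,
    ((qY.appLE V V' hVV') ≫ (p'.appLE V' (p' ⁻¹ᵁ V') le_rfl)).hom]
  have t1 : IsScalarTower Γ(Y, V) Γ(X, p ⁻¹ᵁ V) Γ(X', p' ⁻¹ᵁ V') := by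
    refine IsScalarTower.of_algebraMap_eq' ?_
    have := congrArg (fun k => k.hom) hiso.w
    exact this.symm
  have t2 : IsScalarTower Γ(Y, V) Γ(Y', V') Γ(X', p' ⁻¹ᵁ V') :=
    IsScalarTower.of_algebraMap_eq' rfl
  have t3 : Algebra.IsPushout Γ(Y, V) Γ(Y', V') Γ(X, p ⁻¹ᵁ V) Γ(X', p' ⁻¹ᵁ V') := by
    have := (CommRingCat.isPushout_iff_isPushout (R := Γ(Y, V)) (S := Γ(Y', V')) (R' := Γ(X, p ⁻¹ᵁ V))
      (S' := Γ(X', p' ⁻¹ᵁ V'))).mp hiso
    exact this.symm
  cases nonempty_fintype G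
  have hG' : IsUnit ((Fintype.card G : ℕ) : Γ(Y', V')) := by
    have h1 := hG.map (Y'.presheaf.map (homOfLE (le_top : V' ≤ ⊤)).op).hom
    rwa [map_natCast, Nat.card_eq_fintype_card] at h1
  have key := invariants_of_invertible (A := Γ(Y, V)) (A' := Γ(Y', V')) (B := Γ(X, p ⁻¹ᵁ V))
    (B' := Γ(X', p' ⁻¹ᵁ V')) (G := G) hG'
    (fun g => { (act ρ (stable_preimage hp.inv V) g).hom with
      commutes' := fun a => by
        have h := act_app_apply hp.inv V g a
        rw [Scheme.Hom.app_eq_appLE] at h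
        exact h })
    (fun g h b => (act_mul_apply (stable_preimage hp.inv V) g h b).symm)
    (fun g => { (act ρ' (stable_preimage hρ₂ V') g).hom with
      commutes' := fun a => by
        have h := act_app_apply hρ₂ V' g a
        rw [Scheme.Hom.app_eq_appLE] at h
        exact h })
    (fun g b => by
      have h : pX.appLE (p ⁻¹ᵁ V) (p' ⁻¹ᵁ V') hle ≫ act ρ' (stable_preimage hρ₂ V') g =
          act ρ (stable_preimage hp.inv V) g ≫ pX.appLE (p ⁻¹ᵁ V) (p' ⁻¹ᵁ V') hle := by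
        unfold act
        rw [Scheme.Hom.appLE_comp_appLE]
        refine Eq.trans ?_ (Scheme.Hom.appLE_comp_appLE _ _ _ _ _ _ _).symm
        exact appLE_congr_hom (hρ₁ g) _ _ _
      exact congrArg (fun k => k.hom b) h)
    (by
      have h := hp.injective V
      rw [Scheme.Hom.app_eq_appLE] at h
      exact h)
    (fun b hb => by
      have h := (quotOn_of_isQuot hp V).surj b hb
      rw [Scheme.Hom.app_eq_appLE] at h
      exact h)
  refine ⟨?_, fun s hs => ?_⟩
  · rw [Scheme.Hom.app_eq_appLE]; exact key.1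
  · rw [Scheme.Hom.app_eq_appLE]; exact key.2 s hs

end Sch

end K755.TameBC
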