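import Groth.Agent.ZeroCyc.K755.SymFlat
import Groth.Agent.ZeroCyc.K755.TameBC

/-!
# Products of quotients
-/

set_option autoImplicit false
universe u

open CategoryTheory CategoryTheory.Limits AlgebraicGeometry
open Groth.Agent.Sga1.QuotBasic

namespace K755.ProdQuot

section Act

variable {X Y X' Y' : Scheme.{u}} {G : Type u} [Group G]

/-- The base change of a group action. -/
noncomputable def actBC {ρ : G →* Aut X} {p : X ⟶ Y} (hρ : ∀ g, (ρ g).hom ≫ p = p)
    {b' : X' ⟶ X} {p' : X' ⟶ Y'} {b : Y' ⟶ Y} (sq : IsPullback b' p' p b) (g : G) : X' ⟶ X' :=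
  sq.lift (b' ≫ (ρ g).hom) p' (by rw [Category.assoc, hρ, sq.w])

variable {ρ : G →* Aut X} {p : X ⟶ Y} (hρ : ∀ g, (ρ g).hom ≫ p = p)
    {b' : X' ⟶ X} {p' : X' ⟶ Y'} {b : Y' ⟶ Y} (sq : IsPullback b' p' p b)

theorem actBC_fst (g : G) : actBC hρ sq g ≫ b' = b' ≫ (ρ g).hom := sq.lift_fst _ _ _

theorem actBC_snd (g : G) : actBC hρ sq g ≫ p' = p' := sq.lift_snd _ _ _

theorem actBC_one : actBC hρ sq 1 = 𝟙 _ := by
  apply sq.hom_ext
  · rw [actBC_fst, map_one]
    exact (Category.comp_id _).trans (Category.id_comp _).symm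
  · rw [actBC_snd, Category.id_comp]

theorem actBC_mul (g h : G) : actBC hρ sq (g * h) = actBC hρ sq h ≫ actBC hρ sq g := by
  apply sq.hom_ext
  · rw [actBC_fst, Category.assoc, actBC_fst, ← Category.assoc, actBC_fst, Category.assoc, map_mul]
    rfl
  · rw [actBC_snd, Category.assoc, actBC_snd, actBC_snd]

/-- The base change of a group action, as an action. -/
noncomputable def actHom : G →* Aut X' where
  toFun g :=
    { hom := actBC hρ sq g
      inv := actBC hρ sq g⁻¹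
      hom_inv_id := by rw [← actBC_mul, inv_mul_cancel, actBC_one]
      inv_hom_id := by rw [← actBC_mul, mul_inv_cancel, actBC_one] }
  map_one' := Iso.ext (actBC_one hρ sq)
  map_mul' g h := Iso.ext (actBC_mul hρ sq g h)

theorem actHom_fst (g : G) : (actHom hρ sq g).hom ≫ b' = b' ≫ (ρ g).hom := actBC_fst hρ sq g

theorem actHom_snd (g : G) : (actHom hρ sq g).hom ≫ p' = p' := actBC_snd hρ sq g

end Act

section Prod

variable {X Z S P Q : Scheme.{u}} {G H K : Type u} [Group G] [Finite G] [Group H] [Finite H] [Group K]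
  {ρX : G →* Aut X} {ρZ : H →* Aut Z} {qX : X ⟶ P} {qZ : Z ⟶ Q} {pP : P ⟶ S} {pQ : Q ⟶ S} {a : X ⟶ S} {b : Z ⟶ S}

theorem isQuot_prod (hqX : SGA1.IsQuot ρX qX) (hqZ : SGA1.IsQuot ρZ qZ) (ha : qX ≫ pP = a) (hb : qZ ≫ pQ = b)
    (h : (Flat b ∧ Flat pP) ∨ (IsUnit ((Nat.card G : ℕ) : Γ(S, ⊤)) ∧ IsUnit ((Nat.card H : ℕ) : Γ(S, ⊤))))
    (θ : K →* Aut (pullback a b)) (ιG : G →* K) (ιH : H → K)
    (hG₁ : ∀ g, (θ (ιG g)).hom ≫ pullback.fst a b = pullback.fst a b ≫ (ρX g).hom)
    (hG₂ : ∀ g, (θ (ιG g)).hom ≫ pullback.snd a b = pullback.snd a b)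
    (hH₁ : ∀ g, (θ (ιH g)).hom ≫ pullback.fst a b = pullback.fst a b)
    (hH₂ : ∀ g, (θ (ιH g)).hom ≫ pullback.snd a b = pullback.snd a b ≫ (ρZ g).hom)
    (m : pullback a b ⟶ pullback pP pQ) (hm₁ : m ≫ pullback.fst pP pQ = pullback.fst a b ≫ qX)
    (hm₂ : m ≫ pullback.snd pP pQ = pullback.snd a b ≫ qZ) (hm : ∀ k, (θ k).hom ≫ m = m) :
    SGA1.IsQuot θ m := by
  let m₁ : pullback a b ⟶ pullback pP b := pullback.lift (pullback.fst a b ≫ qX) (pullback.snd a b)
    (by rw [Category.assoc, ha, pullback.condition])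
  have h11 : m₁ ≫ pullback.fst pP b = pullback.fst a b ≫ qX := pullback.lift_fst _ _ _
  have h12 : m₁ ≫ pullback.snd pP b = pullback.snd a b := pullback.lift_snd _ _ _
  let m₂ : pullback pP b ⟶ pullback pP pQ := pullback.lift (pullback.fst pP b) (pullback.snd pP b ≫ qZ)
    (by rw [Category.assoc, hb, pullback.condition])
  have h21 : m₂ ≫ pullback.fst pP pQ = pullback.fst pP b := pullback.lift_fst _ _ _
  have h22 : m₂ ≫ pullback.snd pP pQ = pullback.snd pP b ≫ qZ := pullback.lift_snd _ _ _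
  have hmm : m₁ ≫ m₂ = m := by
    apply pullback.hom_ext
    · rw [Category.assoc, h21, h11, hm₁]
    · rw [Category.assoc, h22, reassoc_of% h12, hm₂]
  have sq1 : IsPullback (pullback.fst a b) m₁ qX (pullback.fst pP b) := by
    have outer : IsPullback (m₁ ≫ pullback.snd pP b) (pullback.fst a b) b (qX ≫ pP) := by
      rw [h12, ha]
      exact (IsPullback.of_hasPullback a b).flip
    exact (IsPullback.of_right outer h11 (IsPullback.of_hasPullback pP b).flip).flip
  have sq2 : IsPullback (pullback.snd pP b) m₂ qZ (pullback.snd pP pQ) := by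
    have outer : IsPullback (m₂ ≫ pullback.fst pP pQ) (pullback.snd pP b) pP (qZ ≫ pQ) := by
      rw [h21, hb]
      exact IsPullback.of_hasPullback pP b
    exact (IsPullback.of_right outer h22 (IsPullback.of_hasPullback pP pQ)).flip
  have hG₃ : ∀ g : G, ((θ.comp ιG) g).hom ≫ m₁ = m₁ := by
    intro g
    change (θ (ιG g)).hom ≫ m₁ = m₁
    apply pullback.hom_ext
    · rw [Category.assoc, h11, ← Category.assoc, hG₁, Category.assoc, hqX.inv]
    · rw [Category.assoc, h12, hG₂]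
  have q1 : SGA1.IsQuot (θ.comp ιG) m₁ := by
    rcases h with ⟨h1, -⟩ | ⟨h1, -⟩
    · have : Flat (pullback.fst pP b) := inferInstance
      exact K467.QuotFlat.isQuot_of_flat_baseChange hqX sq1 hG₁ hG₃
    · refine TameBC.isQuot_of_tame_baseChange hqX ?_ sq1 hG₁ hG₃
      have := h1.map (pullback.fst pP b ≫ pP).appTop.hom
      rwa [map_natCast] at this
  have q2 : SGA1.IsQuot (actHom hqZ.inv sq2) m₂ := by
    rcases h with ⟨-, h1⟩ | ⟨-, h1⟩
    · have : Flat (pullback.snd pP pQ) := inferInstance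
      exact K467.QuotFlat.isQuot_of_flat_baseChange hqZ sq2 (actHom_fst hqZ.inv sq2) (actHom_snd hqZ.inv sq2)
    · refine TameBC.isQuot_of_tame_baseChange hqZ ?_ sq2 (actHom_fst hqZ.inv sq2) (actHom_snd hqZ.inv sq2)
      have := h1.map (pullback.fst pP pQ ≫ pP).appTop.hom
      rwa [map_natCast] at this
  rw [← hmm]
  refine K467.QuotFlat.isQuot_comp q1 q2 (fun k => by rw [hmm]; exact hm k) (fun g => ⟨ιG g, rfl⟩)
    (fun g => ⟨ιH g, ?_⟩)
  apply pullback.hom_ext
  · have h3 : (actHom hqZ.inv sq2 g).hom ≫ pullback.fst pP b = pullback.fst pP b := by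
      rw [← h21, ← Category.assoc, actHom_snd]
    rw [Category.assoc, Category.assoc, h3, h11, ← Category.assoc, hH₁]
  · rw [Category.assoc, Category.assoc, actHom_fst, h12, hH₂, reassoc_of% h12]

end Prod

end K755.ProdQuot
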