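import Groth.Agent.ZeroCyc.K755.SymRes
import Groth.Agent.ZeroCyc.K755.ProdQuot
import Groth.Agent.S2925

/-!
# Comparison morphisms for symmetric products
-/

set_option autoImplicit false

universe u
open CategoryTheory CategoryTheory.Limits AlgebraicGeometry
open scoped TensorProduct

namespace K755.SymMain

open K755.FibChart K755.SymRel K755.PullFib K755.Transfer K755.SymLocal K755.SymComp K755.ResFrac K755.SymRes
open Groth.Agent.Sga1.QuotBasic Groth.Agent.Sga1.QuotExists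

theorem surj_of_gen {A Q Y S' : Scheme.{u}} (m : A ⟶ Q) (α : Q ⟶ Y) (β : Q ⟶ S') {U : Q.Opens} {V : Y.Opens}
    {S₀' : S'.Opens} (eα : U ≤ α ⁻¹ᵁ V) (eβ : U ≤ β ⁻¹ᵁ S₀')
    (H : ∀ t : Γ(A, m ⁻¹ᵁ U), t ∈ gen ((m ≫ α).appLE V (m ⁻¹ᵁ U) (fun _ hx => eα hx)).hom
      ((m ≫ β).appLE S₀' (m ⁻¹ᵁ U) (fun _ hx => eβ hx)).hom Set.univ) :
    Function.Surjective (m.app U).hom := by
  intro t
  have h1 : t ∈ (m.app U).hom.range.toAddSubgroup := by
    refine map_gen _ _ (AddMonoidHom.id _) _ (fun v _ a => ?_) (H t)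
    refine ⟨(α.appLE V U eα).hom v * (β.appLE S₀' U eβ).hom a, ?_⟩
    rw [map_mul, Scheme.Hom.app_eq_appLE, ← CommRingCat.comp_apply, ← CommRingCat.comp_apply,
      Scheme.Hom.appLE_comp_appLE, Scheme.Hom.appLE_comp_appLE]
    rfl
  exact h1

theorem isIso_residueFieldMap {A Q Y S' : Scheme.{u}} (m : A ⟶ Q) (α : Q ⟶ Y) (β : Q ⟶ S') (y : A)
    (H : ∀ L : Subfield (A.residueField y), (∀ x, ((m ≫ α).residueFieldMap y).hom x ∈ L) →
      (∀ x, ((m ≫ β).residueFieldMap y).hom x ∈ L) → L = ⊤) : IsIso (m.residueFieldMap y) := by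
  let φ : Q.residueField (m y) →+* A.residueField y := (m.residueFieldMap y).hom
  have h1 := H φ.fieldRange (fun x => by
    rw [Scheme.residueFieldMap_comp]
    exact ⟨_, rfl⟩) (fun x => by
    rw [Scheme.residueFieldMap_comp]
    exact ⟨_, rfl⟩)
  have h2 : Function.Bijective φ := by
    refine ⟨φ.injective, fun x => ?_⟩
    have : x ∈ φ.fieldRange := by rw [h1]; trivial
    exact this
  exact (ConcreteCategory.isIso_iff_bijective (m.residueFieldMap y)).mpr h2

theorem equivariant_of {X S Z' S' : Scheme.{u}} {f : X ⟶ S} {f' : Z' ⟶ S'} {b : S' ⟶ S} {h : Z' ⟶ X} {d : ℕ}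
    {p : SymProd.fibPow f' d ⟶ SymProd.fibPow f d}
    (pr_p : ∀ i, p ≫ pr f i = pr f' i ≫ h) (bs_p : p ≫ bs f d = bs f' d ≫ b) (g : ULift.{u} (Equiv.Perm (Fin d))) :
    (SymProd.permActU f' d g).hom ≫ p = p ≫ (SymProd.permActU f d g).hom := by
  rw [SymProd.permActU_hom, SymProd.permActU_hom]
  apply WidePullback.hom_ext
  · intro i
    rw [Category.assoc, Category.assoc]
    have h1 : p ≫ WidePullback.π (fun _ : Fin d => f) i = WidePullback.π (fun _ : Fin d => f') i ≫ h := pr_p i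
    have h2 : p ≫ WidePullback.π (fun _ : Fin d => f) (g.down.symm i) =
      WidePullback.π (fun _ : Fin d => f') (g.down.symm i) ≫ h := pr_p _
    rw [SymProd.permHom_π, h1, h2, SymProd.permHom_π_assoc]
  · rw [Category.assoc, Category.assoc]
    have h1 : p ≫ WidePullback.base (fun _ : Fin d => f) = WidePullback.base (fun _ : Fin d => f') ≫ b := bs_p
    rw [SymProd.permHom_base, h1, SymProd.permHom_base_assoc]

/-- Uniqueness of quotients: a morphism between quotients of the same scheme is an isomorphism. -/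
theorem isIso_of_isQuot {X Y Y' : Scheme.{u}} {G : Type u} [Group G] [Finite G] {ρ : G →* Aut X} {p : X ⟶ Y}
    {p' : X ⟶ Y'} (hp : SGA1.IsQuot ρ p) (hp' : SGA1.IsQuot ρ p') (m : Y ⟶ Y') (hm : p ≫ m = p') : IsIso m := by
  obtain ⟨m', hm', -⟩ := Groth.Agent.S2925.result ρ p' hp' Y p hp.inv
  refine ⟨m', ?_, ?_⟩
  · refine (Groth.Agent.S2925.result ρ p hp Y p hp.inv).unique ?_ (Category.comp_id _)
    exact (Category.assoc _ _ _).symm.trans ((congrArg (fun k => k ≫ m') hm).trans hm')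
  · refine (Groth.Agent.S2925.result ρ p' hp' Y' p' hp'.inv).unique ?_ (Category.comp_id _)
    exact (Category.assoc _ _ _).symm.trans ((congrArg (fun k => k ≫ m) hm').trans hm)

section BaseChange

variable {X S S' Y Y' : Scheme.{u}} (f : X ⟶ S) (d : ℕ)
    (q : SymProd.fibPow f d ⟶ Y) (g : Y ⟶ S) (hq : SymProd.IsSymProd f d q g)
    (gS : S' ⟶ S)
    (ρ' : ULift.{u} (Equiv.Perm (Fin d)) →* Aut (pullback (WidePullback.base fun _ : Fin d => f) gS))
    (hρ' : ∀ σ, (ρ' σ).hom ≫ pullback.fst (WidePullback.base fun _ : Fin d => f) gS =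
        pullback.fst (WidePullback.base fun _ : Fin d => f) gS ≫ SymProd.permHom f d σ.down ∧
      (ρ' σ).hom ≫ pullback.snd (WidePullback.base fun _ : Fin d => f) gS =
        pullback.snd (WidePullback.base fun _ : Fin d => f) gS)
    (r : pullback (WidePullback.base fun _ : Fin d => f) gS ⟶ Y') (hr : SGA1.IsQuot ρ' r)
    (m : Y' ⟶ pullback g gS)
    (hm₁ : r ≫ m ≫ pullback.fst g gS = pullback.fst (WidePullback.base fun _ : Fin d => f) gS ≫ q)
    (hm₂ : r ≫ m ≫ pullback.snd g gS = pullback.snd (WidePullback.base fun _ : Fin d => f) gS)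

include hq hρ' hr hm₁ hm₂

/-- The symmetric product of the base change, in terms of its own fibre power. -/
theorem exists_isSymProd : ∃ (p : SymProd.fibPow (pullback.snd f gS) d ⟶ SymProd.fibPow f d)
    (r' : SymProd.fibPow (pullback.snd f gS) d ⟶ Y'),
    (∀ i, p ≫ pr f i = pr (pullback.snd f gS) i ≫ pullback.fst f gS) ∧
    (p ≫ bs f d = bs (pullback.snd f gS) d ≫ gS) ∧
    SymProd.IsSymProd (pullback.snd f gS) d r' (m ≫ pullback.snd g gS) ∧
    r' ≫ (m ≫ pullback.fst g gS) = p ≫ q := by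
  have sq : IsPullback (pullback.fst f gS) (pullback.snd f gS) f gS := IsPullback.of_hasPullback f gS
  let p := fmap sq.w d
  have pr_p : ∀ i, p ≫ pr f i = pr (pullback.snd f gS) i ≫ pullback.fst f gS := fmap_pr sq.w
  have bs_p : p ≫ bs f d = bs (pullback.snd f gS) d ≫ gS := fmap_bs sq.w
  have sqd : IsPullback p (bs (pullback.snd f gS) d) (bs f d) gS := isPullback_fibPow sq pr_p bs_p
  let Φ := sqd.isoPullback
  have hΦ₁ : Φ.hom ≫ pullback.fst (bs f d) gS = p := sqd.isoPullback_hom_fst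
  have hΦ₂ : Φ.hom ≫ pullback.snd (bs f d) gS = bs (pullback.snd f gS) d := sqd.isoPullback_hom_snd
  have heq : ∀ γ, (SymProd.permActU (pullback.snd f gS) d γ).hom ≫ Φ.hom = Φ.hom ≫ (ρ' γ).hom := by
    intro γ
    apply pullback.hom_ext
    · have h1 : (ρ' γ).hom ≫ pullback.fst (bs f d) gS = pullback.fst (bs f d) gS ≫ SymProd.permHom f d γ.down :=
        (hρ' γ).1
      rw [Category.assoc, Category.assoc, hΦ₁, h1, ← Category.assoc, hΦ₁]
      exact equivariant_of pr_p bs_p γ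
    · have h1 : (ρ' γ).hom ≫ pullback.snd (bs f d) gS = pullback.snd (bs f d) gS := (hρ' γ).2
      rw [Category.assoc, Category.assoc, hΦ₂, h1, hΦ₂]
      exact bs_inv (pullback.snd f gS) γ
  refine ⟨p, Φ.hom ≫ r, pr_p, bs_p, ⟨?_, ?_⟩, ?_⟩
  · refine K467.QuotFlat.isQuot_of_flat_baseChange (p' := Φ.hom ≫ r) (qY := 𝟙 Y') hr
      (IsPullback.of_horiz_isIso ⟨by rw [Category.comp_id]⟩) heq (fun γ => ?_)
    rw [← Category.assoc]
    refine (congrArg (fun k => k ≫ r) (heq γ)).trans ?_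
    rw [Category.assoc]
    exact congrArg (fun k => Φ.hom ≫ k) (hr.inv γ)
  · rw [Category.assoc, hm₂]
    exact hΦ₂
  · rw [Category.assoc, hm₁, ← Category.assoc]
    exact congrArg (fun k => k ≫ q) hΦ₁

theorem isIso_residueFieldMap_bc (y : Y') : IsIso (m.residueFieldMap y) := by
  obtain ⟨p, r', pr_p, bs_p, hr', hm'⟩ := exists_isSymProd f d q g hq gS ρ' hρ' r hr m hm₁ hm₂
  have sq : IsPullback (pullback.fst f gS) (pullback.snd f gS) f gS := IsPullback.of_hasPullback f gS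
  apply isIso_residueFieldMap m (pullback.fst g gS) (pullback.snd g gS)
  intro L h1 h2
  exact subfield_eq_top hq hr' hm' sq.w pr_p bs_p
    (fun S₀ S₀' hS₀ hS₀' le => gen_of_isPullback sq hS₀ hS₀' le) y L h1 h2

theorem isClosedImmersion_bc [Flat (pullback.snd f gS)] : IsClosedImmersion m := by
  obtain ⟨p, r', pr_p, bs_p, hr', hm'⟩ := exists_isSymProd f d q g hq gS ρ' hρ' r hr m hm₁ hm₂
  have sq : IsPullback (pullback.fst f gS) (pullback.snd f gS) f gS := IsPullback.of_hasPullback f gS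
  have sqY : IsPullback (pullback.fst g gS) (pullback.snd g gS) g gS := IsPullback.of_hasPullback g gS
  apply isClosedImmersion_of_cover
  intro y₀
  obtain ⟨S₀, hS₀, hx⟩ := exists_affine_mem (g (pullback.fst g gS y₀))
  obtain ⟨V, hV, hxV, eV⟩ := TopologicalSpace.Opens.isBasis_iff_nbhd.mp Y.isBasis_affineOpens
    (show pullback.fst g gS y₀ ∈ g ⁻¹ᵁ S₀ from hx)
  obtain ⟨S₀', hS₀', hxS', eS'⟩ := TopologicalSpace.Opens.isBasis_iff_nbhd.mp S'.isBasis_affineOpens
    (show pullback.snd g gS y₀ ∈ gS ⁻¹ᵁ S₀ by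
      change gS (pullback.snd g gS y₀) ∈ S₀
      rw [← Scheme.Hom.comp_apply, ← pullback.condition, Scheme.Hom.comp_apply]
      exact hx)
  let U : (pullback g gS).Opens := pullback.fst g gS ⁻¹ᵁ V ⊓ pullback.snd g gS ⁻¹ᵁ S₀'
  have G₀ := gen_of_isPullback sq hS₀ hS₀' eS'
  have R := G₀.rel sq.w pr_p bs_p hS₀ hS₀' eS'
  have hU : IsAffineOpen U := (gen_of_isPullback sqY hS₀ hS₀' eS' V hV eV U rfl).1
  have hW : m ⁻¹ᵁ U = (m ≫ pullback.fst g gS) ⁻¹ᵁ V ⊓ (m ≫ pullback.snd g gS) ⁻¹ᵁ S₀' := by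
    rw [Scheme.Hom.comp_preimage, Scheme.Hom.comp_preimage]
    rfl
  refine ⟨U, ⟨hxV, hxS'⟩, hU, isAffineOpen_W R hq hr' hm' hV eV hW, ?_⟩
  apply surj_of_gen m (pullback.fst g gS) (pullback.snd g gS)
    (show U ≤ pullback.fst g gS ⁻¹ᵁ V from fun _ hx => hx.1) (show U ≤ pullback.snd g gS ⁻¹ᵁ S₀' from fun _ hx => hx.2)
  intro t
  have := hq.isQuot.affine
  exact mem_gen_of R hq hr' hm' eV hW _ _ t (fun s' z hz =>
    R.mem_gen (hV.preimage q) (stable_preimage hq.isQuot.inv V) (base_le hq eV) s' hz)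

theorem isIso_bc (hn : ∀ n : ℕ, 0 < n → IsUnit ((n : ℕ) : Γ(S', ⊤))) : IsIso m := by
  let qb : pullback (bs f d) gS ⟶ pullback g gS := r ≫ m
  have h1 : qb ≫ pullback.fst g gS = pullback.fst (bs f d) gS ≫ q := by
    rw [Category.assoc]; exact hm₁
  have h2 : qb ≫ pullback.snd g gS = pullback.snd (bs f d) gS := by
    rw [Category.assoc]; exact hm₂
  have sq : IsPullback (pullback.fst (bs f d) gS) qb q (pullback.fst g gS) := by
    have outer : IsPullback (qb ≫ pullback.snd g gS) (pullback.fst (bs f d) gS) gS (q ≫ g) := by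
      rw [h2, hq.over]
      exact (IsPullback.of_hasPullback (bs f d) gS).flip
    exact (IsPullback.of_right outer h1 (IsPullback.of_hasPullback g gS).flip).flip
  have hqb : SGA1.IsQuot ρ' qb := by
    refine TameBC.isQuot_of_tame_baseChange hq.isQuot ?_ sq (fun γ => (hρ' γ).1) (fun γ => ?_)
    · have h3 := (hn _ (Nat.factorial_pos d)).map (pullback.snd g gS).appTop.hom
      rw [map_natCast] at h3
      rwa [Nat.card_eq_fintype_card, Fintype.card_ulift, Fintype.card_perm, Fintype.card_fin]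
    · rw [← Category.assoc]
      exact congrArg (fun k => k ≫ m) (hr.inv γ)
  exact isIso_of_isQuot hr hqb m rfl

end BaseChange

end K755.SymMain
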