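import Groth.Agent.ZeroCyc.K755.SymMain
import Mathlib.AlgebraicGeometry.IdealSheaf.Subscheme

/-!
# Symmetric products of closed subschemes
-/

set_option autoImplicit false

universe u
open CategoryTheory CategoryTheory.Limits AlgebraicGeometry
open scoped TensorProduct

namespace K755.SymClosed

open K755.FibChart K755.SymRel K755.PullFib K755.Transfer K755.SymLocal K755.SymComp K755.ResFrac K755.SymRes K755.SymMain
open Groth.Agent.Sga1.QuotBasic Groth.Agent.Sga1.QuotExists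

section Alg

variable {R R' A' : Type*} [CommRing R] [CommRing R'] [CommRing A'] (π : R →+* R') (α : A' →+* R')

theorem mul_mem_gen_univ {x y : R'} (hx : x ∈ gen π α Set.univ) (hy : y ∈ gen π α Set.univ) :
    x * y ∈ gen π α Set.univ := by
  refine map_gen π α (AddMonoidHom.mulRight y) _ (fun r _ a => ?_) hx
  change π r * α a * y ∈ _
  rw [mul_comm (π r), mul_assoc]
  exact coeff_mul_mem_gen π α a (smul_mem_gen π α (I := Set.univ) (fun _ _ => Set.mem_univ _) hy)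

theorem one_mem_gen_univ : (1 : R') ∈ gen π α Set.univ := by
  have := mul_mem_gen π α (Set.mem_univ (1 : R)) 1
  rwa [map_one, map_one, mul_one] at this

theorem prod_mem_gen_univ {ι : Type*} (s : Finset ι) (x : ι → R') (hx : ∀ i, x i ∈ gen π α Set.univ) :
    ∏ i ∈ s, x i ∈ gen π α Set.univ := by
  classical
  induction s using Finset.induction_on with
  | empty => rw [Finset.prod_empty]; exact one_mem_gen_univ π α
  | insert i s hi ih => rw [Finset.prod_insert hi]; exact mul_mem_gen_univ π α (hx i) ih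

end Alg

section Iso

/-- A morphism which is an isomorphism over an affine cover of the target. -/
theorem isIso_of_cover {A B : Scheme.{u}} (m : A ⟶ B)
    (H : ∀ y : B, ∃ U : B.Opens, y ∈ U ∧ IsAffineOpen U ∧ IsAffineOpen (m ⁻¹ᵁ U) ∧ Function.Bijective (m.app U).hom) :
    IsIso m := by
  choose U hyU hU hmU hs using H
  have hsup : iSup U = ⊤ := top_le_iff.mp (fun x _ => TopologicalSpace.Opens.mem_iSup.mpr ⟨x, hyU x⟩)
  change MorphismProperty.isomorphisms Scheme m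
  rw [IsZariskiLocalAtTarget.iff_of_iSup_eq_top (P := MorphismProperty.isomorphisms Scheme) U hsup]
  intro i
  change IsIso (m ∣_ U i)
  have h1 : IsIso (U i).toSpecΓ := by
    rw [← (hU i).isoSpec_hom]
    infer_instance
  have h2 : IsIso (m ⁻¹ᵁ U i).toSpecΓ := by
    rw [← (hmU i).isoSpec_hom]
    infer_instance
  have h3 : IsIso (m.app (U i)) := (ConcreteCategory.isIso_iff_bijective (m.app (U i))).mpr (hs i)
  have h4 : IsIso (m ∣_ U i ≫ (U i).toSpecΓ) := by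
    rw [← Scheme.Opens.toSpecΓ_naturality]
    infer_instance
  exact IsIso.of_isIso_comp_right _ (U i).toSpecΓ

end Iso

section Chart

variable {X S Z' S' : Scheme.{u}} {f : X ⟶ S} {f' : Z' ⟶ S'} {b : S' ⟶ S} {h : Z' ⟶ X} {d : ℕ}
  {p : SymProd.fibPow f' d ⟶ SymProd.fibPow f d} {S₀ : S.Opens} {S₀' : S'.Opens} (R : Rel f f' b h p S₀ S₀')
include R

/-- All sections over the preimage of a chart are generated by coefficients and pull backs. -/
theorem mem_gen_univ_chart {J : Type} (c : Fin d → J) (U : J → X.Opens) (hU : ∀ j, IsAffineOpen (U j))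
    (eU : ∀ j, U j ≤ f ⁻¹ᵁ S₀) (z : Γ(SymProd.fibPow f' d, pre p (bs f' d ⁻¹ᵁ S₀') (chart f c S₀ U))) :
    z ∈ gen (pb p (bs f' d ⁻¹ᵁ S₀') (chart f c S₀ U))
      (cf p (bs f' d ⁻¹ᵁ S₀') ((bs f' d).app S₀').hom (chart f c S₀ U)) Set.univ := by
  let O' := pre p (bs f' d ⁻¹ᵁ S₀') (chart f c S₀ U)
  have hO' : O' = chart f' c S₀' (fun j => h ⁻¹ᵁ U j ⊓ f' ⁻¹ᵁ S₀') := R.pre_chart c U
  have ep : ∀ i, O' ≤ pr f' i ⁻¹ᵁ (h ⁻¹ᵁ U (c i) ⊓ f' ⁻¹ᵁ S₀') := by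
    rw [hO']
    exact chart_le_pr S₀' (fun j => h ⁻¹ᵁ U j ⊓ f' ⁻¹ᵁ S₀')
  have eb : O' ≤ bs f' d ⁻¹ᵁ S₀' := pre_le' p _ _
  have hUa : ∀ j, IsAffineOpen (h ⁻¹ᵁ U j ⊓ f' ⁻¹ᵁ S₀') := fun j => R.affine _ (hU j) (eU j)
  have eU' : ∀ j, h ⁻¹ᵁ U j ⊓ f' ⁻¹ᵁ S₀' ≤ f' ⁻¹ᵁ S₀' := fun j => fun _ hx => hx.2
  obtain ⟨hOa, hbij⟩ := bijective_Θ f' c R.hS₀' hUa eU' hO' eb ep
  letI := fun j => algOf f' S₀' (h ⁻¹ᵁ U j ⊓ f' ⁻¹ᵁ S₀') (eU' j)
  letI := algOf (bs f' d) S₀' O' eb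
  have hcoef : ∀ a, algebraMap Γ(S', S₀') Γ(SymProd.fibPow f' d, O') a =
      cf p (bs f' d ⁻¹ᵁ S₀') ((bs f' d).app S₀').hom (chart f c S₀ U) a := by
    intro a
    change ((bs f' d).appLE S₀' O' eb).hom a = (_ : _ →+* _) (((bs f' d).app S₀').hom a)
    rw [Scheme.Hom.app_eq_appLE, ← CommRingCat.comp_apply, Scheme.Hom.appLE_map]
  obtain ⟨w, rfl⟩ := hbij.2 z
  have hcoord : ∀ (i : Fin d) (y : Γ(Z', h ⁻¹ᵁ U (c i) ⊓ f' ⁻¹ᵁ S₀')),
      coordO f' c eU' eb ep i y ∈ gen (pb p (bs f' d ⁻¹ᵁ S₀') (chart f c S₀ U))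
      (cf p (bs f' d ⁻¹ᵁ S₀') ((bs f' d).app S₀').hom (chart f c S₀ U)) Set.univ := by
    intro i y
    have h1 : y ∈ Submodule.span Γ(S', S₀') (Set.range
        (h.appLE (U (c i)) (h ⁻¹ᵁ U (c i) ⊓ f' ⁻¹ᵁ S₀') (fun _ hx => hx.1)).hom) := by
      have : Submodule.span Γ(S', S₀') (Set.range
        (h.appLE (U (c i)) (h ⁻¹ᵁ U (c i) ⊓ f' ⁻¹ᵁ S₀') (fun _ hx => hx.1)).hom) = ⊤ := R.span _ (hU (c i)) (eU (c i))
      rw [this]
      trivial
    have h2 : coordO f' c eU' eb ep i y ∈ Submodule.span Γ(S', S₀')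
        {x : Γ(SymProd.fibPow f' d, O') | ∃ r, r ∈ (Set.univ : Set Γ(SymProd.fibPow f d, chart f c S₀ U)) ∧
          x = pb p (bs f' d ⁻¹ᵁ S₀') (chart f c S₀ U) r} := by
      have h3 := Submodule.mem_map_of_mem (f := (coordO f' c eU' eb ep i).toLinearMap) h1
      rw [Submodule.map_span] at h3
      refine Submodule.span_mono ?_ h3
      rintro _ ⟨_, ⟨a, rfl⟩, rfl⟩
      refine ⟨((pr f i).appLE (U (c i)) (chart f c S₀ U) (chart_le_pr S₀ U i)).hom a, trivial, ?_⟩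
      change ((pr f' i).appLE _ _ _).hom ((h.appLE _ _ _).hom a) = (p.appLE _ _ _).hom (((pr f i).appLE _ _ _).hom a)
      rw [← CommRingCat.comp_apply, ← CommRingCat.comp_apply, Scheme.Hom.appLE_comp_appLE,
        Scheme.Hom.appLE_comp_appLE]
      simp only [R.pr_p]
    exact mem_gen_of_mem_span _ _ (A' := Γ(S', S₀')) hcoef h2
  induction w using PiTensorProduct.induction_on with
  | smul_tprod a y =>
    rw [map_smul, ColourRing.Θ_tprod, Algebra.smul_def, hcoef]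
    apply coeff_mul_mem_gen
    exact prod_mem_gen_univ _ _ _ _ (fun i => hcoord i (y i))
  | add x y hx hy =>
    rw [map_add]
    exact add_mem hx hy

end Chart

section Closed

variable {X Z S : Scheme.{u}} {f : X ⟶ S} {d : ℕ} {i : Z ⟶ X} [IsClosedImmersion i]
  {p : SymProd.fibPow (i ≫ f) d ⟶ SymProd.fibPow f d}
  (pr_p : ∀ j, p ≫ pr f j = pr (i ≫ f) j ≫ i) (bs_p : p ≫ bs f d = bs (i ≫ f) d ≫ 𝟙 S)

/-- The generation condition, for closed subschemes. -/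
theorem gen_closed (S₀ S₀' : S.Opens) (hS₀ : IsAffineOpen S₀) (hS₀' : IsAffineOpen S₀') (le : S₀' ≤ 𝟙 S ⁻¹ᵁ S₀) :
    Gen f (i ≫ f) i S₀ S₀' := by
  have sq : IsPullback (𝟙 Z) (i ≫ f) (i ≫ f) (𝟙 S) := IsPullback.of_horiz_isIso ⟨by simp⟩
  have h1 := (gen_of_isClosedImmersion (f := f) (i := i) S₀).comp (gen_of_isPullback sq hS₀ hS₀' le) sq.w le
  rwa [Category.id_comp] at h1

include pr_p bs_p in
theorem rel_closed (S₀ : S.Opens) (hS₀ : IsAffineOpen S₀) : Rel f (i ≫ f) (𝟙 S) i p S₀ S₀ :=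
  (gen_of_isClosedImmersion (f := f) (i := i) S₀).rel (by rw [Category.comp_id]) pr_p bs_p hS₀ hS₀ le_rfl

include bs_p in
theorem pre_closed {S₀ : S.Opens} {O : (SymProd.fibPow f d).Opens} (e : O ≤ bs f d ⁻¹ᵁ S₀) :
    pre p (bs (i ≫ f) d ⁻¹ᵁ S₀) O = p ⁻¹ᵁ O := by
  apply le_antisymm (pre_le _ _ _)
  intro x hx
  refine ⟨hx, ?_⟩
  have h1 : bs (i ≫ f) d x = bs f d (p x) := by
    rw [← Scheme.Hom.comp_apply, bs_p, Category.comp_id]
  change bs (i ≫ f) d x ∈ S₀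
  rw [h1]
  exact e hx

include pr_p bs_p in
/-- A power of a closed immersion is a closed immersion. -/
theorem isClosedImmersion_fibPow : IsClosedImmersion p := by
  apply isClosedImmersion_of_cover
  intro y
  obtain ⟨S₀, hS₀, hy⟩ := exists_affine_mem (bs f d y)
  obtain ⟨c, U, hU, eU, hyc, -⟩ := exists_chart f y hy
  have R := rel_closed (f := f) pr_p bs_p S₀ hS₀
  have hpre := pre_closed (f := f) bs_p (chart_le_base (c := c) S₀ U)
  have haff := R.isAffineOpen_pre_chart c U hU eU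
  rw [hpre] at haff
  refine ⟨chart f c S₀ U, hyc, isAffineOpen_chart f c hS₀ hU eU, haff, ?_⟩
  have h1 : ∀ z : Γ(SymProd.fibPow (i ≫ f) d, pre p (bs (i ≫ f) d ⁻¹ᵁ S₀) (chart f c S₀ U)),
      z ∈ (pb p (bs (i ≫ f) d ⁻¹ᵁ S₀) (chart f c S₀ U)).range.toAddSubgroup := by
    intro z
    refine map_gen _ _ (AddMonoidHom.id _) _ (fun r _ a => ?_) (mem_gen_univ_chart R c U hU eU z)
    refine ⟨r * ((bs f d).appLE S₀ (chart f c S₀ U) (chart_le_base S₀ U)).hom a, ?_⟩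
    rw [map_mul, cf_app]
    change _ * (p.appLE _ _ _).hom (((bs f d).appLE _ _ _).hom a) = _ * ((bs (i ≫ f) d).appLE _ _ _).hom a
    rw [← CommRingCat.comp_apply, Scheme.Hom.appLE_comp_appLE]
    simp only [bs_p, Category.comp_id]
  intro z
  obtain ⟨r, hr⟩ := h1 (((SymProd.fibPow (i ≫ f) d).presheaf.map (eqToHom hpre).op).hom z)
  refine ⟨r, ?_⟩
  have h2 : (p.appLE _ _ (pre_le p (bs (i ≫ f) d ⁻¹ᵁ S₀) (chart f c S₀ U))) =
      p.app (chart f c S₀ U) ≫ (SymProd.fibPow (i ≫ f) d).presheaf.map (eqToHom hpre).op := by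
    rw [Scheme.Hom.app_eq_appLE, Scheme.Hom.appLE_map]
  have h3 : (p.appLE _ _ (pre_le p (bs (i ≫ f) d ⁻¹ᵁ S₀) (chart f c S₀ U))).hom r =
    ((SymProd.fibPow (i ≫ f) d).presheaf.map (eqToHom hpre).op).hom z := hr
  rw [h2, CommRingCat.comp_apply] at h3
  have h4 : Function.Injective ((SymProd.fibPow (i ≫ f) d).presheaf.map (eqToHom hpre).op).hom :=
    ((SymProd.fibPow (i ≫ f) d).presheaf.mapIso (eqToIso hpre).op).commRingCatIsoToRingEquiv.injective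
  exact h4 h3

end Closed

section Average

variable {X : Scheme.{u}} {G : Type u} [Group G] [Fintype G] {ρ : G →* Aut X}

theorem sum_mem_invSub {O : X.Opens} (s : Stable ρ O) (r : Γ(X, O)) : ∑ g : G, lact s g r ∈ invSub s := by
  rw [mem_invSub_iff]
  intro γ
  rw [map_sum]
  refine Fintype.sum_equiv (Equiv.mulLeft γ) _ _ (fun g => ?_)
  rw [Equiv.coe_mulLeft, map_mul]
  rfl

variable {X' : Scheme.{u}} {ρ' : G →* Aut X'} (p : X' ⟶ X) (W' : X'.Opens)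

theorem mem_gen_of_average {A' : Type u} [CommRing A'] (α : A' →+* Γ(X', W'))
    (hp : ∀ g, (ρ' g).hom ≫ p = p ≫ (ρ g).hom) (sW : Stable ρ' W') {O : X.Opens} (s : Stable ρ O)
    (s' : Stable ρ' (pre p W' O)) (hn : IsUnit ((Fintype.card G : ℕ) : A')) (hs : Function.Surjective (pb p W' O))
    {z : Γ(X', pre p W' O)} (hz : z ∈ invSub s') : z ∈ gen (pb p W' O) (cf p W' α O) (invSub s : Set Γ(X, O)) := by
  obtain ⟨r, rfl⟩ := hs z
  obtain ⟨n, hn⟩ := hn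
  have h1 : pb p W' O (∑ g : G, lact s g r) = (Fintype.card G : Γ(X', pre p W' O)) * pb p W' O r := by
    rw [map_sum]
    have h2 : ∀ g : G, pb p W' O (lact s g r) = pb p W' O r := by
      intro g
      have h3 := pb_act p W' hp sW s g⁻¹ r
      have h4 : (act ρ' (stable_pre p W' hp sW s) g⁻¹).hom (pb p W' O r) = pb p W' O r := hz g⁻¹
      rw [h4] at h3
      exact h3
    rw [Finset.sum_congr rfl (fun g _ => h2 g), Finset.sum_const, nsmul_eq_mul]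
    rfl
  have h5 := mul_mem_gen (pb p W' O) (cf p W' α O) (I := (invSub s : Set Γ(X, O))) (sum_mem_invSub s r) (↑n⁻¹ : A')
  rw [h1] at h5
  have h6 : (Fintype.card G : Γ(X', pre p W' O)) * cf p W' α O (↑n⁻¹ : A') = 1 := by
    rw [← map_natCast (cf p W' α O), ← hn, ← map_mul, Units.mul_inv, map_one]
  rw [mul_right_comm, h6, one_mul] at h5
  exact h5

end Average

section Main

variable {X Z S Y W : Scheme.{u}} (f : X ⟶ S) (d : ℕ)
    (q : SymProd.fibPow f d ⟶ Y) (g : Y ⟶ S) (hq : SymProd.IsSymProd f d q g)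
    (i : Z ⟶ X) [IsClosedImmersion i]
    (r : SymProd.fibPow (i ≫ f) d ⟶ W) (gW : W ⟶ S) (hr : SymProd.IsSymProd (i ≫ f) d r gW)
    (m : W ⟶ (SymProd.fibPowMap (i ≫ f) d f i rfl ≫ q).ker.subscheme)
    (hm : r ≫ m ≫ (SymProd.fibPowMap (i ≫ f) d f i rfl ≫ q).ker.subschemeι =
      SymProd.fibPowMap (i ≫ f) d f i rfl ≫ q)
include hq hr hm

theorem over_eq : m ≫ (SymProd.fibPowMap (i ≫ f) d f i rfl ≫ q).ker.subschemeι ≫ g = gW := by
  refine (Groth.Agent.S2925.result _ r hr.isQuot S (bs (i ≫ f) d) (bs_inv (i ≫ f))).unique ?_ hr.over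
  have h1 : r ≫ m ≫ (SymProd.fibPowMap (i ≫ f) d f i rfl ≫ q).ker.subschemeι ≫ g =
      (r ≫ m ≫ (SymProd.fibPowMap (i ≫ f) d f i rfl ≫ q).ker.subschemeι) ≫ g := by
    simp only [Category.assoc]
  refine h1.trans ?_
  rw [hm, Category.assoc, hq.over]
  exact SymProd.fibPowMap_base _ _ _ _ _

theorem isIso_residueFieldMap_closed (w : W) : IsIso (m.residueFieldMap w) := by
  obtain rfl := over_eq f d q g hq i r gW hr m hm
  apply isIso_residueFieldMap m (SymProd.fibPowMap (i ≫ f) d f i rfl ≫ q).ker.subschemeι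
    ((SymProd.fibPowMap (i ≫ f) d f i rfl ≫ q).ker.subschemeι ≫ g)
  intro L h1 h2
  exact subfield_eq_top hq hr hm (f' := i ≫ f) (b := 𝟙 S) (h := i) (by rw [Category.comp_id])
    (fun j => SymProd.fibPowMap_π _ _ _ _ _ j) ((SymProd.fibPowMap_base _ _ _ _ _).trans (Category.comp_id _).symm)
    gen_closed w L h1 h2

theorem exists_cover (y : (SymProd.fibPowMap (i ≫ f) d f i rfl ≫ q).ker.subscheme) :
    ∃ (S₀ : S.Opens) (V : Y.Opens) (hS₀ : IsAffineOpen S₀) (hV : IsAffineOpen V) (eV : V ≤ g ⁻¹ᵁ S₀),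
      y ∈ (SymProd.fibPowMap (i ≫ f) d f i rfl ≫ q).ker.subschemeι ⁻¹ᵁ V ∧
      IsAffineOpen (m ⁻¹ᵁ ((SymProd.fibPowMap (i ≫ f) d f i rfl ≫ q).ker.subschemeι ⁻¹ᵁ V)) ∧
      ((∀ (s' : Stable (SymProd.permActU (i ≫ f) d) (pre (SymProd.fibPowMap (i ≫ f) d f i rfl) (bs (i ≫ f) d ⁻¹ᵁ S₀) (q ⁻¹ᵁ V))),
      ∀ z ∈ invSub s', z ∈ gen (pb (SymProd.fibPowMap (i ≫ f) d f i rfl) (bs (i ≫ f) d ⁻¹ᵁ S₀) (q ⁻¹ᵁ V))
        (cf (SymProd.fibPowMap (i ≫ f) d f i rfl) (bs (i ≫ f) d ⁻¹ᵁ S₀) ((bs (i ≫ f) d).app S₀).hom (q ⁻¹ᵁ V))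
        (invSub (stable_preimage hq.isQuot.inv V) : Set Γ(SymProd.fibPow f d, q ⁻¹ᵁ V))) →
        Function.Surjective (m.app ((SymProd.fibPowMap (i ≫ f) d f i rfl ≫ q).ker.subschemeι ⁻¹ᵁ V)).hom) := by
  obtain rfl := over_eq f d q g hq i r gW hr m hm
  set ι := (SymProd.fibPowMap (i ≫ f) d f i rfl ≫ q).ker.subschemeι
  obtain ⟨S₀, hS₀, hx⟩ := exists_affine_mem (g (ι y))
  obtain ⟨V, hV, hxV, eV⟩ := TopologicalSpace.Opens.isBasis_iff_nbhd.mp Y.isBasis_affineOpens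
    (show ι y ∈ g ⁻¹ᵁ S₀ from hx)
  have R : Rel f (i ≫ f) (𝟙 S) i (SymProd.fibPowMap (i ≫ f) d f i rfl) S₀ S₀ :=
    rel_closed (fun j => SymProd.fibPowMap_π _ _ _ _ _ j)
      ((SymProd.fibPowMap_base _ _ _ _ _).trans (Category.comp_id _).symm) S₀ hS₀
  have eι : ι ⁻¹ᵁ V ≤ (ι ≫ g) ⁻¹ᵁ S₀ := ι.preimage_mono eV
  have hW : m ⁻¹ᵁ (ι ⁻¹ᵁ V) = (m ≫ ι) ⁻¹ᵁ V ⊓ (m ≫ ι ≫ g) ⁻¹ᵁ S₀ :=
    (inf_eq_left.mpr (fun x hx => eι (show m x ∈ ι ⁻¹ᵁ V from hx))).symm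
  refine ⟨S₀, V, hS₀, hV, eV, hxV, isAffineOpen_W R hq hr hm hV eV hW, fun H => ?_⟩
  apply surj_of_gen m ι (ι ≫ g) (V := V) (S₀' := S₀) le_rfl eι
  intro t
  exact mem_gen_of R hq hr hm eV hW _ _ t H

theorem isClosedImmersion_closed [Flat (i ≫ f)] : IsClosedImmersion m := by
  apply isClosedImmersion_of_cover
  intro y
  obtain ⟨S₀, V, hS₀, hV, eV, hy, haff, H⟩ := exists_cover f d q g hq i r gW hr m hm y
  have R : Rel f (i ≫ f) (𝟙 S) i (SymProd.fibPowMap (i ≫ f) d f i rfl) S₀ S₀ :=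
    rel_closed (fun j => SymProd.fibPowMap_π _ _ _ _ _ j)
      ((SymProd.fibPowMap_base _ _ _ _ _).trans (Category.comp_id _).symm) S₀ hS₀
  refine ⟨_, hy, hV.preimage _, haff, H (fun s' z hz => ?_)⟩
  have := hq.isQuot.affine
  exact R.mem_gen (hV.preimage q) (stable_preimage hq.isQuot.inv V) (base_le hq eV) s' hz

theorem isIso_closed (hn : ∀ n : ℕ, 0 < n → IsUnit ((n : ℕ) : Γ(S, ⊤))) : IsIso m := by
  apply isIso_of_cover
  intro y
  obtain ⟨S₀, V, hS₀, hV, eV, hy, haff, H⟩ := exists_cover f d q g hq i r gW hr m hm y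
  have pr_p : ∀ j, SymProd.fibPowMap (i ≫ f) d f i rfl ≫ pr f j = pr (i ≫ f) j ≫ i :=
    fun j => SymProd.fibPowMap_π _ _ _ _ _ j
  have bs_p : SymProd.fibPowMap (i ≫ f) d f i rfl ≫ bs f d = bs (i ≫ f) d ≫ 𝟙 S :=
    (SymProd.fibPowMap_base _ _ _ _ _).trans (Category.comp_id _).symm
  have hcl := isClosedImmersion_fibPow (f := f) pr_p bs_p
  have R : Rel f (i ≫ f) (𝟙 S) i (SymProd.fibPowMap (i ≫ f) d f i rfl) S₀ S₀ := rel_closed pr_p bs_p S₀ hS₀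
  have := hq.isQuot.affine
  have hO : IsAffineOpen (q ⁻¹ᵁ V) := hV.preimage q
  refine ⟨_, hy, hV.preimage _, haff, ?_, H (fun s' z hz => ?_)⟩
  · have hmono : Mono (SymProd.fibPowMap (i ≫ f) d f i rfl ≫ q).ker.subschemeι := inferInstance
    have hqc : QuasiCompact (SymProd.fibPowMap (i ≫ f) d f i rfl ≫ q) := inferInstance
    have h1 : r ≫ m = (SymProd.fibPowMap (i ≫ f) d f i rfl ≫ q).toImage := by
      rw [← cancel_mono (SymProd.fibPowMap (i ≫ f) d f i rfl ≫ q).ker.subschemeι, Category.assoc, hm]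
      exact (Scheme.Hom.toImage_imageι _).symm
    have h2 := Scheme.Hom.toImage_app_injective (SymProd.fibPowMap (i ≫ f) d f i rfl ≫ q) ⟨V, hV⟩
    have h3 : Function.Injective ((r ≫ m).app
        ((SymProd.fibPowMap (i ≫ f) d f i rfl ≫ q).ker.subschemeι ⁻¹ᵁ V)).hom := by
      rw [h1]
      exact h2
    intro a b hab
    apply h3
    rw [Scheme.Hom.comp_app]
    exact congrArg (r.app (m ⁻¹ᵁ _)).hom hab
  · have h4 : IsUnit ((Fintype.card (ULift.{u} (Equiv.Perm (Fin d))) : ℕ) : Γ(S, S₀)) := by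
      have h5 := (hn (Fintype.card (ULift.{u} (Equiv.Perm (Fin d)))) Fintype.card_pos).map
        (S.presheaf.map (homOfLE (le_top : S₀ ≤ ⊤)).op).hom
      rwa [map_natCast] at h5
    refine mem_gen_of_average (SymProd.fibPowMap (i ≫ f) d f i rfl) (bs (i ≫ f) d ⁻¹ᵁ S₀) ((bs (i ≫ f) d).app S₀).hom
      R.equivariant (stable_base S₀) (stable_preimage hq.isQuot.inv V) s' h4 ?_ hz
    have hpre := pre_closed (f := f) bs_p (base_le hq eV)
    intro z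
    obtain ⟨x, hx⟩ := (SymProd.fibPowMap (i ≫ f) d f i rfl).app_surjective (q ⁻¹ᵁ V) hO
      (((SymProd.fibPow (i ≫ f) d).presheaf.map (eqToHom hpre.symm).op).hom z)
    refine ⟨x, ?_⟩
    change ((SymProd.fibPowMap (i ≫ f) d f i rfl).appLE _ _ _).hom x = z
    have h6 : (SymProd.fibPowMap (i ≫ f) d f i rfl).appLE (q ⁻¹ᵁ V) _ (pre_le _ (bs (i ≫ f) d ⁻¹ᵁ S₀) (q ⁻¹ᵁ V)) =
        (SymProd.fibPowMap (i ≫ f) d f i rfl).app (q ⁻¹ᵁ V) ≫
          (SymProd.fibPow (i ≫ f) d).presheaf.map (eqToHom hpre).op := by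
      rw [Scheme.Hom.app_eq_appLE, Scheme.Hom.appLE_map]
    rw [h6, CommRingCat.comp_apply]
    have h7 := congrArg ((SymProd.fibPow (i ≫ f) d).presheaf.map (eqToHom hpre).op).hom hx
    refine h7.trans ?_
    rw [← CommRingCat.comp_apply, ← Functor.map_comp, ← op_comp, eqToHom_trans, eqToHom_refl, op_id,
      CategoryTheory.Functor.map_id]
    rfl

end Main

end K755.SymClosed
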