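import Groth.Agent.ZeroCyc.K755.ProjEmb
import Groth.Agent.CycB.P1Sep

/-!
# Projective embeddings of `Proj` by the elements of degree `n`: the main statement
-/

set_option autoImplicit false
universe u
open CategoryTheory CategoryTheory.Limits AlgebraicGeometry TopologicalSpace Opposite HomogeneousLocalization
open Groth.Agent.Fdesc.LocGen Groth.Agent.Ega2

namespace K755.ProjEmb

variable {R A : Type u} [CommRing R] [CommRing A] [Algebra R A] {𝒜 : ℕ → Submodule R A} [GradedAlgebra 𝒜]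

/-- `Proj 𝒜 → Spec R` is proper when `𝒜` is generated by finitely many elements of positive degree. -/
theorem isProper_toSpec {s : ℕ} {f : Fin s → A} {deg : Fin s → ℕ} (hdeg : ∀ i, 0 < deg i)
    (hf : ∀ i, f i ∈ 𝒜 (deg i)) (hgen : Algebra.adjoin R (Set.range f) = ⊤) :
    IsProper (Proj.toSpecZero 𝒜 ≫ Spec.map (CommRingCat.ofHom (algebraMap R (𝒜 0)))) := by
  have hsurj := ProjEmbAlg.algebraMap_zero_surjective hdeg hf hgen
  have hft : Algebra.FiniteType R A := ⟨⟨(Set.finite_range f).toFinset, by simpa using hgen⟩⟩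
  have : IsScalarTower R (𝒜 0) A := ⟨fun r x a => smul_mul_assoc r (x : A) a⟩
  have : Algebra.FiniteType (𝒜 0) A := Algebra.FiniteType.of_restrictScalars_finiteType R (𝒜 0) A
  have : IsClosedImmersion (Spec.map (CommRingCat.ofHom (algebraMap R (𝒜 0)))) :=
    IsClosedImmersion.spec_of_surjective _ hsurj
  infer_instance

/-- The embedding defined by the elements of degree `n`. -/
theorem exists_closedImmersion {s : ℕ} {f : Fin s → A} {deg : Fin s → ℕ} (hdeg : ∀ i, 0 < deg i)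
    (hf : ∀ i, f i ∈ 𝒜 (deg i)) (hgen : Algebra.adjoin R (Set.range f) = ⊤) (n : ℕ) (hn : 0 < n)
    {κ : Type u} [Finite κ] (g : κ → 𝒜 n) (hcov : ⨆ j, Proj.basicOpen 𝒜 (g j).1 = ⊤)
    (hg : ∀ j, ∀ (k : ℕ) (x : A), x ∈ 𝒜 (k * n) → ∃ N : ℕ, x * (g j).1 ^ N ∈ (𝒜 n) ^ (k + N)) :
    ∃ (N : ℕ) (i : Proj 𝒜 ⟶ CohB1.ProjSpaceOver N (Spec (CommRingCat.of R))), IsClosedImmersion i ∧
      i ≫ pullback.snd (CohB1.ProjSpace.toSpec N (ULift.{u} ℤ)) (specULiftZIsTerminal.from (Spec (CommRingCat.of R))) =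
        Proj.toSpecZero 𝒜 ≫ Spec.map (CommRingCat.ofHom (algebraMap R (𝒜 0))) ∧
      Nonempty (Twist.twist 𝒜 (n : ℤ) ≅
        (Scheme.Modules.pullback i).obj (Twist.twistOver N (Spec (CommRingCat.of R)) 1)) := by
  classical
  let q : Proj 𝒜 ⟶ Spec (CommRingCat.of R) :=
    Proj.toSpecZero 𝒜 ≫ Spec.map (CommRingCat.ofHom (algebraMap R (𝒜 0)))
  have hprop : IsProper q := isProper_toSpec hdeg hf hgen
  obtain ⟨T, hTfin, hT⟩ := Submodule.fg_def.mp (ProjEmbAlg.fg_piece hdeg hf hgen n)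
  have : Finite T := hTfin
  have hTmem : ∀ t ∈ T, t ∈ 𝒜 n := fun t ht => hT ▸ Submodule.subset_span ht
  have hpt : ∀ x : Proj 𝒜, ∃ g : 𝒜 n, g.1 ∉ (x : ProjectiveSpectrum 𝒜).asHomogeneousIdeal := by
    intro x
    have hx : x ∈ (⨆ j, Proj.basicOpen 𝒜 (g j).1 : (Proj 𝒜).Opens) := by rw [hcov]; trivial
    obtain ⟨j, hj⟩ := Opens.mem_iSup.mp hx
    exact ⟨g j, hj⟩
  let J := Option (κ ⊕ T)
  let sc : J → (Coh.structureModule (Proj 𝒜) ⟶ Twist.twist 𝒜 (n : ℤ)) := fun j =>
    match j with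
    | none => 0
    | some (Sum.inl j) => VeryAmpleAmple.globalSec (g j)
    | some (Sum.inr t) => VeryAmpleAmple.globalSec (⟨t.1, hTmem _ t.2⟩ : 𝒜 n)
  have hva : RelAmple.IsRelVeryAmplePn q (Twist.twist 𝒜 (n : ℤ)) := by
    refine AmpleVery.isRelVeryAmplePn_of_family q _ sc (Set.range fun j : κ => (some (Sum.inl j) : J)) ?_ ?_ ?_
    · rw [eq_top_iff, ← hcov]
      refine iSup_le fun j => le_iSup_of_le
        (f := fun k : (Set.range fun j : κ => (some (Sum.inl j) : J)) => CohB1.genLocus _ (sc k))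
        ⟨some (Sum.inl j), j, rfl⟩ ?_
      exact (genLocus_globalSec hpt (g j)).ge
    · rintro ⟨_, j, rfl⟩
      change IsAffineOpen (CohB1.genLocus _ (VeryAmpleAmple.globalSec (g j)))
      rw [genLocus_globalSec hpt]
      exact Proj.isAffineOpen_basicOpen 𝒜 _ (g j).2 hn
    · rintro ⟨_, j, rfl⟩
      have hbij : Function.Bijective (Proj.awayToSection 𝒜 (g j).1).hom := by
        have : IsIso (Proj.awayToSection 𝒜 (g j).1) := by
          rw [← Proj.basicOpenIsoAway_hom 𝒜 (g j).1 (g j).2 hn]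
          infer_instance
        exact ConcreteCategory.bijective_of_isIso (Proj.awayToSection 𝒜 (g j).1)
      have hmain : Subring.closure
        ({a : Γ(Proj 𝒜, Proj.basicOpen 𝒜 (g j).1) | ∃ k, sec (sc k) (Proj.basicOpen 𝒜 (g j).1) =
          a • sec (VeryAmpleAmple.globalSec (g j)) (Proj.basicOpen 𝒜 (g j).1)} ∪
          Set.range (fun r : Γ(Spec (CommRingCat.of R), ⊤) =>
            ores (le_top : Proj.basicOpen 𝒜 (g j).1 ≤ q ⁻¹ᵁ ⊤) (q.app ⊤ r))) = ⊤ := by
        set S := Subring.closure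
          ({a : Γ(Proj 𝒜, Proj.basicOpen 𝒜 (g j).1) | ∃ k, sec (sc k) (Proj.basicOpen 𝒜 (g j).1) =
          a • sec (VeryAmpleAmple.globalSec (g j)) (Proj.basicOpen 𝒜 (g j).1)} ∪
          Set.range (fun r : Γ(Spec (CommRingCat.of R), ⊤) =>
            ores (le_top : Proj.basicOpen 𝒜 (g j).1 ≤ q ⁻¹ᵁ ⊤) (q.app ⊤ r))) with hS
        have h1 := away_mem_closure hn (g j) (hg j) T hT (S.comap (Proj.awayToSection 𝒜 (g j).1).hom) ?_ ?_
        · rw [eq_top_iff]
          intro y _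
          obtain ⟨z, rfl⟩ := hbij.2 y
          have : z ∈ S.comap (Proj.awayToSection 𝒜 (g j).1).hom := by rw [h1]; trivial
          exact this
        · intro r
          rw [Subring.mem_comap, scalar_eq (g j) r q rfl]
          exact Subring.subset_closure (Or.inr ⟨_, rfl⟩)
        · intro t ht z hz
          rw [Subring.mem_comap]
          refine Subring.subset_closure (Or.inl ⟨some (Sum.inr ⟨t, ht⟩), ?_⟩)
          exact sec_eq_smul (g j) ⟨t, hTmem t ht⟩ z hz
      refine VeryAmpleCrit.closure_eq_top_of_le (U := Proj.basicOpen 𝒜 (g j).1)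
        (W := CohB1.genLocus _ (VeryAmpleAmple.globalSec (g j))) (genLocus_globalSec hpt (g j)) _ hmain _ ?_
      rintro a (⟨k, hk⟩ | ⟨r, rfl⟩)
      · refine Subring.subset_closure (Or.inl ⟨k, ?_⟩)
        change sec (sc k) _ = _ • sec (VeryAmpleAmple.globalSec (g j)) _
        rw [← res_sec (sc k) (genLocus_globalSec hpt (g j)).le, hk, res_smul, res_sec]
      · refine Subring.subset_closure (Or.inr ⟨r, ?_⟩)
        exact (ores_ores _ _ _).symm
  obtain ⟨N, i, hi, hiq, ⟨e⟩⟩ := hva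
  refine ⟨N, i, ?_, hiq, ⟨e⟩⟩
  rw [IsClosedImmersion.iff_isProper_and_mono]
  refine ⟨?_, inferInstance⟩
  have h2 : IsProper (i ≫ CohB1.ProjSpaceOver.toBase N (Spec (CommRingCat.of R))) := by
    have : i ≫ CohB1.ProjSpaceOver.toBase N (Spec (CommRingCat.of R)) = q := hiq
    rw [this]; exact hprop
  have h3 : IsSeparated (CohB1.ProjSpaceOver.toBase N (Spec (CommRingCat.of R))) :=
    Groth.Agent.CycB.P1Sep.isSeparated_toBase N _
  exact IsProper.of_comp i (CohB1.ProjSpaceOver.toBase N (Spec (CommRingCat.of R)))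

end K755.ProjEmb
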