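import Groth.Prelude.Def_PolLaw
import Mathlib.LinearAlgebra.Vandermonde
import Mathlib.LinearAlgebra.Matrix.Adjugate
import Mathlib.RingTheory.Ideal.Maximal

/-!
# Spanning the degree-`d` piece of the divided power algebra by the `d`-th divided powers

The local (at a prime) statements behind S13387 and S13389.
-/

set_option autoImplicit false
universe u

namespace K755.Vandermonde

open DividedPowerAlgebra

section Cramer

variable {A M : Type*} [CommRing A] [AddCommGroup M] [Module A M]

/-- Cramer's rule in a quotient module: if `V c` has entries in `N` then `det V • c` has entries in `N`. -/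
theorem det_smul_mem (N : Submodule A M) {n : ℕ} (V : Matrix (Fin n) (Fin n) A) (c : Fin n → M)
    (h : ∀ j, ∑ i : Fin n, V j i • c i ∈ N) (i : Fin n) : V.det • c i ∈ N := by
  have key : V.det • c i = ∑ j, V.adjugate i j • ∑ k, V j k • c k := by
    calc V.det • c i = ∑ k, (V.adjugate * V) i k • c k := by
          rw [Matrix.adjugate_mul]
          simp [Matrix.smul_apply, Matrix.one_apply, ite_smul]
      _ = _ := by
          simp only [Matrix.mul_apply, Finset.sum_smul, Finset.smul_sum, smul_smul]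
          rw [Finset.sum_comm]
  rw [key]
  exact Submodule.sum_mem _ fun j _ => Submodule.smul_mem _ _ (h j)

end Cramer

section Local

variable {A M : Type*} [CommRing A] [AddCommGroup M] [Module A M]

/-- The elements of a module which lie in `N` locally at the prime `p`. -/
def sat {E : Type*} [AddCommGroup E] [Module A E] (p : Ideal A) [hp : p.IsPrime] (N : Submodule A E) :
    Submodule A E where
  carrier := {z | ∃ s ∉ p, s • z ∈ N}
  zero_mem' := ⟨1, p.ne_top_iff_one.mp hp.ne_top, by simp⟩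
  add_mem' := by
    rintro x y ⟨s, hs, hx⟩ ⟨t, ht, hy⟩
    refine ⟨s * t, fun h => (hp.mem_or_mem h).elim hs ht, ?_⟩
    rw [smul_add]
    refine N.add_mem ?_ ?_
    · rw [mul_comm, mul_smul]; exact N.smul_mem _ hx
    · rw [mul_smul]; exact N.smul_mem _ hy
  smul_mem' := by
    rintro a x ⟨s, hs, hx⟩
    refine ⟨s, hs, ?_⟩
    rw [smul_comm]
    exact N.smul_mem _ hx

theorem mem_sat {E : Type*} [AddCommGroup E] [Module A E] (p : Ideal A) [hp : p.IsPrime]
    (N : Submodule A E) (z : E) : z ∈ sat p N ↔ ∃ s ∉ p, s • z ∈ N := Iff.rfl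

theorem le_sat {E : Type*} [AddCommGroup E] [Module A E] (p : Ideal A) [hp : p.IsPrime]
    (N : Submodule A E) : N ≤ sat p N := fun z hz =>
  ⟨1, p.ne_top_iff_one.mp hp.ne_top, by simpa using hz⟩

theorem mem_sat_of_smul {E : Type*} [AddCommGroup E] [Module A E] (p : Ideal A) [hp : p.IsPrime]
    (N : Submodule A E) (z : E) (s : A) (hs : s ∉ p) (h : s • z ∈ sat p N) : z ∈ sat p N := by
  obtain ⟨t, ht, h⟩ := h
  exact ⟨t * s, fun h => (hp.mem_or_mem h).elim ht hs, by rwa [mul_smul]⟩

/-- A submodule contains an element as soon as it does so locally at every prime. -/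
theorem mem_of_forall_mem_sat {E : Type*} [AddCommGroup E] [Module A E] (N : Submodule A E) (z : E)
    (h : ∀ (p : Ideal A) [p.IsPrime], z ∈ sat p N) : z ∈ N := by
  let I : Ideal A := N.comap (LinearMap.toSpanSingleton A E z)
  by_cases hI : I = ⊤
  · have : (1 : A) ∈ I := hI ▸ Submodule.mem_top
    simpa [I] using this
  · obtain ⟨m, hm, hIm⟩ := Ideal.exists_le_maximal I hI
    obtain ⟨s, hs, hz⟩ := h m
    exact absurd (hIm (show s ∈ I by simpa [I] using hz)) hs

variable (A M) in
/-- the span of the `d`-th divided powers -/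
noncomputable abbrev dpSpan (d : ℕ) : Submodule A (DividedPowerAlgebra A M) :=
  Submodule.span A (Set.range (dp A d : M → DividedPowerAlgebra A M))

theorem dp_mem (d : ℕ) (m : M) : dp A d m ∈ dpSpan A M d := Submodule.subset_span ⟨m, rfl⟩

/-- two factors -/
theorem dp_mul_dp_mem_sat (p : Ideal A) [hp : p.IsPrime] (e : ℕ) (t : Fin (e - 1) → A)
    (ht : ∀ j, t j ∉ p) (htt : ∀ i j, i ≠ j → t i - t j ∉ p) (x y : M) (i j : ℕ) (hij : i + j = e) :
    dp A i x * dp A j y ∈ sat p (dpSpan A M e) := by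
  obtain rfl | ⟨i, rfl⟩ : i = 0 ∨ ∃ i', i = i' + 1 := by
    cases i with
    | zero => exact Or.inl rfl
    | succ i => exact Or.inr ⟨i, rfl⟩
  · rw [zero_add] at hij
    subst hij
    rw [dp_zero, one_mul]
    exact le_sat _ _ (dp_mem _ _)
  obtain rfl | ⟨j, rfl⟩ : j = 0 ∨ ∃ j', j = j' + 1 := by
    cases j with
    | zero => exact Or.inl rfl
    | succ j => exact Or.inr ⟨j, rfl⟩
  · rw [add_zero] at hij
    subst hij
    rw [dp_zero, mul_one]
    exact le_sat _ _ (dp_mem _ _)
  obtain ⟨e, rfl⟩ : ∃ n, e = n + 2 := ⟨i + j, by omega⟩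
  have hij' : i + j = e := by omega
  -- the unknowns
  let c : Fin (e + 1) → DividedPowerAlgebra A M := fun k => dp A (e + 1 - k) x * dp A (k + 1) y
  let V : Matrix (Fin (e + 1)) (Fin (e + 1)) A := Matrix.of fun a b => t a * (Matrix.vandermonde t) a b
  have hV : V.det = (∏ a, t a) * (Matrix.vandermonde t).det := Matrix.det_mul_column _ _
  have hVp : V.det ∉ p := by
    rw [hV, Matrix.det_vandermonde]
    intro h
    rcases hp.mem_or_mem h with h | h
    · obtain ⟨a, -, ha⟩ := (hp.prod_mem_iff).mp h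
      exact ht a ha
    · obtain ⟨a, -, ha⟩ := (hp.prod_mem_iff).mp h
      obtain ⟨b, hb, hb'⟩ := (hp.prod_mem_iff).mp ha
      exact htt b a (ne_of_gt (Finset.mem_Ioi.mp hb)) hb'
  have hmem : ∀ a, ∑ b : Fin (e + 1), V a b • c b ∈ dpSpan A M (e + 2) := by
    intro a
    have h1 : dp A (e + 2) (x + t a • y) = dp A (e + 2) x + (∑ b : Fin (e + 1), V a b • c b)
        + t a ^ (e + 2) • dp A (e + 2) y := by
      rw [dp_add, ← Finset.Nat.sum_antidiagonal_swap, Finset.Nat.sum_antidiagonal_eq_sum_range_succ_mk,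
        Finset.sum_range_succ, Finset.sum_range_succ']
      simp only [Prod.fst_swap, Prod.snd_swap, dp_smul, dp_zero, pow_zero, one_smul, mul_one,
        Nat.sub_zero, Nat.sub_self, one_mul, mul_smul_comm]
      rw [add_comm (Finset.sum _ _) (dp A (e + 2) x), ← Fin.sum_univ_eq_sum_range
        (fun k => t a ^ (k + 1) • (dp A (e + 2 - (k + 1)) x * dp A (k + 1) y))]
      congr 2
      refine Finset.sum_congr rfl fun b _ => ?_
      simp only [V, c, Matrix.of_apply, Matrix.vandermonde_apply]
      rw [pow_succ', show e + 2 - ((b : ℕ) + 1) = e + 1 - b by omega]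
    have h2 : ∑ b : Fin (e + 1), V a b • c b =
        dp A (e + 2) (x + t a • y) - dp A (e + 2) x - t a ^ (e + 2) • dp A (e + 2) y := by
      rw [h1]; abel
    rw [h2]
    exact Submodule.sub_mem _ (Submodule.sub_mem _ (dp_mem _ _) (dp_mem _ _))
      (Submodule.smul_mem _ _ (dp_mem _ _))
  refine ⟨V.det, hVp, ?_⟩
  have := det_smul_mem _ V c hmem ⟨j, by omega⟩
  simp only [c] at this
  rwa [show e + 1 - j = i + 1 by omega] at this

/-- any number of factors -/
theorem prod_dp_mem_sat (p : Ideal A) [hp : p.IsPrime] (d : ℕ) (t : Fin (d - 1) → A)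
    (ht : ∀ j, t j ∉ p) (htt : ∀ i j, i ≠ j → t i - t j ∉ p) (n : ℕ) :
    ∀ (k : Fin n → ℕ) (m : Fin n → M) (e : ℕ), (∑ i, k i) = e → e ≤ d →
      ∏ i, dp A (k i) (m i) ∈ sat p (dpSpan A M e) := by
  induction n with
  | zero =>
    intro k m e he _
    simp only [Finset.univ_eq_empty, Finset.sum_empty] at he
    subst he
    simp only [Finset.univ_eq_empty, Finset.prod_empty]
    rw [← dp_zero (R := A) (m := (0 : M))]
    exact le_sat _ _ (dp_mem _ _)
  | succ n ih =>
    intro k m e he hed
    rw [Fin.prod_univ_succ]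
    rw [Fin.sum_univ_succ] at he
    obtain ⟨s, hs, h⟩ := ih (fun i => k i.succ) (fun i => m i.succ) _ rfl (by omega)
    refine mem_sat_of_smul p _ _ s hs ?_
    rw [← mul_smul_comm]
    have hle : e - 1 ≤ d - 1 := by omega
    refine Submodule.span_induction (p := fun z _ => dp A (k 0) (m 0) * z ∈ sat p (dpSpan A M e))
      ?_ ?_ ?_ ?_ h
    · rintro _ ⟨y, rfl⟩
      exact dp_mul_dp_mem_sat p e (fun j => t (Fin.castLE hle j)) (fun j => ht _)
        (fun i j hij => htt _ _ fun h => hij (Fin.castLE_injective _ h)) _ _ _ _ he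
    · rw [mul_zero]; exact Submodule.zero_mem _
    · intro a b _ _ ha hb
      rw [mul_add]; exact Submodule.add_mem _ ha hb
    · intro a b _ hb
      rw [mul_smul_comm]; exact Submodule.smul_mem _ _ hb

/-- the case of a locally cyclic module -/
theorem prod_dp_mem_sat_of_cyclic (p : Ideal A) [hp : p.IsPrime] (x : M)
    (hx : ∀ m : M, ∃ s ∉ p, ∃ a : A, s • m = a • x) {n : ℕ} (k : Fin n → ℕ) (m : Fin n → M) (e : ℕ)
    (he : (∑ i, k i) = e) :
    ∏ i, dp A (k i) (m i) ∈ sat p (dpSpan A M e) := by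
  choose s hs a ha using hx
  refine mem_sat_of_smul p _ _ (∏ i, s (m i) ^ k i) ?_ ?_
  · intro h
    obtain ⟨i, -, hi⟩ := (hp.prod_mem_iff).mp h
    exact hs _ (hp.mem_of_pow_mem _ hi)
  · have : (∏ i, s (m i) ^ k i) • ∏ i, dp A (k i) (m i) =
        (∏ i, a (m i) ^ k i) • ((Nat.multinomial Finset.univ k : A) • dp A e x) := by
      calc (∏ i, s (m i) ^ k i) • ∏ i, dp A (k i) (m i) = ∏ i, (s (m i) ^ k i) • dp A (k i) (m i) := by
            rw [Finset.prod_smul]
        _ = ∏ i, (a (m i) ^ k i) • dp A (k i) x := by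
            refine Finset.prod_congr rfl fun i _ => ?_
            rw [← dp_smul, ha, dp_smul]
        _ = _ := by
            rw [Finset.prod_smul, prod_dp, he, Nat.cast_smul_eq_nsmul, nsmul_eq_mul]
    rw [this]
    exact Submodule.smul_mem _ _ (Submodule.smul_mem _ _ (le_sat _ _ (dp_mem _ _)))

/-- The span of the `d`-th divided powers is the degree-`d` piece as soon as at every prime there are enough
elements, or the module is locally cyclic. -/
theorem span_dp_eq_gammaPiece {A M : Type u} [CommRing A] [AddCommGroup M] [Module A M] (d : ℕ)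
    (h : ∀ (p : Ideal A) [p.IsPrime],
      (∃ t : Fin (d - 1) → A, (∀ j, t j ∉ p) ∧ ∀ i j, i ≠ j → t i - t j ∉ p) ∨
      ∃ x : M, ∀ m : M, ∃ s ∉ p, ∃ a : A, s • m = a • x) :
    Submodule.span A (Set.range (DividedPowerAlgebra.dp A d : M → DividedPowerAlgebra A M)) =
      PolLaw.gammaPiece A M d := by
  apply le_antisymm
  · rw [Submodule.span_le]
    rintro _ ⟨m, rfl⟩
    exact Submodule.subset_span ⟨1, fun _ => d, fun _ => m, by simp, by simp⟩
  · rw [PolLaw.gammaPiece, Submodule.span_le]
    rintro _ ⟨n, k, m, hk, rfl⟩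
    refine mem_of_forall_mem_sat _ _ ?_
    intro p hp
    rcases h p with ⟨t, ht, htt⟩ | ⟨x, hx⟩
    · exact prod_dp_mem_sat p d t ht htt n k m d hk le_rfl
    · exact prod_dp_mem_sat_of_cyclic p x hx k m d hk

end Local

end K755.Vandermonde
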