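import Mathlib.RingTheory.DividedPowerAlgebra.Init
import Mathlib.Algebra.DualNumber
import Mathlib.Algebra.Algebra.Pi

/-!
# Contraction of the divided power algebra by a linear form

For a linear form `φ : V → K` the map `dp n v ↦ φ v • dp (n - 1) v` extends to a derivation of the divided power
algebra.  Used to show that certain elements of the divided power algebra are not spanned by `d`-th divided powers.
-/

set_option autoImplicit false
universe u

namespace K755.DualGamma

open DividedPowerAlgebra

variable {K V : Type u} [CommRing K] [AddCommGroup V] [Module K V]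

/-- the second component -/
noncomputable def g (φ : V →ₗ[K] K) : ℕ → V → DividedPowerAlgebra K V
  | 0, _ => 0
  | n + 1, v => φ v • dp K n v

theorem g_zero (φ : V →ₗ[K] K) (v : V) : g φ 0 v = 0 := rfl

theorem g_succ (φ : V →ₗ[K] K) (n : ℕ) (v : V) : g φ (n + 1) v = φ v • dp K n v := rfl

/-- the pair (value, contraction) as a dual number -/
noncomputable def G (φ : V →ₗ[K] K) (nv : ℕ × V) : DualNumber (DividedPowerAlgebra K V) :=
  TrivSqZeroExt.inl (dp K nv.1 nv.2) + TrivSqZeroExt.inr (g φ nv.1 nv.2)

theorem G_fst (φ : V →ₗ[K] K) (nv : ℕ × V) : (G φ nv).fst = dp K nv.1 nv.2 := by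
  rw [G, TrivSqZeroExt.fst_add, TrivSqZeroExt.fst_inl, TrivSqZeroExt.fst_inr, add_zero]

theorem G_snd (φ : V →ₗ[K] K) (nv : ℕ × V) : (G φ nv).snd = g φ nv.1 nv.2 := by
  rw [G, TrivSqZeroExt.snd_add, TrivSqZeroExt.snd_inl, TrivSqZeroExt.snd_inr, zero_add]

theorem snd_mul' (x y : DualNumber (DividedPowerAlgebra K V)) :
    (x * y).snd = x.fst * y.snd + x.snd * y.fst := by
  rw [TrivSqZeroExt.snd_mul, smul_eq_mul, op_smul_eq_smul, smul_eq_mul, mul_comm y.fst]

/-- the contraction as an algebra map to the dual numbers -/
noncomputable def toDual (φ : V →ₗ[K] K) :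
    DividedPowerAlgebra K V →ₐ[K] DualNumber (DividedPowerAlgebra K V) :=
  lift' (f := G φ)
    (fun m => by
      refine TrivSqZeroExt.ext ?_ ?_
      · rw [G_fst, dp_zero, TrivSqZeroExt.fst_one]
      · rw [G_snd, g_zero, TrivSqZeroExt.snd_one])
    (fun n r m => by
      refine TrivSqZeroExt.ext ?_ ?_
      · rw [G_fst, TrivSqZeroExt.fst_smul, G_fst, dp_smul]
      · rw [G_snd, TrivSqZeroExt.snd_smul, G_snd]
        cases n with
        | zero => rw [g_zero, g_zero, smul_zero]
        | succ n =>
          rw [g_succ, g_succ, dp_smul, map_smul, smul_smul, smul_smul, smul_eq_mul]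
          congr 1
          ring)
    (fun n p m => by
      refine TrivSqZeroExt.ext ?_ ?_
      · rw [TrivSqZeroExt.fst_mul, TrivSqZeroExt.fst_smul, G_fst, G_fst, G_fst, dp_mul]
      · rw [snd_mul', TrivSqZeroExt.snd_smul, G_fst, G_fst, G_snd, G_snd, G_snd]
        cases n with
        | zero => simp [g_zero, dp_zero]
        | succ n =>
          cases p with
          | zero => simp [g_zero, dp_zero]
          | succ p =>
            rw [show n + 1 + (p + 1) = (n + (p + 1)) + 1 by ring, g_succ, g_succ, g_succ,
              mul_smul_comm, smul_mul_assoc, dp_mul, dp_mul, ← smul_add,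
              show n + 1 + p = n + (p + 1) by ring, ← add_smul, smul_comm,
              Nat.choose_succ_succ (n + (p + 1)) n, add_comm ((n + (p + 1)).choose (n + 1))])
    (fun n u v => by
      refine TrivSqZeroExt.ext ?_ ?_
      · rw [TrivSqZeroExt.fst_sum, G_fst, dp_add]
        refine Finset.sum_congr rfl fun k _ => ?_
        rw [TrivSqZeroExt.fst_mul, G_fst, G_fst]
      · rw [TrivSqZeroExt.snd_sum, G_snd]
        simp only [snd_mul', G_fst, G_snd]
        cases n with
        | zero => simp [g_zero]
        | succ n =>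
          rw [Finset.sum_add_distrib, Finset.Nat.sum_antidiagonal_succ', Finset.Nat.sum_antidiagonal_succ]
          simp only [g_zero, mul_zero, zero_mul, zero_add, g_succ, map_add, add_smul, dp_add,
            mul_smul_comm, smul_mul_assoc, Finset.smul_sum]
          rw [add_comm, Finset.sum_add_distrib])

theorem toDual_dp (φ : V →ₗ[K] K) (n : ℕ) (v : V) : toDual φ (dp K n v) = G φ (n, v) := by
  rw [toDual, lift'_apply_dp]

theorem fst_toDual (φ : V →ₗ[K] K) (z : DividedPowerAlgebra K V) : (toDual φ z).fst = z := by
  have : (TrivSqZeroExt.fstHom K (DividedPowerAlgebra K V) (DividedPowerAlgebra K V)).comp (toDual φ) =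
      AlgHom.id K _ := by
    apply algHom_ext
    intro n m
    rw [AlgHom.comp_apply, toDual_dp]
    exact G_fst φ (n, m)
  exact DFunLike.congr_fun this z

/-- contraction by `φ` -/
noncomputable def D (φ : V →ₗ[K] K) : DividedPowerAlgebra K V →ₗ[K] DividedPowerAlgebra K V where
  toFun z := (toDual φ z).snd
  map_add' x y := by rw [map_add, TrivSqZeroExt.snd_add]
  map_smul' r x := by rw [map_smul, TrivSqZeroExt.snd_smul, RingHom.id_apply]

theorem D_mul (φ : V →ₗ[K] K) (x y : DividedPowerAlgebra K V) : D φ (x * y) = x * D φ y + D φ x * y := by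
  show (toDual φ (x * y)).snd = _
  rw [map_mul, snd_mul', fst_toDual, fst_toDual]
  rfl

theorem D_dp_zero (φ : V →ₗ[K] K) (v : V) : D φ (dp K 0 v) = 0 := by
  show (toDual φ _).snd = _
  rw [toDual_dp, G_snd]
  rfl

theorem D_dp_succ (φ : V →ₗ[K] K) (n : ℕ) (v : V) : D φ (dp K (n + 1) v) = φ v • dp K n v := by
  show (toDual φ _).snd = _
  rw [toDual_dp, G_snd]
  rfl

theorem D_pow_dp (φ : V →ₗ[K] K) (j n : ℕ) (v : V) :
    ((D φ) ^ j) (dp K (n + j) v) = φ v ^ j • dp K n v := by
  induction j with
  | zero => simp
  | succ j ih =>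
    rw [pow_succ (D φ) j, Module.End.mul_apply, ← add_assoc, D_dp_succ, map_smul, ih, smul_smul, pow_succ']

/-- the augmentation -/
noncomputable def aug (K V : Type u) [CommRing K] [AddCommGroup V] [Module K V] :
    DividedPowerAlgebra K V →ₐ[K] K :=
  lift' (f := fun nv => if nv.1 = 0 then 1 else 0)
    (fun m => by simp)
    (fun n r m => by
      cases n with
      | zero => simp
      | succ n => simp)
    (fun n p m => by
      cases n with
      | zero => simp
      | succ n => simp)
    (fun n u v => by
      cases n with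
      | zero => simp
      | succ n => simp [Finset.Nat.sum_antidiagonal_succ])

theorem aug_dp_zero (v : V) : aug K V (dp K 0 v) = 1 := by
  rw [dp_zero, map_one]

end K755.DualGamma
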