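import Groth.Agent.ZeroCyc.K755.SymGraded
import Mathlib.Algebra.MvPolynomial.Basic
import Mathlib.RingTheory.MvPolynomial.Basic

/-!
# The symmetric product of a projective scheme is covered in degree one
-/

set_option autoImplicit false
universe u

open scoped TensorProduct

namespace K755.SymGraded

open SymTen

variable {A B : Type u} [CommRing A] [CommRing B] [Algebra A B] (𝒜 : ℕ → Submodule A B) (d : ℕ)

theorem prod_psi (b : Fin d → B) (n : ℕ) (x : Fin d → B) :
    ∏ i, psi (A := A) d b n i (x i) =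
      PiTensorProduct.tprod A x * (PiTensorProduct.tprod A (fun l => b l ^ n)) ^ (d - 1) := by
  classical
  have h1 : ∀ y : Fin d → B, (PiTensorProduct.tprod A y : ⨂[A] _ : Fin d, B) ^ (d - 1) =
      PiTensorProduct.tprod A (fun l => y l ^ (d - 1)) := by
    intro y
    have := PiTensorProduct.tprod_prod (R := A) (A := fun _ : Fin d => B) (s := (Finset.univ : Finset (Fin (d - 1))))
      (x := fun _ => y)
    simp only [Finset.prod_const, Finset.card_univ, Fintype.card_fin] at this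
    rw [← this]
    rfl
  rw [h1, PiTensorProduct.tprod_mul_tprod]
  unfold psi
  rw [← PiTensorProduct.tprod_prod]
  congr 1
  ext l
  rw [Finset.prod_apply, Pi.mul_apply, ← Finset.mul_prod_erase Finset.univ _ (Finset.mem_univ l),
    Function.update_self]
  congr 1
  rw [Finset.prod_congr rfl (g := fun _ => b l ^ n), Finset.prod_const, Finset.card_erase_of_mem (Finset.mem_univ _),
    Finset.card_univ, Fintype.card_fin]
  intro i hi
  rw [Function.update_of_ne (Finset.ne_of_mem_erase hi).symm]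

variable [GradedAlgebra 𝒜]

/-- the pure tensor as an element of `C` -/
noncomputable def pt (b : Fin d → B) (n : ℕ) (hb : ∀ i, b i ∈ 𝒜 n) : Cal 𝒜 d :=
  ⟨PiTensorProduct.tprod A b, pureDeg_subset 𝒜 d n ⟨b, hb, rfl⟩⟩

theorem prod_psi' (b : Fin d → B) (hb : ∀ i, b i ∈ 𝒜 1) (n : ℕ) (x : Fin d → B) (hx : ∀ i, x i ∈ 𝒜 n) :
    ∏ i, (⟨psi d b n i (x i), psi_mem 𝒜 d b hb n i _ (hx i)⟩ : Cal 𝒜 d) =
      pt 𝒜 d x n hx * (pt 𝒜 d b 1 hb) ^ (n * (d - 1)) := by
  apply Subtype.ext
  have h0 : ((∏ i, (⟨psi d b n i (x i), psi_mem 𝒜 d b hb n i _ (hx i)⟩ : Cal 𝒜 d) : Cal 𝒜 d) : ⨂[A] _ : Fin d, B) =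
      ∏ i, psi (A := A) d b n i (x i) :=
    map_prod (Cal 𝒜 d).val (fun i => (⟨psi d b n i (x i), psi_mem 𝒜 d b hb n i _ (hx i)⟩ : Cal 𝒜 d)) Finset.univ
  rw [h0, prod_psi]
  show _ = PiTensorProduct.tprod A x * (PiTensorProduct.tprod A b) ^ (n * (d - 1))
  rw [pow_mul]
  congr 2
  have := PiTensorProduct.tprod_prod (R := A) (A := fun _ : Fin d => B) (s := (Finset.univ : Finset (Fin n)))
    (x := fun _ => b)
  simp only [Finset.prod_const, Finset.card_univ, Fintype.card_fin] at this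
  rw [← this]
  rfl

/-- the orbit sums -/
theorem orbit_mem_TS (b : Fin d → B) (w : (Fin d → Fin d) → Prop) [DecidablePred w]
    (hw : ∀ (σ : Equiv.Perm (Fin d)) c, w (c ∘ σ) ↔ w c) :
    ∑ c with w c, PiTensorProduct.tprod A (fun i => b (c i)) ∈ TS A B d := by
  rw [mem_TS_iff']
  intro σ
  rw [map_sum]
  refine Finset.sum_bij' (fun c _ => c ∘ σ.symm) (fun c _ => c ∘ σ) ?_ ?_ ?_ ?_ ?_
  · intro c hc
    rw [Finset.mem_filter] at hc ⊢
    exact ⟨Finset.mem_univ _, (hw σ.symm c).mpr hc.2⟩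
  · intro c hc
    rw [Finset.mem_filter] at hc ⊢
    exact ⟨Finset.mem_univ _, (hw σ c).mpr hc.2⟩
  · intro c _
    funext i
    simp
  · intro c _
    funext i
    simp
  · intro c _
    rw [perm_tprod]
    rfl

/-- A prime of `C` containing the symmetric tensors of degree one contains all pure tensors of degree one. -/
theorem pt_mem_of_degOne (Q : Ideal (Cal 𝒜 d)) [hQ : Q.IsPrime]
    (h : ∀ x : Cal 𝒜 d, (x : ⨂[A] _ : Fin d, B) ∈ TS A B d →
      (x : ⨂[A] _ : Fin d, B) ∈ Submodule.span A (pureDeg 𝒜 d 1) → x ∈ Q)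
    (b : Fin d → B) (hb : ∀ i, b i ∈ 𝒜 1) : pt 𝒜 d b 1 hb ∈ Q := by
  classical
  by_contra hcon
  let κ := Cal 𝒜 d ⧸ Q
  let mk : Cal 𝒜 d →+* κ := Ideal.Quotient.mk Q
  let L : Fin d → Fin d → Cal 𝒜 d := fun i j => ⟨psi d b 1 i (b j), psi_mem 𝒜 d b hb 1 i _ (hb j)⟩
  let v : (Fin d → Fin d) → Cal 𝒜 d := fun c => pt 𝒜 d (fun i => b (c i)) 1 fun i => hb _
  let w : (Fin d → Fin d) → (Fin d →₀ ℕ) := fun c => ∑ i, Finsupp.single (c i) 1
  let P : Fin d → MvPolynomial (Fin d) κ := fun i => ∑ j, MvPolynomial.monomial (Finsupp.single j 1) (mk (L i j))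
  have hw : ∀ (σ : Equiv.Perm (Fin d)) c, w (c ∘ σ) = w c := by
    intro σ c
    exact Equiv.sum_comp σ fun i => Finsupp.single (c i) 1
  have hprodL : ∀ c : Fin d → Fin d, ∏ i, L i (c i) = v c * (pt 𝒜 d b 1 hb) ^ (1 * (d - 1)) := fun c =>
    prod_psi' 𝒜 d b hb 1 (fun i => b (c i)) fun i => hb _
  have hP : ∏ i, P i = 0 := by
    have h1 : ∏ i, P i = ∑ c : Fin d → Fin d, MvPolynomial.monomial (w c) (mk (v c * (pt 𝒜 d b 1 hb) ^ (1 * (d - 1)))) := by
      simp only [P]
      rw [Finset.prod_univ_sum, Fintype.piFinset_univ]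
      refine Finset.sum_congr rfl fun c _ => ?_
      rw [← hprodL, map_prod]
      exact (MvPolynomial.monomial_sum_prod _ _ _).symm
    rw [h1]
    ext α
    rw [MvPolynomial.coeff_sum, MvPolynomial.coeff_zero]
    simp only [MvPolynomial.coeff_monomial, map_mul]
    rw [← Finset.sum_filter, ← Finset.sum_mul, ← map_sum]
    have h2 : ∑ c with w c = α, v c ∈ Q := by
      have h3 : ((∑ c with w c = α, v c : Cal 𝒜 d) : ⨂[A] _ : Fin d, B) =
          ∑ c with w c = α, PiTensorProduct.tprod A (fun i => b (c i)) :=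
        map_sum (Cal 𝒜 d).val v _
      apply h
      · rw [h3]
        exact orbit_mem_TS d b (fun c => w c = α) fun σ c => by rw [hw]
      · rw [h3]
        refine Submodule.sum_mem _ fun c _ => Submodule.subset_span ⟨_, fun i => hb _, rfl⟩
    rw [Ideal.Quotient.eq_zero_iff_mem.mpr h2, zero_mul]
  rw [Finset.prod_eq_zero_iff] at hP
  obtain ⟨i, -, hi⟩ := hP
  have h4 := congrArg (MvPolynomial.coeff (Finsupp.single i 1)) hi
  simp only [P] at h4
  rw [MvPolynomial.coeff_sum, MvPolynomial.coeff_zero, Finset.sum_eq_single i, MvPolynomial.coeff_monomial, if_pos rfl] at h4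
  · apply hcon
    have h5 := Ideal.Quotient.eq_zero_iff_mem.mp h4
    have h6 : L i i = pt 𝒜 d b 1 hb := by
      apply Subtype.ext
      show PiTensorProduct.tprod A (Function.update (fun l => b l ^ 1) i (b i)) = PiTensorProduct.tprod A b
      congr 1
      simp only [pow_one]
      exact Function.update_eq_self i b
    rwa [h6] at h5
  · intro j _ hj
    rw [MvPolynomial.coeff_monomial, if_neg]
    intro h
    exact hj (Finsupp.single_left_injective one_ne_zero h)
  · intro h; exact absurd (Finset.mem_univ i) h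

end K755.SymGraded
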