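import Mathlib.RingTheory.GradedAlgebra.Basic

/-!
# Prime avoidance for homogeneous elements, in terms of predicates on homogeneous elements
-/

set_option autoImplicit false

namespace K755.HomogAvoid

variable {A B : Type*} [CommRing A] [CommRing B] [Algebra A B] (𝒜 : ℕ → Submodule A B) [GradedAlgebra 𝒜]
  {ι : Type*} (Z : ι → ℕ → B → Prop)

/-- `Z i n x` means: the homogeneous element `x` of degree `n` lies in the `i`-th prime. -/
structure IsPrimes : Prop where
  add : ∀ i n x y, x ∈ 𝒜 n → y ∈ 𝒜 n → Z i n x → Z i n (x + y) → Z i n y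
  mul : ∀ i n m x y, x ∈ 𝒜 n → y ∈ 𝒜 m → (Z i (n + m) (x * y) ↔ Z i n x ∨ Z i m y)

variable {𝒜 Z}

theorem IsPrimes.pow (h : IsPrimes 𝒜 Z) (i : ι) (n : ℕ) (x : B) (hx : x ∈ 𝒜 n) (k : ℕ) :
    x ^ (k + 1) ∈ 𝒜 ((k + 1) * n) ∧ (Z i ((k + 1) * n) (x ^ (k + 1)) ↔ Z i n x) := by
  induction k with
  | zero => simpa using hx
  | succ k ih =>
    rw [pow_succ x (k + 1), Nat.succ_mul (k + 1)]
    refine ⟨SetLike.mul_mem_graded ih.1 hx, ?_⟩
    rw [h.mul i _ _ _ _ ih.1 hx, ih.2, or_self]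

theorem IsPrimes.exists_prod (h : IsPrimes 𝒜 Z) (a : ι) (s : Finset ι)
    (h0 : ∃ n > 0, ∃ g ∈ 𝒜 n, ¬ Z a n g)
    (hs : ∀ i ∈ s, ∃ n > 0, ∃ x ∈ 𝒜 n, Z i n x ∧ ¬ Z a n x) :
    ∃ n > 0, ∃ g ∈ 𝒜 n, ¬ Z a n g ∧ ∀ i ∈ s, Z i n g := by
  classical
  induction s using Finset.induction_on with
  | empty =>
    obtain ⟨n, hn, g, hg, hg'⟩ := h0
    exact ⟨n, hn, g, hg, hg', fun i hi => absurd hi (Finset.notMem_empty i)⟩
  | insert j s _ ih =>
    obtain ⟨n, hn, g, hg, hga, hgs⟩ := ih fun i hi => hs i (Finset.mem_insert_of_mem hi)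
    obtain ⟨m, hm, x, hx, hxj, hxa⟩ := hs j (Finset.mem_insert_self _ _)
    refine ⟨n + m, by omega, g * x, SetLike.mul_mem_graded hg hx, ?_, ?_⟩
    · rw [h.mul a _ _ _ _ hg hx, not_or]
      exact ⟨hga, hxa⟩
    · intro i hi
      rw [h.mul i _ _ _ _ hg hx]
      rcases Finset.mem_insert.mp hi with rfl | hi
      · exact Or.inr hxj
      · exact Or.inl (hgs i hi)

theorem IsPrimes.avoid (h : IsPrimes 𝒜 Z) (s : Finset ι) (h0 : ∀ i ∈ s, ∃ n > 0, ∃ g ∈ 𝒜 n, ¬ Z i n g) :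
    ∃ n > 0, ∃ f ∈ 𝒜 n, ∀ i ∈ s, ¬ Z i n f := by
  classical
  induction hk : s.card using Nat.strong_induction_on generalizing s with
  | h k ih =>
    rcases s.eq_empty_or_nonempty with rfl | ⟨a, ha⟩
    · exact ⟨1, one_pos, 0, Submodule.zero_mem _, fun i hi => absurd hi (Finset.notMem_empty i)⟩
    · by_cases hcase : ∃ i ∈ s.erase a, ∀ n > 0, ∀ x ∈ 𝒜 n, Z i n x → Z a n x
      · obtain ⟨i, hi, hia⟩ := hcase
        have his : i ∈ s := Finset.mem_of_mem_erase hi
        obtain ⟨n, hn, f, hf, hfs⟩ := ih (s.erase i).card (by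
          rw [← hk]; exact Finset.card_erase_lt_of_mem his) (s.erase i)
          (fun j hj => h0 j (Finset.mem_of_mem_erase hj)) rfl
        refine ⟨n, hn, f, hf, fun j hj => ?_⟩
        by_cases hji : j = i
        · subst hji
          intro hZ
          exact hfs a (Finset.mem_erase.mpr ⟨(Finset.ne_of_mem_erase hi).symm, ha⟩) (hia n hn f hf hZ)
        · exact hfs j (Finset.mem_erase.mpr ⟨hji, hj⟩)
      · push Not at hcase
        obtain ⟨n, hn, f, hf, hfs⟩ := ih (s.erase a).card (by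
          rw [← hk]; exact Finset.card_erase_lt_of_mem ha) (s.erase a)
          (fun j hj => h0 j (Finset.mem_of_mem_erase hj)) rfl
        by_cases hfa : Z a n f
        · obtain ⟨m, hm, g, hg, hga, hgs⟩ := h.exists_prod a (s.erase a) (h0 a ha) fun i hi => by
            obtain ⟨n, hn, x, hx, h1, h2⟩ := hcase i hi
            exact ⟨n, hn, x, hx, h1, h2⟩
          obtain ⟨m, rfl⟩ : ∃ m', m = m' + 1 := ⟨m - 1, by omega⟩
          obtain ⟨n, rfl⟩ : ∃ n', n = n' + 1 := ⟨n - 1, by omega⟩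
          have hF := fun i => h.pow i _ f hf m
          have hG := fun i => h.pow i _ g hg n
          have hGd : g ^ (n + 1) ∈ 𝒜 ((m + 1) * (n + 1)) := by
            rw [mul_comm]; exact (hG a).1
          have hG' : ∀ i, Z i ((m + 1) * (n + 1)) (g ^ (n + 1)) ↔ Z i (m + 1) g := fun i => by
            rw [mul_comm]; exact (hG i).2
          refine ⟨(m + 1) * (n + 1), Nat.mul_pos (Nat.succ_pos m) (Nat.succ_pos n), f ^ (m + 1) + g ^ (n + 1),
            Submodule.add_mem _ (hF a).1 hGd, fun i hi hZ => ?_⟩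
          by_cases hia : i = a
          · subst hia
            exact hga ((hG' i).mp (h.add i _ _ _ (hF i).1 hGd ((hF i).2.mpr hfa) hZ))
          · have hi' := Finset.mem_erase.mpr ⟨hia, hi⟩
            rw [add_comm (f ^ (m + 1))] at hZ
            exact hfs i hi' ((hF i).2.mp (h.add i _ _ _ hGd (hF i).1 ((hG' i).mpr (hgs i hi')) hZ))
        · refine ⟨n, hn, f, hf, fun j hj => ?_⟩
          by_cases hja : j = a
          · rwa [hja]
          · exact hfs j (Finset.mem_erase.mpr ⟨hja, hj⟩)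

end K755.HomogAvoid
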