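import Groth.Agent.ZeroCyc.K755.SymGraded2
import Groth.Agent.ZeroCyc.K755.HomogAvoid

/-!
# Nonvanishing of `f ⊗ ⋯ ⊗ f` at a prime of the graded ring of the product
-/

set_option autoImplicit false
universe u

open scoped TensorProduct

namespace K755.SymGraded

open SymTen

variable {A B : Type u} [CommRing A] [CommRing B] [Algebra A B] (𝒜 : ℕ → Submodule A B) (d : ℕ)

theorem psi_add (b : Fin d → B) (n : ℕ) (i : Fin d) (x y : B) :
    psi (A := A) d b n i (x + y) = psi d b n i x + psi d b n i y :=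
  MultilinearMap.map_update_add _ _ _ _ _

theorem psi_smul (b : Fin d → B) (n : ℕ) (i : Fin d) (r : A) (x : B) :
    psi (A := A) d b n i (r • x) = r • psi d b n i x :=
  MultilinearMap.map_update_smul _ _ _ _ _

theorem psi_mul (b : Fin d → B) (n m : ℕ) (i : Fin d) (x y : B) :
    psi (A := A) d b (n + m) i (x * y) = psi d b n i x * psi d b m i y := by
  unfold psi
  rw [PiTensorProduct.tprod_mul_tprod]
  congr 1
  ext l
  rw [Pi.mul_apply]
  by_cases h : l = i
  · subst h; rw [Function.update_self, Function.update_self, Function.update_self]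
  · rw [Function.update_of_ne h, Function.update_of_ne h, Function.update_of_ne h, pow_add]

theorem psi_self (b : Fin d → B) (i : Fin d) : psi (A := A) d b 1 i (b i) = PiTensorProduct.tprod A b := by
  unfold psi
  congr 1
  simp only [pow_one]
  exact Function.update_eq_self i b

variable [GradedAlgebra 𝒜]

/-- if no `psi b n i f` lies in the prime `Q`, then neither does `f ⊗ ⋯ ⊗ f`. -/
theorem tpow_notMem (Q : Ideal (Cal 𝒜 d)) [hQ : Q.IsPrime] (b : Fin d → B) (hb : ∀ i, b i ∈ 𝒜 1) (n : ℕ)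
    (f : B) (hf : f ∈ 𝒜 n)
    (h : ∀ i, (⟨psi d b n i f, psi_mem 𝒜 d b hb n i _ hf⟩ : Cal 𝒜 d) ∉ Q) :
    pt 𝒜 d (fun _ => f) n (fun _ => hf) ∉ Q := by
  intro hmem
  have h1 := prod_psi' 𝒜 d b hb n (fun _ => f) fun _ => hf
  have h2 : ∏ i, (⟨psi d b n i f, psi_mem 𝒜 d b hb n i _ hf⟩ : Cal 𝒜 d) ∈ Q := by
    rw [h1]; exact Q.mul_mem_right _ hmem
  obtain ⟨i, -, hi⟩ := (hQ.prod_mem_iff).mp h2
  exact h i hi

/-- a homogeneous element avoiding all the primes -/
theorem exists_homog (Q : Ideal (Cal 𝒜 d)) [hQ : Q.IsPrime] (b : Fin d → B) (hb : ∀ i, b i ∈ 𝒜 1)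
    (hbQ : pt 𝒜 d b 1 hb ∉ Q) :
    ∃ (n : ℕ) (_ : 0 < n) (f : B) (hf : f ∈ 𝒜 n), pt 𝒜 d (fun _ => f) n (fun _ => hf) ∉ Q := by
  classical
  let Z : Fin d → ℕ → B → Prop := fun i n x =>
    ∃ hx : x ∈ 𝒜 n, (⟨psi d b n i x, psi_mem 𝒜 d b hb n i _ hx⟩ : Cal 𝒜 d) ∈ Q
  have hZ : K755.HomogAvoid.IsPrimes 𝒜 Z := by
    constructor
    · rintro i n x y hx hy ⟨_, h1⟩ ⟨_, h2⟩
      refine ⟨hy, ?_⟩
      have := Q.sub_mem h2 h1
      convert this using 1
      apply Subtype.ext
      show psi d b n i y = psi d b n i (x + y) - psi d b n i x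
      rw [psi_add]; abel
    · intro i n m x y hx hy
      have hxy : (⟨psi d b (n + m) i (x * y), psi_mem 𝒜 d b hb (n + m) i _ (SetLike.mul_mem_graded hx hy)⟩ :
          Cal 𝒜 d) = ⟨psi d b n i x, psi_mem 𝒜 d b hb n i _ hx⟩ * ⟨psi d b m i y, psi_mem 𝒜 d b hb m i _ hy⟩ :=
        Subtype.ext (psi_mul d b n m i x y)
      constructor
      · rintro ⟨_, h1⟩
        rw [hxy] at h1
        rcases hQ.mem_or_mem h1 with h | h
        · exact Or.inl ⟨hx, h⟩
        · exact Or.inr ⟨hy, h⟩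
      · rintro (⟨_, h⟩ | ⟨_, h⟩)
        · exact ⟨SetLike.mul_mem_graded hx hy, by rw [hxy]; exact Q.mul_mem_right _ h⟩
        · exact ⟨SetLike.mul_mem_graded hx hy, by rw [hxy]; exact Q.mul_mem_left _ h⟩
  obtain ⟨n, hn, f, hf, h⟩ := hZ.avoid Finset.univ fun i _ => ⟨1, one_pos, b i, hb i, by
    rintro ⟨h1, h2⟩
    apply hbQ
    convert h2 using 1
    exact Subtype.ext (psi_self d b i).symm⟩
  exact ⟨n, hn, f, hf, tpow_notMem 𝒜 d Q b hb n f hf fun i hi => h i (Finset.mem_univ i) ⟨hf, hi⟩⟩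

/-- a degree one element avoiding all the primes, when there are enough scalars -/
theorem exists_degOne (Q : Ideal (Cal 𝒜 d)) [hQ : Q.IsPrime] (b : Fin d → B) (hb : ∀ i, b i ∈ 𝒜 1)
    (hbQ : pt 𝒜 d b 1 hb ∉ Q) (r : Fin d → A)
    (hr : ∀ i j, i ≠ j → algebraMap A (Cal 𝒜 d) (r i - r j) ∉ Q) :
    ∃ (f : B) (hf : f ∈ 𝒜 1), pt 𝒜 d (fun _ => f) 1 (fun _ => hf) ∉ Q := by
  classical
  let T : (i : Fin d) → (x : 𝒜 1) → Cal 𝒜 d := fun i x => ⟨psi d b 1 i x, psi_mem 𝒜 d b hb 1 i _ x.2⟩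
  have hTadd : ∀ i (x y : 𝒜 1), T i (x + y) = T i x + T i y := fun i x y => Subtype.ext (psi_add d b 1 i _ _)
  have hTsmul : ∀ i (r : A) (x : 𝒜 1), T i (r • x) = algebraMap A (Cal 𝒜 d) r * T i x := by
    intro i r x
    rw [← Algebra.smul_def]
    exact Subtype.ext (psi_smul d b 1 i r _)
  have key : ∀ s : Finset (Fin d), ∃ f : 𝒜 1, ∀ i ∈ s, T i f ∉ Q := by
    intro s
    induction s using Finset.induction_on with
    | empty => exact ⟨0, fun i hi => absurd hi (Finset.notMem_empty i)⟩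
    | insert a s ha ih =>
      obtain ⟨f, hf⟩ := ih
      let g : 𝒜 1 := ⟨b a, hb a⟩
      have hg : T a g ∉ Q := by
        intro h2
        apply hbQ
        convert h2 using 1
        exact Subtype.ext (psi_self d b a).symm
      by_cases hfa : T a f ∈ Q
      · by_contra hcon
        push Not at hcon
        -- each `g + r j • f` is bad for some index in `s`
        have hbad : ∀ j : Fin d, ∃ i ∈ s, T i (g + r j • f) ∈ Q := by
          intro j
          obtain ⟨i, hi, hiQ⟩ := hcon (g + r j • f)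
          rcases Finset.mem_insert.mp hi with rfl | hi
          · exfalso
            apply hg
            rw [hTadd, hTsmul] at hiQ
            exact (Ideal.add_mem_iff_left _ (Q.mul_mem_left _ hfa)).mp hiQ
          · exact ⟨i, hi, hiQ⟩
        choose φ hφs hφ using hbad
        have hcard : s.card < (Finset.univ : Finset (Fin d)).card :=
          Finset.card_lt_card (Finset.ssubset_univ_iff.mpr fun h => ha (h ▸ Finset.mem_univ a))
        obtain ⟨j, -, j', -, hjj, hφj⟩ := Finset.exists_ne_map_eq_of_card_lt_of_maps_to hcard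
          (f := φ) (fun j _ => hφs j)
        have h1 := hφ j
        have h2 := hφ j'
        rw [← hφj] at h2
        have h3 := Q.sub_mem h1 h2
        rw [hTadd, hTadd, hTsmul, hTsmul, add_sub_add_left_eq_sub, ← sub_mul, ← map_sub] at h3
        rcases hQ.mem_or_mem h3 with h | h
        · exact hr j j' hjj h
        · exact hf _ (hφs j) h
      · exact ⟨f, fun i hi => (Finset.mem_insert.mp hi).elim (fun h => h ▸ hfa) (hf i)⟩
  obtain ⟨f, hf⟩ := key Finset.univ
  exact ⟨f, f.2, tpow_notMem 𝒜 d Q b hb 1 f f.2 fun i => hf i (Finset.mem_univ i)⟩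

end K755.SymGraded
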