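import Mathlib.GroupTheory.Coset.Basic
import Mathlib.Algebra.Group.Hom.End
import Mathlib.Algebra.BigOperators.Group.Finset.Basic
import Mathlib.Algebra.BigOperators.GroupWithZero.Action
import Mathlib.GroupTheory.GroupAction.Quotient
import Mathlib.Algebra.Ring.Action.Basic

/-!
# Relative traces `M^H → M^G` for an additive representation
-/

namespace K755.Trace

variable {G M : Type*} [Group G] [AddCommGroup M] (φ : G →* AddMonoid.End M) (H : Subgroup G)

theorem out_apply {m : M} (hm : ∀ h ∈ H, φ h m = m) (g : G) :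
    φ (Quotient.out (QuotientGroup.mk g : G ⧸ H)) m = φ g m := by
  obtain ⟨h, hh⟩ := QuotientGroup.mk_out_eq_mul H g
  have h1 : (Quotient.out (QuotientGroup.mk g : G ⧸ H)) = g * h := hh
  rw [h1, map_mul]
  show φ g (φ h m) = _
  rw [hm h h.2]

variable [Fintype (G ⧸ H)]

/-- The relative trace. -/
noncomputable def tr : M →+ M where
  toFun m := ∑ c : G ⧸ H, φ c.out m
  map_zero' := Finset.sum_eq_zero fun _ _ => map_zero _
  map_add' x y := by
    rw [← Finset.sum_add_distrib]
    exact Finset.sum_congr rfl fun _ _ => map_add _ _ _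

theorem tr_apply (m : M) : tr φ H m = ∑ c : G ⧸ H, φ c.out m := rfl

theorem apply_tr {m : M} (hm : ∀ h ∈ H, φ h m = m) (g : G) : φ g (tr φ H m) = tr φ H m := by
  rw [tr_apply, map_sum]
  refine Fintype.sum_equiv (MulAction.toPerm g) _ _ (fun c => ?_)
  obtain ⟨x, rfl⟩ := QuotientGroup.mk_surjective c
  have h1 : (MulAction.toPerm g : Equiv.Perm (G ⧸ H)) (QuotientGroup.mk x) = QuotientGroup.mk (g * x) := rfl
  rw [h1, out_apply φ H hm, out_apply φ H hm, map_mul]
  rfl

/-- Equivariant additive maps commute with the trace. -/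
theorem map_tr {N : Type*} [AddCommGroup N] (ψ : G →* AddMonoid.End N) (f : M →+ N)
    (hf : ∀ g m, f (φ g m) = ψ g (f m)) (m : M) : f (tr φ H m) = tr ψ H (f m) := by
  rw [tr_apply, tr_apply, map_sum]
  exact Finset.sum_congr rfl fun c _ => hf _ _

theorem tr_eq_sum {m : M} [DecidableEq (G ⧸ H)] :
    tr φ H m = φ (Quotient.out (QuotientGroup.mk 1 : G ⧸ H)) m +
      ∑ c ∈ Finset.univ.erase (QuotientGroup.mk 1 : G ⧸ H), φ c.out m := by
  rw [tr_apply]
  exact (Finset.add_sum_erase Finset.univ (fun c : G ⧸ H => φ c.out m) (Finset.mem_univ _)).symm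

theorem out_notMem {c : G ⧸ H} (hc : c ≠ QuotientGroup.mk 1) : c.out ∉ H := by
  intro h
  apply hc
  rw [← QuotientGroup.out_eq' c]
  exact (QuotientGroup.eq.mpr (by simpa using h)).symm

end K755.Trace
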