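import Groth.Agent.SymTen.K937.FreeInv
import Groth.Agent.ZeroCyc.K755.Trace
import Mathlib.LinearAlgebra.Pi
import Mathlib.RingTheory.Flat.Stability

/-!
# Symmetric tensors with several colours

`B j` (`j : J`) are `A`-modules, `c : Fin d → J` a colouring and `T = ⨂[A] i, B (c i)`. The Young subgroup `H` of the
permutations preserving `c` acts on `T`. If all `B j` are flat then
* `K755.Colour.mem_span`: the `H`-invariants of `T` are spanned by the orbit sums of the pure tensors formed from any
  generating family of `∏ j, B j`;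
* `K755.Colour.flat_inv`: the `H`-invariants of `T` are flat.
-/

universe u
open scoped TensorProduct

namespace K755.Colour

section Flat

variable {A : Type u} [CommRing A] {n : ℕ}

/-- Symmetric tensors of a flat module are spanned by the orbit sums of the pure tensors of any generating family. -/
theorem mem_span_of_flat {M : Type u} [AddCommGroup M] [Module A M] [Module.Flat A M] {K : Type u} (v : K → M)
    (hv : Submodule.span A (Set.range v) = ⊤) {t : ⨂[A] _ : Fin n, M} (ht : t ∈ K937.FreeInv.symT A n M) :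
    t ∈ Submodule.span A {x : ⨂[A] _ : Fin n, M | ∃ O : Finset (Fin n → K),
      (∀ p ∈ O, ∀ σ : Equiv.Perm (Fin n), (fun i => p (σ i)) ∈ O) ∧
      x = ∑ p ∈ O, PiTensorProduct.tprod A (fun i => v (p i))} := by
  obtain ⟨F, i1, i2, i3, y, s, hs1, hs2, -⟩ := K937.Laz.exists_free_sym_lift (R := A) (M := M) (n := n) 1
    (fun _ => 0) (fun _ => t) (fun _ => K937.FreeInv.mem_symT.mp ht) (by simp)
  let L : (K →₀ A) →ₗ[A] M := Finsupp.linearCombination A v
  have hL : Function.Surjective L := by
    rw [← LinearMap.range_eq_top, Finsupp.range_linearCombination, hv]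
  obtain ⟨l, hl⟩ := Module.projective_lifting_property L y hL
  have hs'' := K937.FreeInv.map_mem_symT (n := n) l (K937.FreeInv.mem_symT.mpr (hs1 0))
  have h1 := K937.FreeInv.mem_span_orbit (Finsupp.basisSingleOne (R := A) (ι := K)) hs''
  have h2 := Submodule.mem_map_of_mem (f := PiTensorProduct.map (fun _ : Fin n => L)) h1
  rw [← LinearMap.comp_apply, ← PiTensorProduct.map_comp] at h2
  have e : (fun _ : Fin n => L ∘ₗ l) = fun _ : Fin n => y := by rw [hl]
  rw [e, hs2, Submodule.map_span] at h2
  refine Submodule.span_mono ?_ h2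
  rintro _ ⟨_, ⟨O, hO, rfl⟩, rfl⟩
  refine ⟨O, hO, ?_⟩
  rw [map_sum]
  refine Finset.sum_congr rfl fun p _ => ?_
  rw [PiTensorProduct.map_tprod]
  congr 1
  funext i
  simp [L]

end Flat

section Col

variable {d : ℕ} {J : Type} (c : Fin d → J)

/-- The Young subgroup of the permutations preserving the colouring. -/
def young : Subgroup (Equiv.Perm (Fin d)) where
  carrier := {σ | ∀ i, c (σ i) = c i}
  mul_mem' {σ τ} hσ hτ i := by
    rw [Equiv.Perm.mul_apply, hσ, hτ]
  one_mem' i := rfl
  inv_mem' {σ} hσ i := by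
    have := hσ (σ⁻¹ i)
    rw [← Equiv.Perm.mul_apply, mul_inv_cancel] at this
    exact this.symm

theorem mem_young {σ : Equiv.Perm (Fin d)} : σ ∈ young c ↔ ∀ i, c (σ i) = c i := Iff.rfl

theorem young_symm {σ : Equiv.Perm (Fin d)} (h : σ ∈ young c) (i : Fin d) : c (σ.symm i) = c i :=
  (young c).inv_mem h i

variable [Fintype J] [DecidableEq J] {A : Type u} [CommRing A] (B : J → Type u) [∀ j, AddCommGroup (B j)]
  [∀ j, Module A (B j)]

/-- The inclusion of the coloured tensor product into the tensor power of the product. -/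
noncomputable def sec : (⨂[A] i, B (c i)) →ₗ[A] ⨂[A] _ : Fin d, (∀ j, B j) :=
  PiTensorProduct.map (fun i => LinearMap.single A B (c i))

/-- The projection onto the coloured tensor product. -/
noncomputable def ev : (⨂[A] _ : Fin d, (∀ j, B j)) →ₗ[A] (⨂[A] i, B (c i)) :=
  PiTensorProduct.map (fun i => LinearMap.proj (c i))

theorem sec_tprod (f : ∀ i, B (c i)) :
    sec c (A := A) B (PiTensorProduct.tprod A f) = PiTensorProduct.tprod A (fun i => Pi.single (c i) (f i)) := by
  rw [sec, PiTensorProduct.map_tprod]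
  rfl

theorem ev_tprod (f : Fin d → ∀ j, B j) :
    ev c (A := A) B (PiTensorProduct.tprod A f) = PiTensorProduct.tprod A (fun i => f i (c i)) := by
  rw [ev, PiTensorProduct.map_tprod]
  rfl

theorem ev_sec (z : ⨂[A] i, B (c i)) : ev c B (sec c B z) = z := by
  induction z using PiTensorProduct.induction_on with
  | smul_tprod r f =>
    rw [map_smul, map_smul, sec_tprod, ev_tprod]
    congr 2
    funext i
    simp
  | add x y hx hy => rw [map_add, map_add, hx, hy]

/-- The permutation action on the tensor power. -/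
noncomputable def pact (M : Type u) [AddCommGroup M] [Module A M] :
    Equiv.Perm (Fin d) →* AddMonoid.End (⨂[A] _ : Fin d, M) where
  toFun σ := (PiTensorProduct.reindex A (fun _ : Fin d => M) σ).toLinearMap.toAddMonoidHom
  map_one' := by
    ext t
    change PiTensorProduct.reindex A (fun _ : Fin d => M) 1 t = t
    induction t using PiTensorProduct.induction_on with
    | smul_tprod r f => rw [map_smul, PiTensorProduct.reindex_tprod]; rfl
    | add x y hx hy => rw [map_add, hx, hy]
  map_mul' σ τ := by
    ext t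
    change PiTensorProduct.reindex A (fun _ : Fin d => M) (σ * τ) t =
      PiTensorProduct.reindex A (fun _ : Fin d => M) σ (PiTensorProduct.reindex A (fun _ : Fin d => M) τ t)
    induction t using PiTensorProduct.induction_on with
    | smul_tprod r f =>
      rw [map_smul, map_smul, map_smul, PiTensorProduct.reindex_tprod, PiTensorProduct.reindex_tprod,
        PiTensorProduct.reindex_tprod]
      rfl
    | add x y hx hy => rw [map_add, map_add, map_add, hx, hy]

theorem pact_apply (M : Type u) [AddCommGroup M] [Module A M] (σ : Equiv.Perm (Fin d)) (t : ⨂[A] _ : Fin d, M) :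
    pact M σ t = PiTensorProduct.reindex A (fun _ : Fin d => M) σ t := rfl

/-- For `σ ∉ H` the component of `σ z` in the coloured tensor product vanishes. -/
theorem ev_reindex_of_notMem (σ : Equiv.Perm (Fin d)) (hσ : σ ∉ young c) (z : ⨂[A] i, B (c i)) :
    ev c B (PiTensorProduct.reindex A (fun _ : Fin d => (∀ j, B j)) σ (sec c B z)) = 0 := by
  induction z using PiTensorProduct.induction_on with
  | smul_tprod r f =>
    rw [map_smul, map_smul, map_smul, sec_tprod, PiTensorProduct.reindex_tprod, ev_tprod]
    rw [mem_young, not_forall] at hσ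
    obtain ⟨i, hi⟩ := hσ
    have h0 : (Pi.single (c (σ.symm (σ i))) (f (σ.symm (σ i))) : ∀ j, B j) (c (σ i)) = 0 := by
      rw [Pi.single_eq_of_ne]
      rw [Equiv.symm_apply_apply]
      exact hi
    rw [MultilinearMap.map_coord_zero _ (σ i) h0, smul_zero]
  | add x y hx hy => rw [map_add, map_add, map_add, hx, hy, add_zero]

/-- For `σ ∈ H`, `σ z` is in the coloured tensor product. -/
theorem sec_ev_reindex (σ : Equiv.Perm (Fin d)) (hσ : σ ∈ young c) (z : ⨂[A] i, B (c i)) :
    sec c B (ev c B (PiTensorProduct.reindex A (fun _ : Fin d => (∀ j, B j)) σ (sec c B z))) =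
      PiTensorProduct.reindex A (fun _ : Fin d => (∀ j, B j)) σ (sec c B z) := by
  induction z using PiTensorProduct.induction_on with
  | smul_tprod r f =>
    simp only [map_smul]
    rw [sec_tprod, PiTensorProduct.reindex_tprod, ev_tprod, sec_tprod]
    congr 2
    funext i
    have h := young_symm c hσ i
    generalize hk : σ.symm i = k at h ⊢
    funext j
    by_cases hj : j = c i
    · subst hj
      rw [Pi.single_eq_same]
    · rw [Pi.single_eq_of_ne hj, Pi.single_eq_of_ne]
      rw [h]
      exact hj
  | add x y hx hy => simp only [map_add, hx, hy]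

/-- The submodule of `H`-invariants of the coloured tensor product. -/
noncomputable def inv : Submodule A (⨂[A] i, B (c i)) where
  carrier := {z | ∀ σ ∈ young c,
    ev c B (PiTensorProduct.reindex A (fun _ : Fin d => (∀ j, B j)) σ (sec c B z)) = z}
  zero_mem' σ _ := by simp
  add_mem' {x y} hx hy σ hσ := by rw [map_add, map_add, map_add, hx σ hσ, hy σ hσ]
  smul_mem' a x hx σ hσ := by rw [map_smul, map_smul, map_smul, hx σ hσ]

theorem mem_inv {z : ⨂[A] i, B (c i)} : z ∈ inv c B ↔ ∀ σ ∈ young c,
    ev c B (PiTensorProduct.reindex A (fun _ : Fin d => (∀ j, B j)) σ (sec c B z)) = z := Iff.rfl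

theorem reindex_sec {z : ⨂[A] i, B (c i)} (hz : z ∈ inv c B) (σ : Equiv.Perm (Fin d)) (hσ : σ ∈ young c) :
    PiTensorProduct.reindex A (fun _ : Fin d => (∀ j, B j)) σ (sec c B z) = sec c B z := by
  rw [← sec_ev_reindex c B σ hσ, hz σ hσ]

open Classical in
/-- The symmetrisation of an invariant element. -/
noncomputable def symm : (⨂[A] i, B (c i)) →ₗ[A] ⨂[A] _ : Fin d, (∀ j, B j) :=
  ∑ q : Equiv.Perm (Fin d) ⧸ young c,
    (PiTensorProduct.reindex A (fun _ : Fin d => (∀ j, B j)) q.out).toLinearMap ∘ₗ sec c B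

open Classical in
theorem symm_eq_tr (z : ⨂[A] i, B (c i)) :
    symm c B z = Trace.tr (pact (∀ j, B j)) (young c) (sec c (A := A) B z) := by
  rw [symm, LinearMap.sum_apply]
  rfl

theorem symm_mem {z : ⨂[A] i, B (c i)} (hz : z ∈ inv c B) :
    symm c B z ∈ K937.FreeInv.symT A d (∀ j, B j) := by
  classical
  rw [K937.FreeInv.mem_symT]
  intro σ
  rw [symm_eq_tr]
  exact Trace.apply_tr (pact (A := A) (∀ j, B j)) (young c) (fun h hh => reindex_sec c B hz h hh) σ

theorem ev_symm {z : ⨂[A] i, B (c i)} (hz : z ∈ inv c B) : ev c B (symm c B z) = z := by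
  classical
  rw [symm_eq_tr, Trace.tr_eq_sum, map_add, map_sum, Finset.sum_eq_zero, add_zero]
  · rw [Trace.out_apply (pact (A := A) (∀ j, B j)) (young c) (fun h hh => reindex_sec c B hz h hh), map_one]
    exact ev_sec c B z
  · intro q hq
    exact ev_reindex_of_notMem c B _ (Trace.out_notMem (young c) (Finset.ne_of_mem_erase hq)) z

theorem ev_mem_inv {t : ⨂[A] _ : Fin d, (∀ j, B j)} (ht : t ∈ K937.FreeInv.symT A d (∀ j, B j)) :
    ev c B t ∈ inv c B := by
  intro σ hσ
  have key : ∀ t : ⨂[A] _ : Fin d, (∀ j, B j),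
      ev c B (PiTensorProduct.reindex A (fun _ : Fin d => (∀ j, B j)) σ (sec c B (ev c B t))) =
        ev c B (PiTensorProduct.reindex A (fun _ : Fin d => (∀ j, B j)) σ t) := by
    intro t
    induction t using PiTensorProduct.induction_on with
    | smul_tprod r f =>
      simp only [map_smul]
      rw [ev_tprod, sec_tprod, PiTensorProduct.reindex_tprod, ev_tprod, PiTensorProduct.reindex_tprod, ev_tprod]
      congr 2
      funext i
      have h := young_symm c hσ i
      generalize hk : σ.symm i = k at h ⊢
      rw [← h, Pi.single_eq_same]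
    | add x y hx hy => simp only [map_add, hx, hy]
  rw [key, K937.FreeInv.mem_symT.mp ht σ]

omit [DecidableEq J] in
theorem flat_pi [∀ j, Module.Flat A (B j)] : Module.Flat A (∀ j, B j) := by
  classical
  exact Module.Flat.of_linearEquiv (DirectSum.linearEquivFunOnFintype A J B).symm

theorem flat_inv [∀ j, Module.Flat A (B j)] : Module.Flat A (inv c (A := A) B) := by
  have : Module.Flat A (∀ j, B j) := flat_pi B
  have h1 : Module.Flat A (K937.FreeInv.symT A d (∀ j, B j)) := K937.FreeInv.flat_symT _
  let i : inv c (A := A) B →ₗ[A] K937.FreeInv.symT A d (∀ j, B j) :=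
    ((symm c B).comp (inv c (A := A) B).subtype).codRestrict _ (fun z => symm_mem c B z.2)
  let r : K937.FreeInv.symT A d (∀ j, B j) →ₗ[A] inv c (A := A) B :=
    ((ev c B).comp (K937.FreeInv.symT A d (∀ j, B j)).subtype).codRestrict _ (fun t => ev_mem_inv c B t.2)
  refine Module.Flat.of_retract i r ?_
  ext z
  exact ev_symm c B z.2

/-- The `H`-invariants are spanned by the orbit sums of a generating family. -/
theorem mem_span [∀ j, Module.Flat A (B j)] {K : Type u} (v : K → ∀ j, B j)
    (hv : Submodule.span A (Set.range v) = ⊤) {z : ⨂[A] i, B (c i)} (hz : z ∈ inv c B) :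
    z ∈ Submodule.span A {x : ⨂[A] i, B (c i) | ∃ O : Finset (Fin d → K),
      (∀ p ∈ O, ∀ σ : Equiv.Perm (Fin d), (fun i => p (σ i)) ∈ O) ∧
      x = ∑ p ∈ O, PiTensorProduct.tprod A (fun i => v (p i) (c i))} := by
  have : Module.Flat A (∀ j, B j) := flat_pi B
  have h1 := mem_span_of_flat v hv (symm_mem c B hz)
  have h2 := Submodule.mem_map_of_mem (f := ev c (A := A) B) h1
  rw [ev_symm c B hz, Submodule.map_span] at h2
  refine Submodule.span_mono ?_ h2
  rintro _ ⟨_, ⟨O, hO, rfl⟩, rfl⟩
  refine ⟨O, hO, ?_⟩
  rw [map_sum]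
  refine Finset.sum_congr rfl fun p _ => ?_
  rw [ev_tprod]

end Col

end K755.Colour
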