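import Groth.Agent.ZeroCyc.K755.Colour

/-!
# Coloured tensor products of algebras

Ring versions of `K755.Colour`, for a ring `T` identified with a coloured tensor product.
-/

universe u
open scoped TensorProduct

namespace K755.ColourRing

open K755.Colour

variable {d : ℕ} {J : Type} (c : Fin d → J) [Fintype J] [DecidableEq J]
  {A : Type u} [CommRing A] {B : J → Type u} [∀ j, CommRing (B j)] [∀ j, Algebra A (B j)]
  {T : Type u} [CommRing T] [Algebra A T] (ι : ∀ i, B (c i) →ₐ[A] T)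

/-- The map from the coloured tensor product, `⊗ f_i ↦ ∏ ι_i(f_i)`. -/
noncomputable def Θ : (⨂[A] i, B (c i)) →ₗ[A] T :=
  PiTensorProduct.lift ((MultilinearMap.mkPiAlgebra A (Fin d) T).compLinearMap (fun i => (ι i).toLinearMap))

omit [Fintype J] [DecidableEq J] in
theorem Θ_tprod (f : ∀ i, B (c i)) : Θ c ι (PiTensorProduct.tprod A f) = ∏ i, ι i (f i) := by
  rw [Θ, PiTensorProduct.lift.tprod]
  rfl

/-- Equivariance data for the Young subgroup. -/
def IsEqv (τ : young c → T →+* T) (κ : ∀ i, B (c i) →+* T) : Prop :=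
  ∀ (σ : young c) (i : Fin d) (b : ∀ j, B j), τ σ (κ i (b (c i))) = κ (σ.1 i) (b (c (σ.1 i)))

omit [Fintype J] [∀ j, Algebra A (B j)] [DecidableEq J] [Algebra A T] in
theorem IsEqv.prod {τ : young c → T →+* T} {κ : ∀ i, B (c i) →+* T} (h : IsEqv c τ κ) (σ : young c)
    (b : Fin d → ∀ j, B j) :
    τ σ (∏ i, κ i (b i (c i))) = ∏ i, κ i (b (σ.1.symm i) (c i)) := by
  rw [map_prod]
  refine (Fintype.prod_equiv σ.1 _ _ (fun i => ?_))
  rw [h σ i (b i), Equiv.symm_apply_apply]

theorem Θ_equiv {τ : young c → T →+* T} (hA : ∀ σ (a : A), τ σ (algebraMap A T a) = algebraMap A T a)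
    (h : IsEqv c τ (fun i => (ι i).toRingHom)) (σ : young c) (z : ⨂[A] i, B (c i)) :
    Θ c ι (ev c B (PiTensorProduct.reindex A (fun _ : Fin d => (∀ j, B j)) σ.1 (sec c B z))) = τ σ (Θ c ι z) := by
  induction z using PiTensorProduct.induction_on with
  | smul_tprod r f =>
    simp only [map_smul]
    rw [sec_tprod, PiTensorProduct.reindex_tprod, ev_tprod, Θ_tprod, Θ_tprod, Algebra.smul_def, Algebra.smul_def,
      map_mul, hA]
    congr 1
    have h1 := h.prod c σ (fun i => Pi.single (c i) (f i))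
    have h2 : ∏ i, (ι i).toRingHom ((Pi.single (c i) (f i) : ∀ j, B j) (c i)) = ∏ i, ι i (f i) := by
      refine Finset.prod_congr rfl fun i _ => ?_
      rw [Pi.single_eq_same]
      rfl
    rw [h2] at h1
    exact h1.symm
  | add x y hx hy => simp only [map_add, hx, hy]

/-- The invariants of `T`. -/
def invs (τ : young c → T →+* T) : Subring T where
  carrier := {t | ∀ σ, τ σ t = t}
  mul_mem' hx hy σ := by rw [map_mul, hx σ, hy σ]
  one_mem' σ := map_one _
  add_mem' hx hy σ := by rw [map_add, hx σ, hy σ]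
  zero_mem' σ := map_zero _
  neg_mem' hx σ := by rw [map_neg, hx σ]

omit [Fintype J] [DecidableEq J] in
theorem mem_invs {τ : young c → T →+* T} {t : T} : t ∈ invs c τ ↔ ∀ σ, τ σ t = t := Iff.rfl

theorem mem_inv_iff {τ : young c → T →+* T} (hA : ∀ σ (a : A), τ σ (algebraMap A T a) = algebraMap A T a)
    (h : IsEqv c τ (fun i => (ι i).toRingHom)) (hΘ : Function.Injective (Θ c ι)) (z : ⨂[A] i, B (c i)) :
    z ∈ inv c (A := A) B ↔ Θ c ι z ∈ invs c τ := by
  rw [mem_inv, mem_invs]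
  constructor
  · intro hz σ
    rw [← Θ_equiv c ι hA h σ, hz σ.1 σ.2]
  · intro hz σ hσ
    apply hΘ
    rw [Θ_equiv c ι hA h ⟨σ, hσ⟩, hz]

/-- The invariants of a coloured tensor product of flat algebras are flat. -/
theorem flat_invs [∀ j, Module.Flat A (B j)] {τ : young c → T →+* T}
    (hA : ∀ σ (a : A), τ σ (algebraMap A T a) = algebraMap A T a)
    (h : IsEqv c τ (fun i => (ι i).toRingHom)) (hΘ : Function.Bijective (Θ c ι))
    (N : Submodule A T) (hN : ∀ t, t ∈ N ↔ t ∈ invs c τ) : Module.Flat A N := by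
  have := flat_inv c (A := A) B
  let e : inv c (A := A) B ≃ₗ[A] N := LinearEquiv.ofBijective
    (((Θ c ι).comp (inv c (A := A) B).subtype).codRestrict N
      (fun z => (hN _).mpr ((mem_inv_iff c ι hA h hΘ.1 z.1).mp z.2))) (by
      constructor
      · intro x y hxy
        exact Subtype.ext (hΘ.1 (congrArg Subtype.val hxy))
      · intro t
        obtain ⟨z, hz⟩ := hΘ.2 t.1
        exact ⟨⟨z, (mem_inv_iff c ι hA h hΘ.1 z).mpr (by rw [hz]; exact (hN _).mp t.2)⟩, Subtype.ext hz⟩)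
  exact Module.Flat.of_linearEquiv e.symm

theorem span_pi {B₀ : J → Type u} [∀ j, CommRing (B₀ j)] (ψ : ∀ j, B₀ j →+* B j)
    (hψ : ∀ j, Submodule.span A (Set.range (ψ j)) = ⊤) :
    Submodule.span A (Set.range (fun (β : ∀ j, B₀ j) (j : J) => ψ j (β j))) = ⊤ := by
  rw [eq_top_iff]
  rintro b -
  have hb : b = ∑ j, Pi.single j (b j) := (Finset.univ_sum_single b).symm
  rw [hb]
  refine Submodule.sum_mem _ fun j _ => ?_
  have h1 : b j ∈ Submodule.span A (Set.range (ψ j)) := by rw [hψ j]; trivial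
  have h2 := Submodule.mem_map_of_mem (f := LinearMap.single A B j) h1
  rw [Submodule.map_span] at h2
  refine Submodule.span_mono ?_ h2
  rintro _ ⟨_, ⟨β, rfl⟩, rfl⟩
  refine ⟨Pi.single j β, ?_⟩
  funext k
  by_cases hk : k = j
  · subst hk
    simp
  · simp [Pi.single_eq_of_ne hk]

/-- The invariants of a coloured tensor product of flat algebras generated by algebras `B₀ j` are generated by the
invariants of any ring `T₀` receiving the `B₀ (c i)` compatibly. -/
theorem mem_span_ring [∀ j, Module.Flat A (B j)] {τ : young c → T →+* T}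
    (hA : ∀ σ (a : A), τ σ (algebraMap A T a) = algebraMap A T a)
    (h : IsEqv c τ (fun i => (ι i).toRingHom)) (hΘ : Function.Bijective (Θ c ι))
    {B₀ : J → Type u} [∀ j, CommRing (B₀ j)] (ψ : ∀ j, B₀ j →+* B j)
    (hψ : ∀ j, Submodule.span A (Set.range (ψ j)) = ⊤)
    {T₀ : Type u} [CommRing T₀] (κ : ∀ i, B₀ (c i) →+* T₀) {τ₀ : young c → T₀ →+* T₀} (h₀ : IsEqv c τ₀ κ)
    (ψT : T₀ →+* T) (hψT : ∀ i b, ψT (κ i b) = ι i (ψ (c i) b))
    {t : T} (ht : ∀ σ, τ σ t = t) :
    t ∈ Submodule.span A {x : T | ∃ t₀ : T₀, (∀ σ, τ₀ σ t₀ = t₀) ∧ x = ψT t₀} := by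
  obtain ⟨z, rfl⟩ := hΘ.2 t
  have hz : z ∈ inv c (A := A) B := (mem_inv_iff c ι hA h hΘ.1 z).mpr ht
  have h1 := mem_span c B (fun (β : ∀ j, B₀ j) (j : J) => ψ j (β j)) (span_pi ψ hψ) hz
  have h2 := Submodule.mem_map_of_mem (f := Θ c ι) h1
  rw [Submodule.map_span] at h2
  refine Submodule.span_mono ?_ h2
  rintro _ ⟨_, ⟨O, hO, rfl⟩, rfl⟩
  refine ⟨∑ p ∈ O, ∏ i, κ i (p i (c i)), ?_, ?_⟩
  · intro σ
    rw [map_sum]
    refine Finset.sum_bij' (fun p _ => fun i => p (σ.1.symm i)) (fun p _ => fun i => p (σ.1 i))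
      (fun p hp => hO p hp σ.1.symm) (fun p hp => hO p hp σ.1) (fun p _ => by funext i; simp)
      (fun p _ => by funext i; simp) (fun p hp => ?_)
    exact h₀.prod c σ p
  · rw [map_sum, map_sum]
    refine Finset.sum_congr rfl fun p _ => ?_
    rw [Θ_tprod, map_prod]
    exact Finset.prod_congr rfl fun i _ => (hψT i _).symm

end K755.ColourRing
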