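import Groth.Prelude.Def_SymProd
import Groth.Agent.ZeroCyc.K755.ColourRing
import Mathlib.AlgebraicGeometry.AffineScheme
import Mathlib.AlgebraicGeometry.Morphisms.IsIso

/-!
# Affine charts of fibre powers

For an affine open `S₀` of `S` and affine opens `U j` of `X` over `S₀`, the open of the fibre power of points whose `i`-th
component lies in `U (c i)` is affine, with ring the coloured tensor product.
-/

universe u
open CategoryTheory CategoryTheory.Limits AlgebraicGeometry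
open scoped TensorProduct

namespace K755.FibChart

variable {X S : Scheme.{u}} (f : X ⟶ S) {d : ℕ}

/-- The structure map of the fibre power. -/
noncomputable abbrev bs (d : ℕ) : SymProd.fibPow f d ⟶ S := WidePullback.base (fun _ : Fin d => f)

/-- The `i`-th projection. -/
noncomputable abbrev pr (i : Fin d) : SymProd.fibPow f d ⟶ X := WidePullback.π (fun _ : Fin d => f) i

theorem pr_comp (i : Fin d) : pr f i ≫ f = bs f d := WidePullback.π_arrow _ i

variable {J : Type} (c : Fin d → J)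

/-- The chart: points over `S₀` with `i`-th component in `U (c i)`. -/
noncomputable def chart (S₀ : S.Opens) (U : J → X.Opens) : (SymProd.fibPow f d).Opens where
  carrier := {x | bs f d x ∈ S₀ ∧ ∀ i, pr f i x ∈ U (c i)}
  is_open' := by
    have h : {x : SymProd.fibPow f d | bs f d x ∈ S₀ ∧ ∀ i, pr f i x ∈ U (c i)} =
        ((bs f d ⁻¹ᵁ S₀ : (SymProd.fibPow f d).Opens) : Set (SymProd.fibPow f d)) ∩
          ⋂ i, ((pr f i ⁻¹ᵁ U (c i) : (SymProd.fibPow f d).Opens) : Set (SymProd.fibPow f d)) := by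
      ext x
      simp [Set.mem_iInter]
    rw [h]
    exact (TopologicalSpace.Opens.isOpen _).inter (isOpen_iInter_of_finite fun i => TopologicalSpace.Opens.isOpen _)

variable {f c}

theorem mem_chart {S₀ : S.Opens} {U : J → X.Opens} {x : SymProd.fibPow f d} :
    x ∈ chart f c S₀ U ↔ bs f d x ∈ S₀ ∧ ∀ i, pr f i x ∈ U (c i) := Iff.rfl

theorem chart_le_base (S₀ : S.Opens) (U : J → X.Opens) : chart f c S₀ U ≤ bs f d ⁻¹ᵁ S₀ := fun _ hx => hx.1

theorem chart_le_pr (S₀ : S.Opens) (U : J → X.Opens) (i : Fin d) : chart f c S₀ U ≤ pr f i ⁻¹ᵁ U (c i) :=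
  fun _ hx => hx.2 i

variable (f c)

/-- The algebra structure on sections over an open over `S₀`. -/
@[implicit_reducible]
noncomputable def algOf {X S : Scheme.{u}} (f : X ⟶ S) (S₀ : S.Opens) (U : X.Opens) (e : U ≤ f ⁻¹ᵁ S₀) :
    Algebra Γ(S, S₀) Γ(X, U) := (f.appLE S₀ U e).hom.toAlgebra

/-- The coordinate maps. -/
noncomputable def coord (S₀ : S.Opens) (U : J → X.Opens) (e : ∀ j, U j ≤ f ⁻¹ᵁ S₀) (i : Fin d) :
    letI := fun j => algOf f S₀ (U j) (e j)
    letI := algOf (bs f d) S₀ (chart f c S₀ U) (chart_le_base S₀ U)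
    Γ(X, U (c i)) →ₐ[Γ(S, S₀)] Γ(SymProd.fibPow f d, chart f c S₀ U) :=
  letI := fun j => algOf f S₀ (U j) (e j)
  letI := algOf (bs f d) S₀ (chart f c S₀ U) (chart_le_base S₀ U)
  { toRingHom := ((pr f i).appLE (U (c i)) (chart f c S₀ U) (chart_le_pr S₀ U i)).hom
    commutes' := fun r => by
      change ((pr f i).appLE (U (c i)) (chart f c S₀ U) (chart_le_pr S₀ U i)).hom
        ((f.appLE S₀ (U (c i)) (e (c i))).hom r) = ((bs f d).appLE S₀ (chart f c S₀ U) (chart_le_base S₀ U)).hom r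
      rw [← CommRingCat.comp_apply, Scheme.Hom.appLE_comp_appLE]
      simp only [pr_comp] }

theorem coord_apply (S₀ : S.Opens) (U : J → X.Opens) (e : ∀ j, U j ≤ f ⁻¹ᵁ S₀) (i : Fin d) (b : Γ(X, U (c i))) :
    letI := fun j => algOf f S₀ (U j) (e j)
    letI := algOf (bs f d) S₀ (chart f c S₀ U) (chart_le_base S₀ U)
    coord f c S₀ U e i b = ((pr f i).appLE (U (c i)) (chart f c S₀ U) (chart_le_pr S₀ U i)).hom b := rfl

/-- The ring map from the coloured tensor product as an algebra map. -/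
noncomputable def ΘA {A : Type u} [CommRing A] {B : Fin d → Type u} [∀ i, CommRing (B i)] [∀ i, Algebra A (B i)]
    {R : Type u} [CommRing R] [Algebra A R] (ι : ∀ i, B i →ₐ[A] R) : (⨂[A] i, B i) →ₐ[A] R :=
  PiTensorProduct.liftAlgHom ((MultilinearMap.mkPiAlgebra A (Fin d) R).compLinearMap (fun i => (ι i).toLinearMap))
    (by simp) (by intro x y; simp [Finset.prod_mul_distrib])

theorem ΘA_single {A : Type u} [CommRing A] {B : Fin d → Type u} [∀ i, CommRing (B i)] [∀ i, Algebra A (B i)]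
    {R : Type u} [CommRing R] [Algebra A R] (ι : ∀ i, B i →ₐ[A] R) (i : Fin d) (b : B i) :
    ΘA ι (PiTensorProduct.singleAlgHom i b) = ι i b := by
  change PiTensorProduct.lift _ (PiTensorProduct.tprod A (MonoidHom.mulSingle _ i b)) = _
  rw [PiTensorProduct.lift.tprod]
  change ∏ j, ι j (Pi.mulSingle i b j) = _
  rw [Finset.prod_eq_single i]
  · rw [Pi.mulSingle_eq_same]
  · intro j _ hj
    rw [Pi.mulSingle_eq_of_ne hj, map_one]
  · intro h
    exact absurd (Finset.mem_univ i) h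

/-- The scheme-theoretic statement: the chart is affine and the canonical map is bijective. -/
theorem main (S₀ : S.Opens) (hS₀ : IsAffineOpen S₀) (U : J → X.Opens) (hU : ∀ j, IsAffineOpen (U j))
    (e : ∀ j, U j ≤ f ⁻¹ᵁ S₀) :
    letI := fun j => algOf f S₀ (U j) (e j)
    letI := algOf (bs f d) S₀ (chart f c S₀ U) (chart_le_base S₀ U)
    IsAffineOpen (chart f c S₀ U) ∧ Function.Bijective (ΘA (coord f c S₀ U e)) := by
  letI := fun j => algOf f S₀ (U j) (e j)
  letI := algOf (bs f d) S₀ (chart f c S₀ U) (chart_le_base S₀ U)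
  let O := chart f c S₀ U
  let T := ⨂[Γ(S, S₀)] i, Γ(X, U (c i))
  let P : Scheme.{u} := Spec (CommRingCat.of T)
  let al : CommRingCat.of Γ(S, S₀) ⟶ CommRingCat.of T := CommRingCat.ofHom (algebraMap Γ(S, S₀) T)
  let s : ∀ i, CommRingCat.of Γ(X, U (c i)) ⟶ CommRingCat.of T := fun i =>
    CommRingCat.ofHom (PiTensorProduct.singleAlgHom (R := Γ(S, S₀)) (A := fun i => Γ(X, U (c i))) i).toRingHom
  have hs : ∀ i, f.appLE S₀ (U (c i)) (e (c i)) ≫ s i = al := by
    intro i
    ext a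
    exact (PiTensorProduct.singleAlgHom (R := Γ(S, S₀)) (A := fun i => Γ(X, U (c i))) i).commutes a
  let φ : P ⟶ SymProd.fibPow f d := WidePullback.lift (Spec.map al ≫ hS₀.fromSpec)
    (fun i => Spec.map (s i) ≫ (hU (c i)).fromSpec) (by
      intro i
      rw [Category.assoc, ← IsAffineOpen.SpecMap_appLE_fromSpec f hS₀ (hU (c i)) (e (c i)), ← Spec.map_comp_assoc,
        hs i])
  have hφb : φ ≫ bs f d = Spec.map al ≫ hS₀.fromSpec := WidePullback.lift_base _ _ _ _
  have hφp : ∀ i, φ ≫ pr f i = Spec.map (s i) ≫ (hU (c i)).fromSpec := fun i => WidePullback.lift_π _ _ _ _ i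
  let Θr : CommRingCat.of T ⟶ Γ(SymProd.fibPow f d, O) := CommRingCat.ofHom (ΘA (coord f c S₀ U e)).toRingHom
  have hΘs : ∀ i, s i ≫ Θr = (pr f i).appLE (U (c i)) O (chart_le_pr S₀ U i) := by
    intro i
    ext b
    exact ΘA_single (coord f c S₀ U e) i b
  have hΘa : al ≫ Θr = (bs f d).appLE S₀ O (chart_le_base S₀ U) := by
    ext a
    exact (ΘA (coord f c S₀ U e)).commutes a
  let ψ : (O : Scheme.{u}) ⟶ P := O.toSpecΓ ≫ Spec.map Θr
  have key : ∀ {Y : Scheme.{u}} (g : SymProd.fibPow f d ⟶ Y) (W : Y.Opens) (hW : IsAffineOpen W) (hle : O ≤ g ⁻¹ᵁ W),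
      O.toSpecΓ ≫ Spec.map (g.appLE W O hle) ≫ hW.fromSpec = O.ι ≫ g := by
    intro Y g W hW hle
    rw [Scheme.Opens.toSpecΓ_SpecMap_appLE_assoc, IsAffineOpen.toSpecΓ_fromSpec, Scheme.Hom.resLE_comp_ι]
  have h1 : ψ ≫ φ = O.ι := by
    apply WidePullback.hom_ext
    · intro i
      rw [Category.assoc, hφp i, Category.assoc, ← Spec.map_comp_assoc, hΘs i]
      exact key _ _ _ _
    · rw [Category.assoc, hφb, Category.assoc, ← Spec.map_comp_assoc, hΘa]
      exact key _ _ _ _
  have hr : Set.range φ ⊆ Set.range O.ι := by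
    rintro _ ⟨p, rfl⟩
    rw [Scheme.Opens.range_ι]
    refine ⟨?_, fun i => ?_⟩
    · rw [← Scheme.Hom.comp_apply, hφb, Scheme.Hom.comp_apply]
      have := hS₀.range_fromSpec
      exact this.le ⟨_, rfl⟩
    · rw [← Scheme.Hom.comp_apply, hφp i, Scheme.Hom.comp_apply]
      have := (hU (c i)).range_fromSpec
      exact this.le ⟨_, rfl⟩
  let φ' : P ⟶ (O : Scheme.{u}) := IsOpenImmersion.lift O.ι φ hr
  have hφ' : φ' ≫ O.ι = φ := IsOpenImmersion.lift_fac _ _ _
  have h2 : ψ ≫ φ' = 𝟙 _ := by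
    rw [← cancel_mono O.ι, Category.assoc, hφ', h1, Category.id_comp]
  have h3 : φ' ≫ ψ = 𝟙 _ := by
    obtain ⟨χ, hχ⟩ : ∃ χ, Spec.map χ = φ' ≫ ψ := ⟨_, Spec.map_preimage _⟩
    have e1 : ∀ i, s i ≫ χ = s i := by
      intro i
      apply Spec.map_injective
      rw [← cancel_mono (hU (c i)).fromSpec, Spec.map_comp, Category.assoc, ← hφp i, hχ, Category.assoc,
        reassoc_of% h1, reassoc_of% hφ']
    have e2 : al ≫ χ = al := by
      apply Spec.map_injective
      rw [← cancel_mono hS₀.fromSpec, Spec.map_comp, Category.assoc, ← hφb, hχ, Category.assoc,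
        reassoc_of% h1, reassoc_of% hφ']
    let χA : T →ₐ[Γ(S, S₀)] T := { χ.hom with commutes' := fun a => congrArg (fun k => k.hom a) e2 }
    have e3 : χA = AlgHom.id _ _ := by
      apply PiTensorProduct.algHom_ext
      intro i
      ext b
      exact congrArg (fun k => k.hom b) (e1 i)
    have e4 : χ = 𝟙 _ := by
      ext t
      exact congrArg (fun k : T →ₐ[Γ(S, S₀)] T => k t) e3
    rw [← hχ, e4, Spec.map_id]
  have : IsIso ψ := ⟨φ', h2, h3⟩
  have hO : IsAffineOpen O := IsAffine.of_isIso ψ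
  refine ⟨hO, ?_⟩
  have h4 : IsIso O.toSpecΓ := by
    rw [← hO.isoSpec_hom]
    infer_instance
  have h5 : IsIso (Spec.map Θr) := IsIso.of_isIso_comp_left O.toSpecΓ (Spec.map Θr)
  exact isIso_SpecMap_iff.mp h5

end K755.FibChart
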