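import Mathlib.RingTheory.GradedAlgebra.Basic
import Mathlib.RingTheory.Adjoin.FG
import Mathlib.RingTheory.FiniteType
import Mathlib.Algebra.GCDMonoid.Finset
import Mathlib.Algebra.GCDMonoid.Nat
import Mathlib.RingTheory.Finiteness.Basic

/-!
# Veronese pieces of a graded algebra generated by homogeneous elements of positive degree
-/

set_option autoImplicit false

namespace K755.ProjEmbAlg

variable {R A : Type*} [CommRing R] [CommRing A] [Algebra R A] (𝒜 : ℕ → Submodule R A) [GradedAlgebra 𝒜]

/-- finitely many of the generators suffice for each element -/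
theorem exists_finset_mem_adjoin {S : Set A} {x : A} (hx : x ∈ Algebra.adjoin R S) :
    ∃ T : Finset A, (T : Set A) ⊆ S ∧ x ∈ Algebra.adjoin R (T : Set A) := by
  classical
  induction hx using Algebra.adjoin_induction with
  | mem x hx => exact ⟨{x}, by simpa using hx, Algebra.subset_adjoin (by simp)⟩
  | algebraMap r => exact ⟨∅, by simp, Subalgebra.algebraMap_mem _ r⟩
  | add x y _ _ hx hy =>
    obtain ⟨T, hT, hx⟩ := hx
    obtain ⟨T', hT', hy⟩ := hy
    refine ⟨T ∪ T', by rw [Finset.coe_union]; exact Set.union_subset hT hT', Subalgebra.add_mem _ ?_ ?_⟩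
    · exact Algebra.adjoin_mono (by rw [Finset.coe_union]; exact Set.subset_union_left) hx
    · exact Algebra.adjoin_mono (by rw [Finset.coe_union]; exact Set.subset_union_right) hy
  | mul x y _ _ hx hy =>
    obtain ⟨T, hT, hx⟩ := hx
    obtain ⟨T', hT', hy⟩ := hy
    refine ⟨T ∪ T', by rw [Finset.coe_union]; exact Set.union_subset hT hT', Subalgebra.mul_mem _ ?_ ?_⟩
    · exact Algebra.adjoin_mono (by rw [Finset.coe_union]; exact Set.subset_union_left) hx
    · exact Algebra.adjoin_mono (by rw [Finset.coe_union]; exact Set.subset_union_right) hy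

/-- a finite type algebra generated by a set is generated by a finite subset -/
theorem exists_finset_adjoin [Algebra.FiniteType R A] {S : Set A} (hS : Algebra.adjoin R S = ⊤) :
    ∃ T : Finset A, (T : Set A) ⊆ S ∧ Algebra.adjoin R (T : Set A) = ⊤ := by
  classical
  obtain ⟨G, hG⟩ := (inferInstance : Algebra.FiniteType R A).out
  have h : ∀ x : A, ∃ T : Finset A, (T : Set A) ⊆ S ∧ x ∈ Algebra.adjoin R (T : Set A) := fun x =>
    exists_finset_mem_adjoin (by rw [hS]; exact Algebra.mem_top)
  choose T hT hxT using h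
  refine ⟨G.biUnion T, ?_, ?_⟩
  · intro x hx
    rw [Finset.coe_biUnion, Set.mem_iUnion₂] at hx
    obtain ⟨g, _, hx⟩ := hx
    exact hT g hx
  · rw [eq_top_iff, ← hG, Algebra.adjoin_le_iff]
    intro g hg
    exact Algebra.adjoin_mono (by
      intro y hy
      rw [Finset.coe_biUnion, Set.mem_iUnion₂]
      exact ⟨g, hg, hy⟩) (hxT g)

variable {s : ℕ} (f : Fin s → A) (deg : Fin s → ℕ)

/-- the monomials of a given weight -/
def monos (n : ℕ) : Set A := {x | ∃ m : Fin s → ℕ, ∑ i, m i * deg i = n ∧ x = ∏ i, f i ^ m i}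

variable {𝒜 f deg}

theorem monomial_mem (hf : ∀ i, f i ∈ 𝒜 (deg i)) (m : Fin s → ℕ) :
    ∏ i, f i ^ m i ∈ 𝒜 (∑ i, m i * deg i) := by
  have := SetLike.prod_pow_mem_graded 𝒜 (F := Finset.univ) (i := deg) (g := f) m fun i _ => hf i
  simpa using this

theorem mem_span_monos (hf : ∀ i, f i ∈ 𝒜 (deg i)) (hgen : Algebra.adjoin R (Set.range f) = ⊤) {n : ℕ} {x : A}
    (hx : x ∈ 𝒜 n) : x ∈ Submodule.span R (monos f deg n) := by
  classical
  have hall : ∀ y : A, ∀ n, ((DirectSum.decompose 𝒜 y n : 𝒜 n) : A) ∈ Submodule.span R (monos f deg n) := by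
    intro y n
    have hy : y ∈ Submodule.span R {x | ∃ m : Fin s → ℕ, x = ∏ i, f i ^ m i} := by
      have hy' : y ∈ Algebra.adjoin R (Set.range f) := hgen ▸ Algebra.mem_top
      induction hy' using Algebra.adjoin_induction with
      | mem x hx =>
        obtain ⟨i, rfl⟩ := hx
        refine Submodule.subset_span ⟨Pi.single i 1, ?_⟩
        rw [Finset.prod_eq_single i]
        · simp
        · intro j _ hj; rw [Pi.single_eq_of_ne hj, pow_zero]
        · intro h; exact absurd (Finset.mem_univ i) h
      | algebraMap r =>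
        rw [Algebra.algebraMap_eq_smul_one]
        exact Submodule.smul_mem _ _ (Submodule.subset_span ⟨0, by simp⟩)
      | add x y _ _ hx hy => exact Submodule.add_mem _ hx hy
      | mul x y hxa hya hx hy =>
        clear hxa hya
        induction hx using Submodule.span_induction with
        | mem x hx =>
          obtain ⟨m, rfl⟩ := hx
          induction hy using Submodule.span_induction with
          | mem y hy =>
            obtain ⟨m', rfl⟩ := hy
            refine Submodule.subset_span ⟨m + m', ?_⟩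
            rw [← Finset.prod_mul_distrib]
            exact Finset.prod_congr rfl fun i _ => (pow_add _ _ _).symm
          | zero => rw [mul_zero]; exact Submodule.zero_mem _
          | add a b _ _ ha hb => rw [mul_add]; exact Submodule.add_mem _ ha hb
          | smul r a _ ha => rw [mul_smul_comm]; exact Submodule.smul_mem _ _ ha
        | zero => rw [zero_mul]; exact Submodule.zero_mem _
        | add a b _ _ ha hb => rw [add_mul]; exact Submodule.add_mem _ ha hb
        | smul r a _ ha => rw [smul_mul_assoc]; exact Submodule.smul_mem _ _ ha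
    induction hy using Submodule.span_induction with
    | mem z hz =>
      obtain ⟨m, rfl⟩ := hz
      by_cases hn : ∑ i, m i * deg i = n
      · subst hn
        rw [DirectSum.decompose_of_mem_same 𝒜 (monomial_mem hf m)]
        exact Submodule.subset_span ⟨m, rfl, rfl⟩
      · rw [DirectSum.decompose_of_mem_ne 𝒜 (monomial_mem hf m) hn]
        exact Submodule.zero_mem _
    | zero => simp
    | add a b _ _ ha hb =>
      rw [DirectSum.decompose_add, DirectSum.add_apply, Submodule.coe_add]
      exact Submodule.add_mem _ ha hb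
    | smul a b _ hb =>
      rw [DirectSum.decompose_smul, DirectSum.smul_apply, Submodule.coe_smul]
      exact Submodule.smul_mem _ _ hb
  have := hall x n
  rwa [DirectSum.decompose_of_mem_same 𝒜 hx] at this

theorem finite_monos (hdeg : ∀ i, 0 < deg i) (n : ℕ) : (monos f deg n).Finite := by
  classical
  refine Set.Finite.subset (Set.Finite.image (fun m : Fin s → ℕ => ∏ i, f i ^ m i)
    (Set.Finite.pi (t := fun _ => {k : ℕ | k ≤ n}) fun i => Set.finite_le_nat n)) ?_
  rintro _ ⟨m, hm, rfl⟩
  refine ⟨m, fun i _ => ?_, rfl⟩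
  show m i ≤ n
  rw [← hm]
  calc m i ≤ m i * deg i := Nat.le_mul_of_pos_right _ (hdeg i)
    _ ≤ _ := Finset.single_le_sum (f := fun i => m i * deg i) (fun _ _ => Nat.zero_le _) (Finset.mem_univ i)

theorem fg_piece (hdeg : ∀ i, 0 < deg i) (hf : ∀ i, f i ∈ 𝒜 (deg i))
    (hgen : Algebra.adjoin R (Set.range f) = ⊤) (n : ℕ) : (𝒜 n).FG := by
  rw [Submodule.fg_def]
  refine ⟨monos f deg n, finite_monos hdeg n, le_antisymm ?_ fun x hx => mem_span_monos hf hgen hx⟩
  rw [Submodule.span_le]
  rintro _ ⟨m, rfl, rfl⟩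
  exact monomial_mem hf m

theorem algebraMap_zero_surjective (hdeg : ∀ i, 0 < deg i) (hf : ∀ i, f i ∈ 𝒜 (deg i))
    (hgen : Algebra.adjoin R (Set.range f) = ⊤) : Function.Surjective (algebraMap R (𝒜 0)) := by
  intro x
  have h := mem_span_monos hf hgen x.2
  have h1 : monos f deg 0 ⊆ {(1 : A)} := by
    rintro _ ⟨m, hm, rfl⟩
    rw [Finset.sum_eq_zero_iff] at hm
    rw [Set.mem_singleton_iff]
    refine Finset.prod_eq_one fun i hi => ?_
    rcases Nat.mul_eq_zero.mp (hm i hi) with h | h
    · rw [h, pow_zero]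
    · exact absurd h (hdeg i).ne'
  obtain ⟨r, hr⟩ := Submodule.mem_span_singleton.mp (Submodule.span_mono h1 h)
  refine ⟨r, Subtype.ext ?_⟩
  rw [← hr, ← Algebra.algebraMap_eq_smul_one]
  rfl

theorem exists_le_sum {s : ℕ} (q : Fin s → ℕ) (a : ℕ) (h : a ≤ ∑ i, q i) :
    ∃ q' : Fin s → ℕ, (∀ i, q' i ≤ q i) ∧ ∑ i, q' i = a := by
  classical
  induction a with
  | zero => exact ⟨0, fun i => Nat.zero_le _, by simp⟩
  | succ a ih =>
    obtain ⟨q', hq', hsum⟩ := ih (by omega)
    obtain ⟨i, hi⟩ : ∃ i, q' i < q i := by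
      by_contra hcon
      push Not at hcon
      have := Finset.sum_le_sum fun i (_ : i ∈ Finset.univ) => hcon i
      omega
    refine ⟨Function.update q' i (q' i + 1), fun j => ?_, ?_⟩
    · by_cases hj : j = i
      · subst hj; rw [Function.update_self]; omega
      · rw [Function.update_of_ne hj]; exact hq' j
    · rw [Finset.sum_update_of_mem (Finset.mem_univ i), ← hsum,
        ← Finset.add_sum_erase Finset.univ q' (Finset.mem_univ i), Finset.sdiff_singleton_eq_erase]
      omega

/-- a monomial of weight `(k + 1) a l` has a factor of weight `a l`, `l` a common multiple of the degrees -/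
theorem exists_factor {s : ℕ} (deg : Fin s → ℕ) (hdeg : ∀ i, 0 < deg i) (l : ℕ) (hl0 : 0 < l)
    (hl : ∀ i, deg i ∣ l) (a : ℕ) (has : s - 1 ≤ a) (k : ℕ) (m : Fin s → ℕ)
    (hm : ∑ i, m i * deg i = (k + 1) * (a * l)) :
    ∃ m' : Fin s → ℕ, (∀ i, m' i ≤ m i) ∧ ∑ i, m' i * deg i = a * l := by
  rcases Nat.eq_zero_or_pos k with rfl | hk
  · exact ⟨m, fun _ => le_rfl, by simpa using hm⟩
  choose c hc using hl
  have hc0 : ∀ i, 0 < c i := fun i => by
    rcases Nat.eq_zero_or_pos (c i) with h | h
    · rw [hc i, h, mul_zero] at hl0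
      exact absurd hl0 (lt_irrefl 0)
    · exact h
  have hdec : ∀ i, m i * deg i = (m i / c i) * l + (m i % c i) * deg i := fun i => by
    conv_lhs => rw [← Nat.div_add_mod (m i) (c i)]
    rw [add_mul]
    congr 1
    conv_rhs => rw [hc i]
    ring
  have hle : ∀ i, (m i % c i) * deg i + 1 ≤ l := fun i => by
    have h1 : m i % c i < c i := Nat.mod_lt _ (hc0 i)
    have h2 : (m i % c i + 1) * deg i ≤ c i * deg i := Nat.mul_le_mul_right _ h1
    have h3 : c i * deg i = l := by rw [mul_comm]; exact (hc i).symm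
    have h4 := hdeg i
    rw [add_mul, one_mul, h3] at h2
    omega
  have hsum : (∑ i, m i / c i) * l + ∑ i, (m i % c i) * deg i = (k + 1) * (a * l) := by
    rw [← hm, Finset.sum_mul, ← Finset.sum_add_distrib]
    exact Finset.sum_congr rfl fun i _ => (hdec i).symm
  have hrem : ∑ i, (m i % c i) * deg i ≤ (s - 1) * l := by
    -- the remainder is divisible by `l` and less than `s * l` (if `s > 0`)
    rcases Nat.eq_zero_or_pos s with rfl | hs
    · simp
    · have h1 : ∑ i, ((m i % c i) * deg i + 1) ≤ ∑ _i : Fin s, l := Finset.sum_le_sum fun i _ => hle i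
      rw [Finset.sum_add_distrib] at h1
      simp only [Finset.sum_const, Finset.card_univ, Fintype.card_fin, smul_eq_mul, mul_one] at h1
      have h2 : l ∣ ∑ i, (m i % c i) * deg i := by
        have h3 : l ∣ (∑ i, m i / c i) * l + ∑ i, (m i % c i) * deg i := by
          rw [hsum]; exact ⟨(k + 1) * a, by ring⟩
        exact (Nat.dvd_add_right (Dvd.intro_left _ rfl)).mp h3
      obtain ⟨e, he⟩ := h2
      rw [he] at h1 ⊢
      have h4 : e < s := by
        by_contra hcon
        push Not at hcon
        have : l * s ≤ l * e := Nat.mul_le_mul_left _ hcon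
        have h5 : s * l = l * s := mul_comm _ _
        omega
      calc l * e ≤ l * (s - 1) := Nat.mul_le_mul_left _ (by omega)
        _ = (s - 1) * l := mul_comm _ _
  have hq : a ≤ ∑ i, m i / c i := by
    by_contra hcon
    push Not at hcon
    have h1 : (∑ i, m i / c i) * l + l ≤ a * l := by
      have : (∑ i, m i / c i + 1) * l ≤ a * l := Nat.mul_le_mul_right _ hcon
      rwa [add_mul, one_mul] at this
    have h2 : (s - 1) * l ≤ a * l := Nat.mul_le_mul_right _ has
    have h3 : 2 * (a * l) ≤ (k + 1) * (a * l) := Nat.mul_le_mul_right _ (by omega)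
    omega
  obtain ⟨q', hq', hq's⟩ := exists_le_sum (fun i => m i / c i) a hq
  refine ⟨fun i => q' i * c i, fun i => ?_, ?_⟩
  · calc q' i * c i ≤ (m i / c i) * c i := Nat.mul_le_mul_right _ (hq' i)
      _ ≤ m i := Nat.div_mul_le_self _ _
  · rw [← hq's, Finset.sum_mul]
    refine Finset.sum_congr rfl fun i _ => ?_
    conv_rhs => rw [hc i]
    ring

/-- the Veronese ring is generated in degree one -/
theorem veronese_le (hdeg : ∀ i, 0 < deg i) (hf : ∀ i, f i ∈ 𝒜 (deg i))
    (hgen : Algebra.adjoin R (Set.range f) = ⊤) (l : ℕ) (hl0 : 0 < l) (hl : ∀ i, deg i ∣ l) (a : ℕ)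
    (has : s - 1 ≤ a) (k : ℕ) : 𝒜 (k * (a * l)) ≤ (𝒜 (a * l)) ^ k := by
  have key : ∀ (k : ℕ) (m : Fin s → ℕ), ∑ i, m i * deg i = k * (a * l) →
      ∏ i, f i ^ m i ∈ (𝒜 (a * l)) ^ k := by
    intro k
    induction k with
    | zero =>
      intro m hm
      rw [zero_mul, Finset.sum_eq_zero_iff] at hm
      rw [pow_zero, Submodule.mem_one]
      refine ⟨1, ?_⟩
      rw [map_one]
      symm
      refine Finset.prod_eq_one fun i hi => ?_
      rcases Nat.mul_eq_zero.mp (hm i hi) with h | h
      · rw [h, pow_zero]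
      · exact absurd h (hdeg i).ne'
    | succ k ih =>
      intro m hm
      obtain ⟨m', hm', hsum⟩ := exists_factor deg hdeg l hl0 hl a has k m hm
      have h1 : ∏ i, f i ^ m i = (∏ i, f i ^ (m i - m' i)) * ∏ i, f i ^ m' i := by
        rw [← Finset.prod_mul_distrib]
        refine Finset.prod_congr rfl fun i _ => ?_
        rw [← pow_add, Nat.sub_add_cancel (hm' i)]
      rw [h1, pow_succ]
      refine Submodule.mul_mem_mul (ih _ ?_) ?_
      · have h2 : ∑ i, (m i - m' i) * deg i + ∑ i, m' i * deg i = ∑ i, m i * deg i := by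
          rw [← Finset.sum_add_distrib]
          refine Finset.sum_congr rfl fun i _ => ?_
          rw [← add_mul, Nat.sub_add_cancel (hm' i)]
        rw [hsum, hm, add_mul, one_mul] at h2
        omega
      · rw [← hsum]
        exact monomial_mem hf m'
  intro x hx
  refine (Submodule.span_le (p := (𝒜 (a * l)) ^ k)).mpr ?_ (mem_span_monos hf hgen hx)
  rintro _ ⟨m, hm, rfl⟩
  exact key k m hm

/-- The generation statement used for `O(n)`, `n ≥ d`, when an element of degree one is inverted. -/
theorem exists_mul_pow_mem (hf : ∀ i, f i ∈ 𝒜 (deg i))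
    (hgen : Algebra.adjoin R (Set.range f) = ⊤) (n : ℕ) (hn : 0 < n) (hle : ∀ i, deg i ≤ n) (h : A) (hh : h ∈ 𝒜 1)
    (k : ℕ) (x : A) (hx : x ∈ 𝒜 (k * n)) : ∃ N : ℕ, x * (h ^ n) ^ N ∈ (𝒜 n) ^ (k + N) := by
  have hpow : ∀ j : ℕ, h ^ j ∈ 𝒜 j := fun j => by
    have := SetLike.pow_mem_graded j hh
    simpa using this
  have hmono : ∀ (m : Fin s → ℕ), ∑ i, m i * deg i = k * n →
      ∃ N : ℕ, (∏ i, f i ^ m i) * (h ^ n) ^ N ∈ (𝒜 n) ^ (k + N) := by
    intro m hm
    have hr : k ≤ ∑ i, m i := by
      have h1 : k * n ≤ (∑ i, m i) * n := by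
        rw [← hm, Finset.sum_mul]
        exact Finset.sum_le_sum fun i _ => Nat.mul_le_mul_left _ (hle i)
      exact Nat.le_of_mul_le_mul_right h1 hn
    refine ⟨∑ i, m i - k, ?_⟩
    rw [Nat.add_sub_cancel' hr]
    have h2 : (∏ i, f i ^ m i) * (h ^ n) ^ (∑ i, m i - k) = ∏ i, (f i * h ^ (n - deg i)) ^ m i := by
      simp only [mul_pow, Finset.prod_mul_distrib]
      congr 1
      rw [← pow_mul]
      simp only [← pow_mul]
      rw [Finset.prod_pow_eq_pow_sum]
      congr 1
      have h3 : ∑ i, (n - deg i) * m i + ∑ i, m i * deg i = n * ∑ i, m i := by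
        rw [← Finset.sum_add_distrib, Finset.mul_sum]
        refine Finset.sum_congr rfl fun i _ => ?_
        have := hle i
        rw [mul_comm (m i), ← add_mul, Nat.sub_add_cancel this]
      rw [hm] at h3
      rw [Nat.mul_sub]
      have : n * k = k * n := mul_comm _ _
      omega
    rw [h2]
    have h4 : ∀ t : Finset (Fin s), ∏ i ∈ t, (f i * h ^ (n - deg i)) ^ m i ∈ (𝒜 n) ^ (∑ i ∈ t, m i) := by
      classical
      intro t
      induction t using Finset.induction_on with
      | empty =>
        rw [Finset.prod_empty, Finset.sum_empty, pow_zero]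
        exact Submodule.one_le.mp le_rfl
      | insert a t ha ih =>
        rw [Finset.prod_insert ha, Finset.sum_insert ha, pow_add]
        refine Submodule.mul_mem_mul (Submodule.pow_mem_pow _ ?_ _) ih
        have := SetLike.mul_mem_graded (hf a) (hpow (n - deg a))
        rwa [Nat.add_sub_cancel' (hle a)] at this
    exact h4 Finset.univ
  have hsucc : ∀ (y : A) (N N' : ℕ), N ≤ N' → y * (h ^ n) ^ N ∈ (𝒜 n) ^ (k + N) →
      y * (h ^ n) ^ N' ∈ (𝒜 n) ^ (k + N') := by
    intro y N N' hNN hy
    obtain ⟨e, rfl⟩ := Nat.exists_eq_add_of_le hNN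
    rw [pow_add (h ^ n), ← mul_assoc, ← add_assoc, pow_add (𝒜 n)]
    exact Submodule.mul_mem_mul hy (Submodule.pow_mem_pow _ (hpow n) _)
  have hx' := mem_span_monos hf hgen hx
  induction hx' using Submodule.span_induction with
  | mem z hz =>
    obtain ⟨m, hm, rfl⟩ := hz
    exact hmono m hm
  | zero => exact ⟨0, by simp⟩
  | add a b ha hb iha ihb =>
    have hmem : ∀ z ∈ Submodule.span R (monos f deg (k * n)), z ∈ 𝒜 (k * n) := by
      intro z hz
      refine (Submodule.span_le (p := 𝒜 (k * n))).mpr ?_ hz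
      rintro _ ⟨m, hm, rfl⟩
      rw [← hm]; exact monomial_mem hf m
    obtain ⟨N, hN⟩ := iha (hmem a ha)
    obtain ⟨N', hN'⟩ := ihb (hmem b hb)
    refine ⟨max N N', ?_⟩
    rw [add_mul]
    exact Submodule.add_mem _ (hsucc a N _ (le_max_left _ _) hN) (hsucc b N' _ (le_max_right _ _) hN')
  | smul r a ha iha =>
    have hmem : a ∈ 𝒜 (k * n) := by
      refine (Submodule.span_le (p := 𝒜 (k * n))).mpr ?_ ha
      rintro _ ⟨m, hm, rfl⟩
      rw [← hm]; exact monomial_mem hf m
    obtain ⟨N, hN⟩ := iha hmem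
    exact ⟨N, by rw [smul_mul_assoc]; exact Submodule.smul_mem _ _ hN⟩

end K755.ProjEmbAlg
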