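import Groth.Agent.ZeroCyc.K755.SymRel
import Mathlib.AlgebraicGeometry.Morphisms.ClosedImmersion

/-!
# Fibre powers and base change; the generation condition
-/

set_option autoImplicit false

universe u
open CategoryTheory CategoryTheory.Limits AlgebraicGeometry
open scoped TensorProduct

namespace K755.PullFib

open K755.FibChart K755.SymRel

section Fib

variable {X S X' S' : Scheme.{u}} {f : X ⟶ S} {f' : X' ⟶ S'} {b : S' ⟶ S} {h : X' ⟶ X} {d : ℕ}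

/-- The map of fibre powers attached to a commutative square. -/
noncomputable def fmap (w : h ≫ f = f' ≫ b) (d : ℕ) : SymProd.fibPow f' d ⟶ SymProd.fibPow f d :=
  WidePullback.lift (bs f' d ≫ b) (fun i => pr f' i ≫ h) (fun i => by
    rw [Category.assoc, w, ← Category.assoc, pr_comp])

theorem fmap_pr (w : h ≫ f = f' ≫ b) (i : Fin d) : fmap w d ≫ pr f i = pr f' i ≫ h := WidePullback.lift_π _ _ _ _ i

theorem fmap_bs (w : h ≫ f = f' ≫ b) : fmap w d ≫ bs f d = bs f' d ≫ b := WidePullback.lift_base _ _ _ _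

/-- Fibre powers commute with base change. -/
theorem isPullback_fibPow (sq : IsPullback h f' f b) {p : SymProd.fibPow f' d ⟶ SymProd.fibPow f d}
    (hpr : ∀ i, p ≫ pr f i = pr f' i ≫ h) (hbs : p ≫ bs f d = bs f' d ≫ b) :
    IsPullback p (bs f' d) (bs f d) b := by
  refine ⟨⟨hbs⟩, ⟨PullbackCone.IsLimit.mk _ (fun s => WidePullback.lift s.snd
    (fun i => sq.lift (s.fst ≫ pr f i) s.snd (by
      rw [Category.assoc, pr_comp]; exact s.condition)) (fun i => sq.lift_snd _ _ _)) ?_ ?_ ?_⟩⟩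
  · intro s
    apply WidePullback.hom_ext
    · intro i
      have h1 : p ≫ WidePullback.π (fun _ : Fin d => f) i = WidePullback.π (fun _ : Fin d => f') i ≫ h := hpr i
      rw [Category.assoc, h1, WidePullback.lift_π_assoc, sq.lift_fst]
    · have h1 : p ≫ WidePullback.base (fun _ : Fin d => f) = WidePullback.base (fun _ : Fin d => f') ≫ b := hbs
      rw [Category.assoc, h1, WidePullback.lift_base_assoc]
      exact s.condition.symm
  · intro s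
    exact WidePullback.lift_base _ _ _ _
  · intro s m h1 h2
    apply WidePullback.hom_ext
    · intro i
      rw [WidePullback.lift_π]
      apply sq.hom_ext
      · rw [sq.lift_fst, ← h1, Category.assoc, Category.assoc]
        exact congrArg (fun k => m ≫ k) (hpr i).symm
      · rw [sq.lift_snd, ← h2, Category.assoc]
        exact congrArg (fun k => m ≫ k) (pr_comp f' i)
    · rw [WidePullback.lift_base]
      exact h2

end Fib

section Gen

variable {X S Z' S' : Scheme.{u}} (f : X ⟶ S) (f' : Z' ⟶ S') (h : Z' ⟶ X)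

/-- The sections over `O'` are spanned by the pull backs of sections over `U`. -/
def SpanOn (U : X.Opens) (O' : Z'.Opens) (S₀' : S'.Opens) (e₁ : O' ≤ h ⁻¹ᵁ U) (e₂ : O' ≤ f' ⁻¹ᵁ S₀') : Prop :=
  letI := algOf f' S₀' O' e₂
  Submodule.span Γ(S', S₀') (Set.range (h.appLE U O' e₁).hom) = ⊤

/-- The generation condition of `SymRel.Rel`. -/
def Gen (S₀ : S.Opens) (S₀' : S'.Opens) : Prop :=
  ∀ U : X.Opens, IsAffineOpen U → U ≤ f ⁻¹ᵁ S₀ → ∀ O' : Z'.Opens, O' = h ⁻¹ᵁ U ⊓ f' ⁻¹ᵁ S₀' →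
    IsAffineOpen O' ∧ ∀ (e₁ : O' ≤ h ⁻¹ᵁ U) (e₂ : O' ≤ f' ⁻¹ᵁ S₀'), SpanOn f' h U O' S₀' e₁ e₂

variable {f f' h} {S₀ : S.Opens} {S₀' : S'.Opens}

/-- The relative situation from the generation condition. -/
theorem Gen.rel (G : Gen f f' h S₀ S₀') {b : S' ⟶ S} {d : ℕ} {p : SymProd.fibPow f' d ⟶ SymProd.fibPow f d}
    (w : h ≫ f = f' ≫ b) (pr_p : ∀ i, p ≫ pr f i = pr f' i ≫ h) (bs_p : p ≫ bs f d = bs f' d ≫ b)
    (hS₀ : IsAffineOpen S₀) (hS₀' : IsAffineOpen S₀') (le : S₀' ≤ b ⁻¹ᵁ S₀) : Rel f f' b h p S₀ S₀' where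
  w := w
  pr_p := pr_p
  bs_p := bs_p
  hS₀ := hS₀
  hS₀' := hS₀'
  le := le
  affine U hU eU := (G U hU eU _ rfl).1
  span U hU eU := (G U hU eU _ rfl).2 _ _

theorem mem_spanOn_iff {U : X.Opens} {O' : Z'.Opens} {e₁ : O' ≤ h ⁻¹ᵁ U} {e₂ : O' ≤ f' ⁻¹ᵁ S₀'} :
    SpanOn f' h U O' S₀' e₁ e₂ ↔ ∀ t : Γ(Z', O'), t ∈ Transfer.gen (h.appLE U O' e₁).hom (f'.appLE S₀' O' e₂).hom Set.univ := by
  letI := algOf f' S₀' O' e₂
  constructor
  · intro H t
    refine Transfer.mem_gen_of_mem_span _ _ (A' := Γ(S', S₀')) (fun a => rfl) ?_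
    have h1 : t ∈ Submodule.span Γ(S', S₀') (Set.range (h.appLE U O' e₁).hom) := by
      have : Submodule.span Γ(S', S₀') (Set.range (h.appLE U O' e₁).hom) = ⊤ := H
      rw [this]; trivial
    refine Submodule.span_mono ?_ h1
    rintro _ ⟨r, rfl⟩
    exact ⟨r, trivial, rfl⟩
  · intro H
    change Submodule.span Γ(S', S₀') (Set.range (h.appLE U O' e₁).hom) = ⊤
    rw [eq_top_iff]
    rintro t -
    have h1 : t ∈ (Submodule.span Γ(S', S₀') (Set.range (h.appLE U O' e₁).hom)).toAddSubgroup := by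
      refine Transfer.map_gen _ _ (AddMonoidHom.id _) _ (fun r _ a => ?_) (H t)
      change (h.appLE U O' e₁).hom r * (f'.appLE S₀' O' e₂).hom a ∈ Submodule.span Γ(S', S₀') _
      rw [mul_comm]
      exact Submodule.smul_mem (Submodule.span Γ(S', S₀') (Set.range (h.appLE U O' e₁).hom)) a
        (Submodule.subset_span ⟨r, rfl⟩)
    exact h1

/-- Composition. -/
theorem Gen.comp {Z'' S'' : Scheme.{u}} {f'' : Z'' ⟶ S''} {h' : Z'' ⟶ Z'} {b' : S'' ⟶ S'} {S₀'' : S''.Opens}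
    (G : Gen f f' h S₀ S₀') (G' : Gen f' f'' h' S₀' S₀'') (w : h' ≫ f' = f'' ≫ b') (le : S₀'' ≤ b' ⁻¹ᵁ S₀') :
    Gen f f'' (h' ≫ h) S₀ S₀'' := by
  intro U hU eU O'' hO''
  obtain ⟨h1, h2⟩ := G U hU eU _ rfl
  have hO : O'' = h' ⁻¹ᵁ (h ⁻¹ᵁ U ⊓ f' ⁻¹ᵁ S₀') ⊓ f'' ⁻¹ᵁ S₀'' := by
    rw [hO'']
    apply le_antisymm
    · rintro x ⟨hx1, hx2⟩
      refine ⟨⟨hx1, ?_⟩, hx2⟩
      change f' (h' x) ∈ S₀'
      rw [← Scheme.Hom.comp_apply, w, Scheme.Hom.comp_apply]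
      exact le hx2
    · rintro x ⟨⟨hx1, -⟩, hx2⟩
      exact ⟨hx1, hx2⟩
  obtain ⟨h3, h4⟩ := G' (h ⁻¹ᵁ U ⊓ f' ⁻¹ᵁ S₀') h1 (fun _ hx => hx.2) O'' hO
  refine ⟨h3, fun e₁ e₂ => ?_⟩
  have e₁' : O'' ≤ h' ⁻¹ᵁ (h ⁻¹ᵁ U ⊓ f' ⁻¹ᵁ S₀') := by rw [hO]; exact fun _ hx => hx.1
  have h5 := mem_spanOn_iff.mp (h2 (fun _ hx => hx.1) (fun _ hx => hx.2))
  have h6 := mem_spanOn_iff.mp (h4 e₁' e₂)
  rw [mem_spanOn_iff]
  intro t
  refine Transfer.map_gen _ _ (AddMonoidHom.id _) _ (fun r _ a => ?_) (h6 t)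
  change (h'.appLE _ O'' e₁').hom r * (f''.appLE S₀'' O'' e₂).hom a ∈ _
  rw [mul_comm]
  apply Transfer.coeff_mul_mem_gen
  refine Transfer.map_gen _ _ (h'.appLE _ O'' e₁').hom.toAddMonoidHom _ (fun x _ c => ?_) (h5 r)
  change (h'.appLE _ O'' e₁').hom ((h.appLE U _ _).hom x * (f'.appLE S₀' _ _).hom c) ∈ _
  rw [map_mul, ← CommRingCat.comp_apply, ← CommRingCat.comp_apply, Scheme.Hom.appLE_comp_appLE,
    Scheme.Hom.appLE_comp_appLE]
  have h7 : ∀ e, (h' ≫ f').appLE S₀' O'' e = b'.appLE S₀' S₀'' le ≫ f''.appLE S₀'' O'' e₂ := by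
    intro e
    rw [Scheme.Hom.appLE_comp_appLE]
    simp only [w]
  rw [h7]
  exact Transfer.mul_mem_gen _ _ (Set.mem_univ x) _

/-- Base change. -/
theorem gen_of_isPullback {b : S' ⟶ S} (sq : IsPullback h f' f b) (hS₀ : IsAffineOpen S₀) (hS₀' : IsAffineOpen S₀')
    (le : S₀' ≤ b ⁻¹ᵁ S₀) : Gen f f' h S₀ S₀' := by
  intro U hU eU O' hO'
  have hiso := isIso_pushoutSection_of_isAffineOpen sq le eU hO' hS₀ hS₀' hU
  rw [isIso_pushoutSection_iff] at hiso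
  have : IsAffine U.toScheme := hU
  have : IsAffine S₀.toScheme := hS₀
  have : IsAffine S₀'.toScheme := hS₀'
  refine ⟨.of_isIso (Scheme.Hom.isPullback_resLE sq le eU hO').isoPullback.hom, fun e₁ e₂ => ?_⟩
  letI := (f.appLE S₀ U eU).hom.toAlgebra
  letI := (b.appLE S₀ S₀' le).hom.toAlgebra
  letI := (h.appLE U O' e₁).hom.toAlgebra
  letI := (f'.appLE S₀' O' e₂).hom.toAlgebra
  letI := ((b.appLE S₀ S₀' le) ≫ (f'.appLE S₀' O' e₂)).hom.toAlgebra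
  have t1 : IsScalarTower Γ(S, S₀) Γ(X, U) Γ(Z', O') := by
    refine IsScalarTower.of_algebraMap_eq' ?_
    have := congrArg (fun k => k.hom) hiso.w
    exact this.symm
  have t2 : IsScalarTower Γ(S, S₀) Γ(S', S₀') Γ(Z', O') := IsScalarTower.of_algebraMap_eq' rfl
  have t3 : Algebra.IsPushout Γ(S, S₀) Γ(S', S₀') Γ(X, U) Γ(Z', O') := by
    have := (CommRingCat.isPushout_iff_isPushout (R := Γ(S, S₀)) (S := Γ(S', S₀')) (R' := Γ(X, U))
      (S' := Γ(Z', O'))).mp hiso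
    exact this.symm
  let e : Γ(S', S₀') ⊗[Γ(S, S₀)] Γ(X, U) ≃ₐ[Γ(S', S₀')] Γ(Z', O') :=
    Algebra.IsPushout.equiv Γ(S, S₀) Γ(S', S₀') Γ(X, U) Γ(Z', O')
  have he : ∀ a c, e (a ⊗ₜ c) = algebraMap Γ(S', S₀') Γ(Z', O') a * algebraMap Γ(X, U) Γ(Z', O') c :=
    Algebra.IsPushout.equiv_tmul Γ(S, S₀) Γ(S', S₀') Γ(X, U) Γ(Z', O')
  rw [mem_spanOn_iff]
  intro t
  obtain ⟨t, rfl⟩ := e.surjective t
  induction t with
  | zero => rw [map_zero]; exact zero_mem _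
  | add x y hx hy => rw [map_add]; exact add_mem hx hy
  | tmul a c =>
    rw [he, mul_comm]
    exact Transfer.mul_mem_gen _ _ (Set.mem_univ c) a

/-- Closed subschemes. -/
theorem gen_of_isClosedImmersion {i : Z' ⟶ X} [IsClosedImmersion i] (S₀ : S.Opens) : Gen f (i ≫ f) i S₀ S₀ := by
  intro U hU eU O' hO'
  have h1 : O' = i ⁻¹ᵁ U := by
    rw [hO']
    refine inf_eq_left.mpr (fun x hx => ?_)
    rw [Scheme.Hom.comp_preimage]
    exact eU hx
  subst h1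
  refine ⟨hU.preimage i, fun e₁ e₂ => ?_⟩
  rw [mem_spanOn_iff]
  intro t
  have h2 : Function.Surjective (i.app U).hom := i.app_surjective U hU
  obtain ⟨r, hr⟩ := h2 t
  have h3 := Transfer.mul_mem_gen (i.appLE U (i ⁻¹ᵁ U) e₁).hom ((i ≫ f).appLE S₀ (i ⁻¹ᵁ U) e₂).hom (Set.mem_univ r) 1
  rw [map_one, mul_one] at h3
  rw [← hr, Scheme.Hom.app_eq_appLE]
  exact h3

end Gen

end K755.PullFib
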