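import Mathlib.AlgebraicGeometry.ResidueField
import Mathlib.AlgebraicGeometry.PullbackCarrier
import Groth.Agent.ZeroCyc.K754.AvoidMod

/-!
# Residue fields and evaluation of sections
-/

set_option autoImplicit false

universe u
open CategoryTheory CategoryTheory.Limits AlgebraicGeometry

namespace K755.ResFrac

/-- The map of residue fields for a morphism sending `z` to `y`, with its effect on values of sections. -/
theorem exists_residue {A B : Scheme.{u}} (φ : A ⟶ B) (z : A) (y : B) (hy : φ z = y) :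
    ∃ θ : B.residueField y →+* A.residueField z, ∀ (W : B.Opens) (hW : y ∈ W) (O : A.Opens) (hO : z ∈ O)
      (e : O ≤ φ ⁻¹ᵁ W) (t : Γ(B, W)),
      θ ((B.evaluation W y hW).hom t) = (A.evaluation O z hO).hom ((φ.appLE W O e).hom t) := by
  subst hy
  refine ⟨(φ.residueFieldMap z).hom, fun W hW O hO e t => ?_⟩
  have h1 := Scheme.evaluation_naturality_apply φ z hW t
  refine h1.trans ?_
  have h2 : A.presheaf.map (homOfLE e).op ≫ A.evaluation O z hO = A.evaluation (φ ⁻¹ᵁ W) z (e hO) := by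
    unfold Scheme.evaluation
    rw [← Category.assoc, TopCat.Presheaf.germ_res]
  have h3 : φ.app W ≫ A.evaluation (φ ⁻¹ᵁ W) z (e hO) = φ.appLE W O e ≫ A.evaluation O z hO := by
    rw [← h2, Scheme.Hom.app_eq_appLE, ← Category.assoc, Scheme.Hom.appLE_map]
  exact congrArg (fun k => k.hom t) h3

theorem residueFieldMap_evaluation {A B : Scheme.{u}} (φ : A ⟶ B) (z : A) (W : B.Opens) (hW : φ z ∈ W) (O : A.Opens)
    (hO : z ∈ O) (e : O ≤ φ ⁻¹ᵁ W) (t : Γ(B, W)) :
    (φ.residueFieldMap z).hom ((B.evaluation W (φ z) hW).hom t) =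
      (A.evaluation O z hO).hom ((φ.appLE W O e).hom t) := by
  have h1 := Scheme.evaluation_naturality_apply φ z hW t
  refine h1.trans ?_
  have h2 : A.presheaf.map (homOfLE e).op ≫ A.evaluation O z hO = A.evaluation (φ ⁻¹ᵁ W) z (e hO) := by
    unfold Scheme.evaluation
    rw [← Category.assoc, TopCat.Presheaf.germ_res]
  have h3 : φ.app W ≫ A.evaluation (φ ⁻¹ᵁ W) z (e hO) = φ.appLE W O e ≫ A.evaluation O z hO := by
    rw [← h2, Scheme.Hom.app_eq_appLE, ← Category.assoc, Scheme.Hom.appLE_map]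
  exact congrArg (fun k => k.hom t) h3

/-- Elements of the residue field are fractions of values of sections over an affine open. -/
theorem exists_frac {B : Scheme.{u}} {W : B.Opens} (hW : IsAffineOpen W) (y : B) (hy : y ∈ W) (x : B.residueField y) :
    ∃ t u : Γ(B, W), (B.evaluation W y hy).hom u ≠ 0 ∧
      x * (B.evaluation W y hy).hom u = (B.evaluation W y hy).hom t := by
  obtain ⟨s, rfl⟩ := B.residue_surjective y x
  letI : Algebra Γ(B, W) (B.presheaf.stalk y) := TopCat.Presheaf.algebra_section_stalk B.presheaf (⟨y, hy⟩ : W)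
  have hloc : IsLocalization.AtPrime (B.presheaf.stalk y) (hW.primeIdealOf ⟨y, hy⟩).asIdeal :=
    hW.isLocalization_stalk ⟨y, hy⟩
  obtain ⟨t, u, rfl⟩ := IsLocalization.exists_mk'_eq (hW.primeIdealOf ⟨y, hy⟩).asIdeal.primeCompl s
  refine ⟨t, u.1, ?_, ?_⟩
  · have h1 : IsUnit (algebraMap Γ(B, W) (B.presheaf.stalk y) u.1) := IsLocalization.map_units _ u
    have h2 := h1.map (B.residue y).hom
    exact h2.ne_zero
  · have h1 := IsLocalization.mk'_spec (B.presheaf.stalk y) t u
    have h2 := congrArg (B.residue y).hom h1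
    rw [map_mul] at h2
    exact h2

/-- A field-valued point with values in the residue field of a prime: functions on `Spec` are fractions. -/
theorem exists_frac_spec {S' : Scheme.{u}} {S₀ : S'.Opens} (hS₀ : IsAffineOpen S₀) (P : Ideal Γ(S', S₀)) [P.IsPrime]
    (β : Spec (CommRingCat.of P.ResidueField) ⟶ S')
    (hβ : β = Spec.map (CommRingCat.ofHom (algebraMap Γ(S', S₀) P.ResidueField)) ≫ hS₀.fromSpec)
    (e : (⊤ : (Spec (CommRingCat.of P.ResidueField)).Opens) ≤ β ⁻¹ᵁ S₀)
    (a : Γ(Spec (CommRingCat.of P.ResidueField), ⊤)) :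
    ∃ a₁ a₂ : Γ(S', S₀), a₂ ∉ P ∧ a * (β.appLE S₀ ⊤ e).hom a₂ = (β.appLE S₀ ⊤ e).hom a₁ := by
  have h1 : β.appLE S₀ ⊤ e = CommRingCat.ofHom (algebraMap Γ(S', S₀) P.ResidueField) ≫
      (Scheme.ΓSpecIso (CommRingCat.of P.ResidueField)).inv := by
    apply Spec.map_injective
    rw [← cancel_mono hS₀.fromSpec, IsAffineOpen.SpecMap_appLE_fromSpec β hS₀ (isAffineOpen_top _) e,
      IsAffineOpen.fromSpec_top, Scheme.isoSpec_Spec_inv, Spec.map_comp, Category.assoc, ← hβ]
  obtain ⟨r, s, hs, hrs⟩ := K754.Avoid.exists_frac P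
    ((Scheme.ΓSpecIso (CommRingCat.of P.ResidueField)).hom.hom a)
  refine ⟨r, s, hs, ?_⟩
  rw [h1]
  have h2 := congrArg (Scheme.ΓSpecIso (CommRingCat.of P.ResidueField)).inv.hom hrs
  rw [map_mul] at h2
  have h3 : (Scheme.ΓSpecIso (CommRingCat.of P.ResidueField)).inv.hom
      ((Scheme.ΓSpecIso (CommRingCat.of P.ResidueField)).hom.hom a) = a :=
    congrArg (fun k => k.hom a) (Scheme.ΓSpecIso (CommRingCat.of P.ResidueField)).hom_inv_id
  rw [h3] at h2
  exact h2

/-- Points of cartesian squares. -/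
theorem exists_preimage {X' X Y' Y : Scheme.{u}} {p : X' ⟶ X} {q : X' ⟶ Y'} {f : X ⟶ Y} {g : Y' ⟶ Y}
    (sq : IsPullback p q f g) (x : X) (y : Y') (h : f x = g y) : ∃ z : X', p z = x ∧ q z = y := by
  obtain ⟨z, hz1, hz2⟩ := Scheme.Pullback.exists_preimage_pullback x y h
  refine ⟨sq.isoPullback.inv z, ?_, ?_⟩
  · rw [← Scheme.Hom.comp_apply, sq.isoPullback_inv_fst, hz1]
  · rw [← Scheme.Hom.comp_apply, sq.isoPullback_inv_snd, hz2]

end K755.ResFrac
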