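import Groth.Agent.ZeroCyc.K755.PullFib
import Groth.Agent.Sga1.QuotAffine

/-!
# Comparison of symmetric products: sections
-/

set_option autoImplicit false

universe u
open CategoryTheory CategoryTheory.Limits AlgebraicGeometry
open scoped TensorProduct

namespace K755.SymComp

open K755.FibChart K755.SymRel K755.PullFib K755.Transfer K755.SymLocal
open Groth.Agent.Sga1.QuotBasic Groth.Agent.Sga1.QuotExists

/-- A morphism which is a closed immersion over an affine cover of the target. -/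
theorem isClosedImmersion_of_cover {A B : Scheme.{u}} (m : A ⟶ B)
    (H : ∀ y : B, ∃ U : B.Opens, y ∈ U ∧ IsAffineOpen U ∧ IsAffineOpen (m ⁻¹ᵁ U) ∧ Function.Surjective (m.app U).hom) :
    IsClosedImmersion m := by
  choose U hyU hU hmU hs using H
  have hsup : iSup U = ⊤ := top_le_iff.mp (fun x _ => TopologicalSpace.Opens.mem_iSup.mpr ⟨x, hyU x⟩)
  rw [IsZariskiLocalAtTarget.iff_of_iSup_eq_top (P := @IsClosedImmersion) U hsup]
  intro i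
  have h1 : IsIso (U i).toSpecΓ := by
    rw [← (hU i).isoSpec_hom]
    infer_instance
  have h2 : IsIso (m ⁻¹ᵁ U i).toSpecΓ := by
    rw [← (hmU i).isoSpec_hom]
    infer_instance
  have h3 : IsClosedImmersion (Spec.map (m.app (U i))) := IsClosedImmersion.spec_of_surjective _ (hs i)
  have h4 : IsClosedImmersion (m ∣_ U i ≫ (U i).toSpecΓ) := by
    rw [← Scheme.Opens.toSpecΓ_naturality]
    infer_instance
  exact (MorphismProperty.cancel_right_of_respectsIso @IsClosedImmersion _ _).mp h4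

section Sections

variable {X S Z' S' Y Y' : Scheme.{u}} {f : X ⟶ S} {f' : Z' ⟶ S'} {b : S' ⟶ S} {h : Z' ⟶ X} {d : ℕ}
  {p : SymProd.fibPow f' d ⟶ SymProd.fibPow f d} {S₀ : S.Opens} {S₀' : S'.Opens}
  (R : Rel f f' b h p S₀ S₀')
  {q : SymProd.fibPow f d ⟶ Y} {g : Y ⟶ S} (hq : SymProd.IsSymProd f d q g)
  {r : SymProd.fibPow f' d ⟶ Y'} {g' : Y' ⟶ S'} (hr : SymProd.IsSymProd f' d r g')
  {mY : Y' ⟶ Y} (hm : r ≫ mY = p ≫ q)

theorem cf_app {X X' S' : Scheme.{u}} (p : X' ⟶ X) (φ : X' ⟶ S') (S₀' : S'.Opens) (O : X.Opens) (a : Γ(S', S₀')) :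
    cf p (φ ⁻¹ᵁ S₀') (φ.app S₀').hom O a = (φ.appLE S₀' (pre p (φ ⁻¹ᵁ S₀') O) (pre_le' p _ O)).hom a := by
  change (_ : _ →+* _) ((φ.app S₀').hom a) = _
  rw [Scheme.Hom.app_eq_appLE, ← CommRingCat.comp_apply, Scheme.Hom.appLE_map]

theorem appLE_mem_invSub {X Y : Scheme.{u}} {G : Type u} [Group G] {ρ : G →* Aut X} {r : X ⟶ Y}
    (hr : SGA1.IsQuot ρ r) {W : Y.Opens} {O : X.Opens} (hO : O = r ⁻¹ᵁ W) (s : Stable ρ O) (e : O ≤ r ⁻¹ᵁ W)
    (t : Γ(Y, W)) : (r.appLE W O e).hom t ∈ invSub s := by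
  subst hO
  intro γ
  have h1 := act_app_apply hr.inv W γ t
  rw [Scheme.Hom.app_eq_appLE] at h1
  exact h1

theorem appLE_injective {X Y : Scheme.{u}} {G : Type u} [Group G] {ρ : G →* Aut X} {r : X ⟶ Y}
    (hr : SGA1.IsQuot ρ r) {W : Y.Opens} {O : X.Opens} (hO : O = r ⁻¹ᵁ W) (e : O ≤ r ⁻¹ᵁ W) :
    Function.Injective (r.appLE W O e).hom := by
  subst hO
  have h1 := hr.injective W
  rw [Scheme.Hom.app_eq_appLE] at h1
  exact h1

include hr hm in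
theorem pre_eq {V : Y.Opens} {W : Y'.Opens} (hW : W = mY ⁻¹ᵁ V ⊓ g' ⁻¹ᵁ S₀') :
    pre p (bs f' d ⁻¹ᵁ S₀') (q ⁻¹ᵁ V) = r ⁻¹ᵁ W := by
  have h1 : bs f' d = r ≫ g' := hr.over.symm
  rw [hW, h1]
  have h2 : p ⁻¹ᵁ (q ⁻¹ᵁ V) = r ⁻¹ᵁ (mY ⁻¹ᵁ V) := by
    rw [← Scheme.Hom.comp_preimage, ← Scheme.Hom.comp_preimage, hm]
  unfold pre
  rw [h2, Scheme.Hom.comp_preimage]
  rfl

include hq in
theorem base_le {V : Y.Opens} (eV : V ≤ g ⁻¹ᵁ S₀) : q ⁻¹ᵁ V ≤ bs f d ⁻¹ᵁ S₀ := by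
  have h1 : bs f d = q ≫ g := hq.over.symm
  rw [h1, Scheme.Hom.comp_preimage]
  exact q.preimage_mono eV

include R hq hr hm in
theorem isAffineOpen_W {V : Y.Opens} (hV : IsAffineOpen V) (eV : V ≤ g ⁻¹ᵁ S₀) {W : Y'.Opens}
    (hW : W = mY ⁻¹ᵁ V ⊓ g' ⁻¹ᵁ S₀') : IsAffineOpen W := by
  have := hq.isQuot.affine
  apply Groth.Agent.Sga1.QuotAffine.isAffineOpen_of_preimage hr.isQuot
  rw [← pre_eq hr hm hW]
  exact R.isAffineOpen_pre (hV.preimage q) (base_le hq eV)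

include R hq hr hm in
/-- Passing from generation of invariants upstairs to generation of sections downstairs. -/
theorem mem_gen_of {V : Y.Opens} (eV : V ≤ g ⁻¹ᵁ S₀) {W : Y'.Opens}
    (hW : W = mY ⁻¹ᵁ V ⊓ g' ⁻¹ᵁ S₀') (e₁ : W ≤ mY ⁻¹ᵁ V) (e₂ : W ≤ g' ⁻¹ᵁ S₀') (t : Γ(Y', W))
    (H : ∀ (s' : Stable (SymProd.permActU f' d) (pre p (bs f' d ⁻¹ᵁ S₀') (q ⁻¹ᵁ V))),
      ∀ z ∈ invSub s', z ∈ gen (pb p (bs f' d ⁻¹ᵁ S₀') (q ⁻¹ᵁ V))
        (cf p (bs f' d ⁻¹ᵁ S₀') ((bs f' d).app S₀').hom (q ⁻¹ᵁ V))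
        (invSub (stable_preimage hq.isQuot.inv V) : Set Γ(SymProd.fibPow f d, q ⁻¹ᵁ V))) :
    t ∈ gen (mY.appLE V W e₁).hom (g'.appLE S₀' W e₂).hom Set.univ := by
  have hO' := pre_eq (p := p) (q := q) hr hm hW
  have s' : Stable (SymProd.permActU f' d) (pre p (bs f' d ⁻¹ᵁ S₀') (q ⁻¹ᵁ V)) := by
    rw [hO']
    exact stable_preimage hr.isQuot.inv W
  have h1 := H s' _ (appLE_mem_invSub hr.isQuot hO' s' hO'.le t)
  have h2 : (r.appLE W _ hO'.le).hom t ∈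
      (gen (mY.appLE V W e₁).hom (g'.appLE S₀' W e₂).hom Set.univ).map (r.appLE W _ hO'.le).hom.toAddMonoidHom := by
    refine map_gen _ _ (AddMonoidHom.id _) _ (fun x hx a => ?_) h1
    obtain ⟨v, rfl⟩ := (quotOn_of_isQuot hq.isQuot V).surj x hx
    refine ⟨(mY.appLE V W e₁).hom v * (g'.appLE S₀' W e₂).hom a, mul_mem_gen _ _ (Set.mem_univ v) a, ?_⟩
    change (r.appLE W _ hO'.le).hom _ = pb p (bs f' d ⁻¹ᵁ S₀') (q ⁻¹ᵁ V) ((q.app V).hom v) *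
      cf p (bs f' d ⁻¹ᵁ S₀') ((bs f' d).app S₀').hom (q ⁻¹ᵁ V) a
    rw [map_mul]
    congr 1
    · change _ = (p.appLE _ _ _).hom ((q.app V).hom v)
      rw [Scheme.Hom.app_eq_appLE, ← CommRingCat.comp_apply, ← CommRingCat.comp_apply, Scheme.Hom.appLE_comp_appLE,
        Scheme.Hom.appLE_comp_appLE]
      simp only [hm]
    · rw [cf_app, ← CommRingCat.comp_apply, Scheme.Hom.appLE_comp_appLE]
      simp only [hr.over]
  obtain ⟨t', ht', h3⟩ := h2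
  rwa [← appLE_injective hr.isQuot hO' hO'.le h3]

end Sections

end K755.SymComp
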