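import Groth.Agent.ZeroCyc.K755.SymLocal
import Groth.Agent.Zeta.K467.QuotFlat

/-!
# Symmetric powers of flat morphisms; tame base change of quotients
-/

set_option autoImplicit false

universe u
open CategoryTheory CategoryTheory.Limits AlgebraicGeometry
open scoped TensorProduct

namespace K755.SymFlat

open K755.FibChart K755.Transfer K755.Colour Groth.Agent.Sga1.QuotBasic Groth.Agent.Sga1.QuotExists

section SymProd

variable {X S : Scheme.{u}} (f : X ⟶ S) {d : ℕ}

/-- The fibre powers of a flat morphism are flat. -/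
theorem flat_bs [Flat f] : Flat (bs f d) := by
  rw [HasRingHomProperty.iff_exists_appLE (P := @Flat)
    (RingHom.Flat.stableUnderComposition.stableUnderCompositionWithLocalizationAway
      RingHom.Flat.holdsForLocalizationAway).left]
  intro x
  obtain ⟨S₀, hS₀, hx, -⟩ := TopologicalSpace.Opens.isBasis_iff_nbhd.mp S.isBasis_affineOpens
    (show bs f d x ∈ (⊤ : S.Opens) from trivial)
  have hpt : ∀ j, pr f j x ∈ f ⁻¹ᵁ S₀ := by
    intro j
    change f (pr f j x) ∈ S₀
    rw [← Scheme.Hom.comp_apply, pr_comp]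
    exact hx
  choose U hU hxU eU using fun j => TopologicalSpace.Opens.isBasis_iff_nbhd.mp X.isBasis_affineOpens (hpt j)
  let c : Fin d → Fin d := id
  have hs := SymLocal.stable_chart f c S₀ U
  refine ⟨⟨S₀, hS₀⟩, ⟨chart f c S₀ U, SymLocal.isAffineOpen_chart f c hS₀ hU eU⟩, ⟨hx, hxU⟩, chart_le_base S₀ U, ?_⟩
  have h1 := SymLocal.flat_chart f c hS₀ hU eU rfl hs (chart_le_base S₀ U)
  have h2 : ∀ t, t ∈ invSub hs := by
    intro t
    rw [SymLocal.mem_invSub_iff_tau]
    intro σ
    have hσ : σ.1 = 1 := Equiv.ext fun i => σ.2 i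
    have h3 : SymLocal.linv c σ = 1 := by
      apply Subtype.ext
      apply ULift.ext
      change σ.1⁻¹ = 1
      rw [hσ, inv_one]
    change (act _ hs (SymLocal.linv c σ)).hom t = t
    rw [h3, act_one_apply]
  have h4 : Function.Bijective (invSub hs).subtype := ⟨Subtype.val_injective, fun t => ⟨⟨t, h2 t⟩, rfl⟩⟩
  exact h1.comp (RingHom.Flat.of_bijective h4)

/-- Any symmetric power of a flat morphism is flat. -/
theorem flat_of_isSymProd [Flat f] {Y : Scheme.{u}} (q : SymProd.fibPow f d ⟶ Y) (g : Y ⟶ S)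
    (hq : SymProd.IsSymProd f d q g) : Flat g := by
  have := hq.isQuot.affine
  constructor
  intro S₀ hS₀ V hV e
  let O₁ := q ⁻¹ᵁ V
  have h₁ : IsAffineOpen O₁ := hV.preimage q
  have s₁ : Stable (SymProd.permActU f d) O₁ := stable_preimage hq.isQuot.inv V
  have e₁ : O₁ ≤ bs f d ⁻¹ᵁ S₀ := by
    have h1 : bs f d = q ≫ g := hq.over.symm
    rw [h1, Scheme.Hom.comp_preimage]
    exact q.preimage_mono e
  have h2 := SymLocal.flat_baseHom f hS₀ h₁ s₁ e₁
  let θ : Γ(Y, V) →+* invSub s₁ := (q.app V).hom.codRestrict (invSub s₁)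
    (fun a γ => act_app_apply hq.isQuot.inv V γ a)
  have hθ : Function.Bijective θ := by
    constructor
    · intro a b hab
      exact hq.isQuot.injective V (congrArg Subtype.val hab)
    · intro t
      obtain ⟨a, ha⟩ := (quotOn_of_isQuot hq.isQuot V).surj t.1 t.2
      exact ⟨a, Subtype.ext ha⟩
  have h3 : θ.comp (g.appLE S₀ V e).hom = TransferFlat.baseHom (SymLocal.bs_inv f) s₁ e₁ := by
    ext r
    change (q.app V).hom ((g.appLE S₀ V e).hom r) = ((bs f d).appLE S₀ O₁ e₁).hom r
    rw [← CommRingCat.comp_apply, Scheme.Hom.app_eq_appLE, Scheme.Hom.appLE_comp_appLE]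
    simp only [hq.over]
    rfl
  rw [← h3] at h2
  exact (RingHom.Flat.comp_iff_of_bijective_left hθ).mp h2

end SymProd

end K755.SymFlat
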