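import Groth.Prelude.Def_SymTen
import Mathlib.RingTheory.GradedAlgebra.Basic
import Mathlib.RingTheory.Ideal.GoingUp
import Mathlib.RingTheory.Invariant.Basic

/-!
# The graded ring of the symmetric product of a projective scheme

`C` is the subalgebra of the tensor power generated by the pure tensors of homogeneous elements of the same degree,
`D` its subring of symmetric tensors.  Radical membership in ideals of `D` can be tested at the primes of `C`.
-/

set_option autoImplicit false
universe u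

open scoped TensorProduct

namespace K755.SymGraded

open SymTen

variable {A B : Type u} [CommRing A] [CommRing B] [Algebra A B] (𝒜 : ℕ → Submodule A B) (d : ℕ)

/-- pure tensors of homogeneous elements of the same degree -/
def pureSet : Set (⨂[A] _ : Fin d, B) :=
  {t | ∃ (k : ℕ) (b : Fin d → B), (∀ i, b i ∈ 𝒜 k) ∧ t = PiTensorProduct.tprod A b}

/-- the algebra generated by them -/
noncomputable def Cal : Subalgebra A (⨂[A] _ : Fin d, B) := Algebra.adjoin A (pureSet 𝒜 d)

/-- pure tensors of homogeneous elements of degree `k` -/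
def pureDeg (k : ℕ) : Set (⨂[A] _ : Fin d, B) :=
  {s | ∃ b : Fin d → B, (∀ i, b i ∈ 𝒜 k) ∧ s = PiTensorProduct.tprod A b}

theorem pureDeg_subset (k : ℕ) : pureDeg 𝒜 d k ⊆ Cal 𝒜 d := by
  rintro _ ⟨b, hb, rfl⟩
  exact Algebra.subset_adjoin ⟨k, b, hb, rfl⟩

theorem span_pureDeg_le (k : ℕ) : Submodule.span A (pureDeg 𝒜 d k) ≤ (Cal 𝒜 d).toSubmodule :=
  Submodule.span_le.mpr (pureDeg_subset 𝒜 d k)

variable {d} in
theorem perm_mem (σ : Equiv.Perm (Fin d)) {c : ⨂[A] _ : Fin d, B} (hc : c ∈ Cal 𝒜 d) :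
    perm A B d σ c ∈ Cal 𝒜 d := by
  have h : (Cal 𝒜 d).map (perm A B d σ) ≤ Cal 𝒜 d := by
    rw [Cal, AlgHom.map_adjoin]
    apply Algebra.adjoin_mono
    rintro _ ⟨_, ⟨k, b, hb, rfl⟩, rfl⟩
    exact ⟨k, fun i => b (σ.symm i), fun i => hb _, perm_tprod _ _ _ _ _⟩
  exact h ⟨c, hc, rfl⟩

theorem perm_one (t : ⨂[A] _ : Fin d, B) : perm A B d 1 t = t := by
  have : perm A B d 1 = AlgHom.id A _ := by
    apply PiTensorProduct.algHom_ext
    intro i
    ext b
    simp only [AlgHom.comp_apply, PiTensorProduct.singleAlgHom_apply, AlgHom.id_apply]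
    rw [perm_tprod]
    rfl
  rw [this]; rfl

theorem perm_mul_apply (σ τ : Equiv.Perm (Fin d)) (t : ⨂[A] _ : Fin d, B) :
    perm A B d (σ * τ) t = perm A B d σ (perm A B d τ t) := by
  have : perm A B d (σ * τ) = (perm A B d σ).comp (perm A B d τ) := by
    apply PiTensorProduct.algHom_ext
    intro i
    ext b
    simp only [AlgHom.comp_apply, PiTensorProduct.singleAlgHom_apply]
    rw [perm_tprod, perm_tprod, perm_tprod]
    rfl
  rw [this]; rfl

/-- the action on `C` -/
noncomputable local instance actC : MulSemiringAction (Equiv.Perm (Fin d)) (Cal 𝒜 d) where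
  smul σ c := ⟨perm A B d σ c, perm_mem 𝒜 σ c.2⟩
  one_smul c := Subtype.ext (perm_one d _)
  mul_smul σ τ c := Subtype.ext (perm_mul_apply d σ τ _)
  smul_zero σ := Subtype.ext (map_zero _)
  smul_add σ x y := Subtype.ext (map_add _ _ _)
  smul_one σ := Subtype.ext (map_one _)
  smul_mul σ x y := Subtype.ext (map_mul _ _ _)

theorem mem_TS_iff' (t : ⨂[A] _ : Fin d, B) : t ∈ TS A B d ↔ ∀ σ, perm A B d σ t = t := by
  rw [mem_TS_iff]
  simp only [perm_apply]

section

variable (D : Subalgebra A (⨂[A] _ : Fin d, B)) (hD : D = Cal 𝒜 d ⊓ TS A B d)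

theorem D_le (hD : D = Cal 𝒜 d ⊓ TS A B d) : D ≤ Cal 𝒜 d := by rw [hD]; exact inf_le_left

/-- Radical membership in `D` can be tested at the primes of `C`. -/
theorem exists_pow_mem (hD : D = Cal 𝒜 d ⊓ TS A B d) (J : Set D) (t : D)
    (h : ∀ (Q : Ideal (Cal 𝒜 d)) [Q.IsPrime], (∀ x ∈ J, Subalgebra.inclusion (D_le 𝒜 d D hD) x ∈ Q) →
      Subalgebra.inclusion (D_le 𝒜 d D hD) t ∈ Q) :
    ∃ m : ℕ, 0 < m ∧ t ^ m ∈ Ideal.span J := by
  letI : Algebra D (Cal 𝒜 d) := (Subalgebra.inclusion (D_le 𝒜 d D hD)).toRingHom.toAlgebra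
  have halg : ∀ x : D, algebraMap D (Cal 𝒜 d) x = Subalgebra.inclusion (D_le 𝒜 d D hD) x := fun _ => rfl
  have hinj : Function.Injective (algebraMap D (Cal 𝒜 d)) := Subalgebra.inclusion_injective _
  haveI : SMulCommClass (Equiv.Perm (Fin d)) D (Cal 𝒜 d) := by
    constructor
    intro σ x c
    apply Subtype.ext
    have hx : ∀ σ, perm A B d σ (x : ⨂[A] _ : Fin d, B) = x := by
      have := hD.le x.2
      exact (mem_TS_iff' d _).mp this.2
    show perm A B d σ ((x : ⨂[A] _ : Fin d, B) * c) = (x : ⨂[A] _ : Fin d, B) * perm A B d σ c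
    rw [map_mul, hx]
  haveI : Algebra.IsInvariant D (Cal 𝒜 d) (Equiv.Perm (Fin d)) := by
    constructor
    intro c hc
    have hcD : (c : ⨂[A] _ : Fin d, B) ∈ D := by
      rw [hD]
      refine ⟨c.2, (mem_TS_iff' d _).mpr fun σ => ?_⟩
      exact congrArg Subtype.val (hc σ)
    exact ⟨⟨c, hcD⟩, rfl⟩
  haveI : Algebra.IsIntegral D (Cal 𝒜 d) := Algebra.IsInvariant.isIntegral D (Cal 𝒜 d) (Equiv.Perm (Fin d))
  have hrad : t ∈ (Ideal.span J).radical := by
    rw [Ideal.radical_eq_sInf, Ideal.mem_sInf]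
    rintro P ⟨hJP, hP⟩
    obtain ⟨Q, -, hQ, hQP⟩ := Ideal.exists_ideal_over_prime_of_isIntegral (S := Cal 𝒜 d) P ⊥ (by
      intro x hx
      rw [Ideal.mem_comap, Ideal.mem_bot] at hx
      rw [hinj (hx.trans (map_zero _).symm)]
      exact P.zero_mem)
    rw [← hQP, Ideal.mem_comap]
    apply h Q
    intro x hx
    have : x ∈ Q.comap (algebraMap D (Cal 𝒜 d)) := by
      rw [hQP]; exact hJP (Ideal.subset_span hx)
    exact this
  obtain ⟨m, hm⟩ := hrad
  exact ⟨m + 1, Nat.succ_pos m, by rw [pow_succ]; exact Ideal.mul_mem_right _ _ hm⟩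

end

/-- The homogeneous piece of degree `k` is additively generated by products of `k` elements of degree one. -/
theorem mem_span_prod [GradedAlgebra 𝒜] (hgen : Algebra.adjoin A (𝒜 1 : Set B) = ⊤) (k : ℕ) (x : B)
    (hx : x ∈ 𝒜 k) : x ∈ Submodule.span A {y | ∃ b : Fin k → B, (∀ i, b i ∈ 𝒜 1) ∧ y = ∏ i, b i} := by
  classical
  have hall : ∀ y : B, ∀ n, ((DirectSum.decompose 𝒜 y n : 𝒜 n) : B) ∈
      Submodule.span A {y | ∃ b : Fin n → B, (∀ i, b i ∈ 𝒜 1) ∧ y = ∏ i, b i} := by
    have hprod : ∀ (l : List B), (∀ z ∈ l, z ∈ 𝒜 1) → ∀ n, ((DirectSum.decompose 𝒜 l.prod n : 𝒜 n) : B) ∈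
        Submodule.span A {y | ∃ b : Fin n → B, (∀ i, b i ∈ 𝒜 1) ∧ y = ∏ i, b i} := by
      intro l hl n
      have hlen : l.prod ∈ 𝒜 l.length := by
        have := SetLike.list_prod_map_mem_graded (A := 𝒜) l (fun _ => 1) id (fun z hz => hl z hz)
        simpa using this
      by_cases hn : l.length = n
      · subst hn
        rw [DirectSum.decompose_of_mem_same 𝒜 hlen]
        refine Submodule.subset_span ⟨fun i => l.get i, fun i => hl _ (List.get_mem _ _), ?_⟩
        rw [← List.prod_ofFn, List.ofFn_get]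
      · rw [DirectSum.decompose_of_mem_ne 𝒜 hlen hn]
        exact Submodule.zero_mem _
    intro y n
    have hy : y ∈ Algebra.adjoin A (𝒜 1 : Set B) := hgen ▸ Algebra.mem_top
    rw [← Subalgebra.mem_toSubmodule, Algebra.adjoin_eq_span] at hy
    induction hy using Submodule.span_induction with
    | mem z hz =>
      obtain ⟨l, hl, rfl⟩ := Submonoid.exists_list_of_mem_closure hz
      exact hprod l hl n
    | zero => simp
    | add a b _ _ ha hb =>
      rw [DirectSum.decompose_add, DirectSum.add_apply, Submodule.coe_add]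
      exact Submodule.add_mem _ ha hb
    | smul a b _ hb =>
      rw [DirectSum.decompose_smul, DirectSum.smul_apply, Submodule.coe_smul]
      exact Submodule.smul_mem _ _ hb
  have := hall x k
  rwa [DirectSum.decompose_of_mem_same 𝒜 hx] at this

/-- If the degree one pure tensors lie in the ideal `Q` of `C` then so do all elements of positive degree. -/
theorem mem_of_pureDeg_one [GradedAlgebra 𝒜] (hgen : Algebra.adjoin A (𝒜 1 : Set B) = ⊤)
    (Q : Ideal (Cal 𝒜 d)) (hQ : ∀ (b : Fin d → B) (hb : ∀ i, b i ∈ 𝒜 1),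
      (⟨PiTensorProduct.tprod A b, pureDeg_subset 𝒜 d 1 ⟨b, hb, rfl⟩⟩ : Cal 𝒜 d) ∈ Q)
    (k : ℕ) (hk : 0 < k) (t : Cal 𝒜 d) (ht : (t : ⨂[A] _ : Fin d, B) ∈ Submodule.span A (pureDeg 𝒜 d k)) :
    t ∈ Q := by
  classical
  obtain ⟨t, htC⟩ := t
  -- the image of `Q` as a submodule
  let N : Submodule A (⨂[A] _ : Fin d, B) := (Q.restrictScalars A).map (Cal 𝒜 d).val.toLinearMap
  have hN : ∀ z : Cal 𝒜 d, (z : ⨂[A] _ : Fin d, B) ∈ N ↔ z ∈ Q := by
    intro z
    constructor
    · rintro ⟨y, hy, hyz⟩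
      have : y = z := Subtype.ext hyz
      rwa [← this]
    · intro hz
      exact ⟨z, hz, rfl⟩
  rw [← hN]
  refine (Submodule.span_le (p := N)).mpr ?_ ht
  rintro _ ⟨b, hb, rfl⟩
  -- multilinear expansion
  have hkey : ∀ b : Fin d → B, (∀ i, b i ∈ Submodule.span A
      {y | ∃ c : Fin k → B, (∀ i, c i ∈ 𝒜 1) ∧ y = ∏ i, c i}) → PiTensorProduct.tprod A b ∈ N := by
    have hind : ∀ s : Finset (Fin d), ∀ b : Fin d → B,
        (∀ i ∈ s, b i ∈ Submodule.span A {y | ∃ c : Fin k → B, (∀ i, c i ∈ 𝒜 1) ∧ y = ∏ i, c i}) →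
        (∀ i ∉ s, b i ∈ {y | ∃ c : Fin k → B, (∀ i, c i ∈ 𝒜 1) ∧ y = ∏ i, c i}) →
        PiTensorProduct.tprod A b ∈ N := by
      intro s
      induction s using Finset.induction_on with
      | empty =>
        intro b _ hb
        choose c hc hbc using fun i => hb i (Finset.notMem_empty i)
        have h1 : PiTensorProduct.tprod A b = ∏ j : Fin k, PiTensorProduct.tprod A (fun i => c i j) := by
          rw [← PiTensorProduct.tprod_prod]
          congr 1
          ext i
          rw [hbc i, Finset.prod_apply]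
        have hmem : ∀ j, PiTensorProduct.tprod A (fun i => c i j) ∈ Cal 𝒜 d := fun j =>
          pureDeg_subset 𝒜 d 1 ⟨_, fun i => hc i j, rfl⟩
        have h2 : PiTensorProduct.tprod A b =
            ((∏ j : Fin k, (⟨PiTensorProduct.tprod A (fun i => c i j), hmem j⟩ : Cal 𝒜 d) : Cal 𝒜 d) :
              ⨂[A] _ : Fin d, B) := by
          rw [h1]
          exact (map_prod (Cal 𝒜 d).val
            (fun j : Fin k => (⟨PiTensorProduct.tprod A (fun i => c i j), hmem j⟩ : Cal 𝒜 d)) Finset.univ).symm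
        rw [h2, hN]
        refine Ideal.prod_mem Q (Finset.mem_univ (⟨0, hk⟩ : Fin k)) ?_
        exact hQ _ fun i => hc i _
      | insert a s ha ih =>
        intro b hb hb'
        have h3 := hb a (Finset.mem_insert_self _ _)
        rw [← Function.update_eq_self a b]
        generalize b a = y at h3
        induction h3 using Submodule.span_induction with
        | mem y hy =>
          apply ih
          · intro i hi
            rw [Function.update_of_ne (fun h : i = a => ha (h ▸ hi))]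
            exact hb i (Finset.mem_insert_of_mem hi)
          · intro i hi
            by_cases hia : i = a
            · subst hia
              rwa [Function.update_self]
            · rw [Function.update_of_ne hia]
              exact hb' i fun h => (Finset.mem_insert.mp h).elim hia hi
        | zero =>
          rw [MultilinearMap.map_update_zero]
          exact N.zero_mem
        | add x y _ _ hx hy =>
          rw [MultilinearMap.map_update_add]
          exact N.add_mem hx hy
        | smul r x _ hx =>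
          rw [MultilinearMap.map_update_smul]
          exact N.smul_mem _ hx
    intro b hb
    exact hind Finset.univ b (fun i _ => hb i) fun i hi => absurd (Finset.mem_univ i) hi
  exact hkey b fun i => mem_span_prod 𝒜 hgen k _ (hb i)

/-- The elements `b₁^n ⊗ ⋯ ⊗ x ⊗ ⋯ ⊗ b_d^n` (with `x` in the `i`-th place). -/
noncomputable def psi (b : Fin d → B) (n : ℕ) (i : Fin d) (x : B) : ⨂[A] _ : Fin d, B :=
  PiTensorProduct.tprod A (Function.update (fun l => b l ^ n) i x)

theorem psi_mem [GradedAlgebra 𝒜] (b : Fin d → B) (hb : ∀ i, b i ∈ 𝒜 1) (n : ℕ) (i : Fin d) (x : B)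
    (hx : x ∈ 𝒜 n) : psi (A := A) d b n i x ∈ Cal 𝒜 d := by
  refine pureDeg_subset 𝒜 d n ⟨_, fun l => ?_, rfl⟩
  by_cases h : l = i
  · subst h; rwa [Function.update_self]
  · rw [Function.update_of_ne h]
    have := SetLike.pow_mem_graded n (hb l)
    rwa [smul_eq_mul, mul_one] at this

end K755.SymGraded
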