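import Groth.Agent.ZeroCyc.K755.Transfer
import Mathlib.RingTheory.Localization.BaseChange
import Mathlib.RingTheory.Flat.Localization
import Mathlib.RingTheory.Flat.Stability
import Mathlib.RingTheory.Flat.Tensor
import Mathlib.RingTheory.RingHom.Flat

/-!
# Flatness of invariants by transfer
-/

set_option autoImplicit false

universe u

open CategoryTheory CategoryTheory.Limits AlgebraicGeometry
open scoped TensorProduct

namespace K755.TransferFlat

section Alg

variable {A R₀ : Type u} [CommRing A] [CommRing R₀] [Algebra A R₀]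

theorem smul_eq_zero {RH N : Type u} [CommRing RH] [CommRing N] [Algebra A RH] [Algebra R₀ RH] [IsScalarTower A R₀ RH]
    [Algebra RH N] [Algebra A N] [IsScalarTower A RH N] (T : RH →ₗ[R₀] R₀) (f e₀ : RH) [IsLocalization.Away f N]
    [Module.Flat A N] (I : Ideal A) (w : R₀ ⊗[A] I) (hw : LinearMap.lTensor R₀ I.subtype w = 0) :
    ∃ n : ℕ, T (e₀ * f ^ n) • w = 0 := by
  let j : R₀ →ₗ[A] RH := (Algebra.linearMap R₀ RH).restrictScalars A
  let ν : RH →ₗ[A] N := (Algebra.linearMap RH N).restrictScalars A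
  let wH : RH ⊗[A] I := LinearMap.rTensor I j w
  have h1 : LinearMap.rTensor I ν wH = 0 := by
    have hinj : Function.Injective (LinearMap.lTensor N I.subtype) :=
      Module.Flat.lTensor_preserves_injective_linearMap I.subtype Subtype.val_injective
    apply hinj
    rw [map_zero]
    have h2 : LinearMap.lTensor N I.subtype (LinearMap.rTensor I ν wH) =
        LinearMap.rTensor A (ν ∘ₗ j) (LinearMap.lTensor R₀ I.subtype w) := by
      rw [LinearMap.rTensor_comp, ← LinearMap.comp_apply, ← LinearMap.comp_apply (f := LinearMap.rTensor A ν ∘ₗ _)]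
      rw [← LinearMap.comp_apply (g := LinearMap.rTensor I j)]
      congr 1
      ext r i
      rfl
    rw [h2, hw, map_zero]
  have h3 : IsLocalizedModule (Submonoid.powers f)
      (TensorProduct.AlgebraTensorModule.rTensor A I (Algebra.linearMap RH N)) :=
    inferInstance
  obtain ⟨⟨_, n, rfl⟩, hn⟩ := IsLocalizedModule.exists_of_eq (S := Submonoid.powers f)
    (f := TensorProduct.AlgebraTensorModule.rTensor A I (Algebra.linearMap RH N)) (x₁ := wH) (x₂ := 0) (by
      rw [map_zero]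
      exact h1)
  rw [smul_zero] at hn
  change f ^ n • wH = 0 at hn
  refine ⟨n, ?_⟩
  have h4 : ∀ w : R₀ ⊗[A] I, TensorProduct.AlgebraTensorModule.rTensor A I (T ∘ₗ LinearMap.mulLeft R₀ e₀)
      (f ^ n • (LinearMap.rTensor I j w)) = T (e₀ * f ^ n) • w := by
    intro w
    induction w using TensorProduct.induction_on with
    | zero => rw [map_zero, smul_zero, smul_zero, map_zero]
    | tmul r i =>
      rw [LinearMap.rTensor_tmul, TensorProduct.smul_tmul', TensorProduct.smul_tmul',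
        TensorProduct.AlgebraTensorModule.rTensor_tmul]
      congr 1
      change T (e₀ * (f ^ n * algebraMap R₀ RH r)) = T (e₀ * f ^ n) * r
      rw [← mul_assoc, mul_comm _ (algebraMap R₀ RH r), ← Algebra.smul_def, map_smul, smul_eq_mul, mul_comm]
    | add x y hx hy => rw [map_add, smul_add, smul_add, map_add, hx, hy]
  have h5 := h4 w
  change TensorProduct.AlgebraTensorModule.rTensor A I (T ∘ₗ LinearMap.mulLeft R₀ e₀) (f ^ n • wH) = _ at h5
  rw [hn, map_zero] at h5
  exact h5.symm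

theorem flat_of_transfer
    (h : ∀ P₀ : Ideal R₀, P₀.IsMaximal → ∃ (RH N : Type u) (_ : CommRing RH) (_ : CommRing N) (_ : Algebra A RH)
      (_ : Algebra R₀ RH) (_ : IsScalarTower A R₀ RH) (_ : Algebra RH N) (_ : Algebra A N) (_ : IsScalarTower A RH N)
      (T : RH →ₗ[R₀] R₀) (f e₀ : RH), IsLocalization.Away f N ∧ Module.Flat A N ∧ ∀ n : ℕ, T (e₀ * f ^ n) ∉ P₀) :
    Module.Flat A R₀ := by
  rw [Module.Flat.iff_lTensor_injective']
  intro I
  rw [injective_iff_map_eq_zero]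
  intro w hw
  let 𝔞 : Ideal R₀ :=
    { carrier := {r | r • w = 0}
      add_mem' := fun {a b} ha hb => by
        change (a + b) • w = 0
        rw [add_smul, ha, hb, add_zero]
      zero_mem' := zero_smul _ _
      smul_mem' := fun a b hb => by
        change (a * b) • w = 0
        rw [mul_smul, hb, smul_zero] }
  have h1 : 𝔞 = ⊤ := by
    by_contra hne
    obtain ⟨P₀, hP₀, hle⟩ := Ideal.exists_le_maximal 𝔞 hne
    obtain ⟨RH, N, i1, i2, i3, i4, i5, i6, i7, i8, T, f, e₀, hloc, hflat, hT⟩ := h P₀ hP₀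
    obtain ⟨n, hn⟩ := smul_eq_zero T f e₀ I w hw (N := N)
    exact hT n (hle hn)
  have h2 : (1 : R₀) ∈ 𝔞 := by rw [h1]; trivial
  have h3 : (1 : R₀) • w = 0 := h2
  rwa [one_smul] at h3

end Alg

section Sch

open Groth.Agent.Sga1.QuotBasic Groth.Agent.Sga1.QuotExists Groth.Agent.Sga1.StableAffine K755.Transfer

variable {X S : Scheme.{u}} {G : Type u} [Group G] {ρ : G →* Aut X} {b : X ⟶ S}

theorem isLocalization_inv [Finite G] {O D : X.Opens} (hO : IsAffineOpen O) (s : Stable ρ O) (sD : Stable ρ D)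
    (g : invSub s) (hD : D = X.basicOpen g.1) (hle : D ≤ O) :
    letI := (resInv s sD hle).toAlgebra
    IsLocalization.Away g (invSub sD) := by
  subst hD
  exact isLocalization_invSub s hO g sD

/-- The structure map of the base into the invariants. -/
noncomputable def baseHom (hb : ∀ g, (ρ g).hom ≫ b = b) {S₀ : S.Opens} {O : X.Opens} (s : Stable ρ O)
    (e : O ≤ b ⁻¹ᵁ S₀) : Γ(S, S₀) →+* invSub s :=
  (b.appLE S₀ O e).hom.codRestrict (invSub s) (fun r g => by
    have : b.appLE S₀ O e ≫ act ρ s g = b.appLE S₀ O e := by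
      change _ ≫ (Iso.hom (ρ g)).appLE _ _ _ = _
      rw [Scheme.Hom.appLE_comp_appLE]
      exact appLE_congr_hom (hb g) _ _ _
    exact congrArg (fun k => k.hom r) this)

theorem baseHom_coe (hb : ∀ g, (ρ g).hom ≫ b = b) {S₀ : S.Opens} {O : X.Opens} (s : Stable ρ O)
    (e : O ≤ b ⁻¹ᵁ S₀) (r : Γ(S, S₀)) : (baseHom hb s e r : Γ(X, O)) = (b.appLE S₀ O e).hom r := rfl

theorem resInv_comp_baseHom (hb : ∀ g, (ρ g).hom ≫ b = b) {S₀ : S.Opens} {O D : X.Opens} (s : Stable ρ O)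
    (sD : Stable ρ D) (hle : D ≤ O) (e : O ≤ b ⁻¹ᵁ S₀) :
    (resInv s sD hle).comp (baseHom hb s e) = baseHom hb sD (hle.trans e) := by
  ext r
  change (X.presheaf.map (homOfLE hle).op).hom ((b.appLE S₀ O e).hom r) = (b.appLE S₀ D (hle.trans e)).hom r
  rw [← CommRingCat.comp_apply, Scheme.Hom.appLE_map]

theorem flat_baseHom [Finite G] (hb : ∀ g, (ρ g).hom ≫ b = b) {S₀ : S.Opens} {O₁ : X.Opens} (h₁ : IsAffineOpen O₁)
    (s₁ : Stable ρ O₁) (e₁ : O₁ ≤ b ⁻¹ᵁ S₀)
    (h : ∀ x ∈ O₁, ∃ (H : Subgroup G) (O₂ : X.Opens) (_ : IsAffineOpen O₂) (s₂ : Stable (ρ.comp H.subtype) O₂)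
      (e₂ : O₂ ≤ b ⁻¹ᵁ S₀), x ∈ O₂ ∧ (∀ g, (ρ g).hom x = x → g ∈ H) ∧
      (baseHom (ρ := ρ.comp H.subtype) (fun h => hb h.1) s₂ e₂).Flat) :
    (baseHom hb s₁ e₁).Flat := by
  letI := (baseHom hb s₁ e₁).toAlgebra
  apply flat_of_transfer
  intro P₀ hP₀
  obtain ⟨Q, hQ⟩ := (isIntegral_invSub s₁).comap_surjective Subtype.val_injective ⟨P₀, hP₀.isPrime⟩
  let x : X := h₁.fromSpec Q
  have hx : x ∈ O₁ := by
    have := h₁.range_fromSpec
    exact this.le ⟨Q, rfl⟩
  have hmem : ∀ u : invSub s₁, x ∈ X.basicOpen u.1 → u ∉ P₀ := by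
    intro u hu hu'
    have h2 : Q ∈ h₁.fromSpec ⁻¹ᵁ X.basicOpen u.1 := hu
    rw [h₁.fromSpec_preimage_basicOpen] at h2
    apply h2
    have h3 : u ∈ (PrimeSpectrum.comap (invSub s₁).subtype Q).asIdeal := by rw [hQ]; exact hu'
    exact h3
  obtain ⟨H, O₂, h₂, s₂, e₂, x₂, hstab, hflat⟩ := h x hx
  obtain ⟨f, hf, g, hg, hfg, hxf⟩ := exists_common h₁ h₂ (stable_comp s₁ H) s₂ hx x₂
  have hD₁ : X.basicOpen f ≤ O₁ := X.basicOpen_le f
  have hD₂ : X.basicOpen f ≤ O₂ := by
    rw [hfg]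
    exact X.basicOpen_le g
  have sD : Stable (ρ.comp H.subtype) (X.basicOpen f) := stable_basicOpen _ (stable_comp s₁ H) f hf
  obtain ⟨e₀, he₀, hxe₀, hsep⟩ := exists_sep h₁ H (stable_comp s₁ H) hx hstab
  letI := Fintype.ofFinite (G ⧸ H)
  let inc : invSub s₁ →+* invSub (stable_comp s₁ H) := Subring.inclusion (fun r hr h => hr h.1)
  let iA : Algebra Γ(S, S₀) (invSub (stable_comp s₁ H)) :=
    (baseHom (ρ := ρ.comp H.subtype) (fun h => hb h.1) (stable_comp s₁ H) e₁).toAlgebra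
  let iR : Algebra (invSub s₁) (invSub (stable_comp s₁ H)) := inc.toAlgebra
  let iN : Algebra (invSub (stable_comp s₁ H)) (invSub sD) := (resInv (stable_comp s₁ H) sD hD₁).toAlgebra
  let iAN : Algebra Γ(S, S₀) (invSub sD) :=
    (baseHom (ρ := ρ.comp H.subtype) (fun h => hb h.1) sD (hD₁.trans e₁)).toAlgebra
  have t1 : IsScalarTower Γ(S, S₀) (invSub s₁) (invSub (stable_comp s₁ H)) :=
    IsScalarTower.of_algebraMap_eq (fun r => rfl)
  have t2 : IsScalarTower Γ(S, S₀) (invSub (stable_comp s₁ H)) (invSub sD) :=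
    IsScalarTower.of_algebraMap_eq (fun r => (congrArg (fun k => k r) (resInv_comp_baseHom
      (ρ := ρ.comp H.subtype) (fun h => hb h.1) (stable_comp s₁ H) sD hD₁ e₁)).symm)
  have hinv : ∀ r : invSub (stable_comp s₁ H), Trace.tr (lact s₁) H r.1 ∈ invSub s₁ := by
    intro r
    rw [mem_invSub_iff]
    exact fun γ => Trace.apply_tr (lact s₁) H ((mem_invSub_comp_iff s₁ H _).mp r.2) γ
  let T : invSub (stable_comp s₁ H) →ₗ[invSub s₁] invSub s₁ :=
    { toFun := fun r => ⟨Trace.tr (lact s₁) H r.1, hinv r⟩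
      map_add' := fun r r' => Subtype.ext (map_add (Trace.tr (lact s₁) H) r.1 r'.1)
      map_smul' := fun r₀ r => by
        apply Subtype.ext
        change Trace.tr (lact s₁) H (r₀.1 * r.1) = r₀.1 * Trace.tr (lact s₁) H r.1
        rw [Trace.tr_apply, Trace.tr_apply, Finset.mul_sum]
        refine Finset.sum_congr rfl fun c _ => ?_
        rw [lact_mul, (mem_invSub_iff s₁ r₀.1).mp r₀.2] }
  refine ⟨invSub (stable_comp s₁ H), invSub sD, inferInstance, inferInstance, iA, iR, t1, iN, iAN, t2, T,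
    ⟨f, hf⟩, ⟨e₀, he₀⟩, isLocalization_inv h₁ (stable_comp s₁ H) sD ⟨f, hf⟩ rfl hD₁, ?_, ?_⟩
  · have h3 := isLocalization_inv h₂ s₂ sD ⟨g, hg⟩ hfg hD₂
    have h4 : (resInv s₂ sD hD₂).Flat := by
      letI := (resInv s₂ sD hD₂).toAlgebra
      exact IsLocalization.flat (invSub sD) (Submonoid.powers (⟨g, hg⟩ : invSub s₂))
    have h5 := hflat.comp h4
    have h6 := resInv_comp_baseHom (ρ := ρ.comp H.subtype) (fun h => hb h.1) s₂ sD hD₂ e₂
    have h7 : ((resInv s₂ sD hD₂).comp (baseHom (ρ := ρ.comp H.subtype) (fun h => hb h.1) s₂ e₂)).Flat := h5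
    rw [h6] at h7
    exact h7
  · intro n
    apply hmem
    have he : e₀ * f ^ n ∈ invSub (stable_comp s₁ H) := Subring.mul_mem _ he₀ (Subring.pow_mem _ hf n)
    have hxe : x ∈ X.basicOpen (e₀ * f ^ n) := by
      rw [Scheme.mem_basicOpen _ _ _ hx] at hxe₀ hxf ⊢
      rw [map_mul, map_pow]
      exact hxe₀.mul (hxf.pow n)
    have hge : ∀ γ ∉ H, (ρ γ).hom x ∉ X.basicOpen (e₀ * f ^ n) := by
      intro γ hγ hc
      rw [Scheme.basicOpen_mul] at hc
      exact hsep γ hγ hc.1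
    exact mem_basicOpen_tr s₁ H hx he hxe hge

end Sch

end K755.TransferFlat
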