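import Groth.Agent.ZeroCyc.K755.FibChart
import Groth.Agent.ZeroCyc.K755.TransferFlat
import Mathlib.AlgebraicGeometry.Morphisms.Flat

/-!
# Local structure of symmetric powers
-/

set_option autoImplicit false

universe u
open CategoryTheory CategoryTheory.Limits AlgebraicGeometry
open scoped TensorProduct

namespace K755.SymLocal

open K755.FibChart K755.Transfer K755.Colour Groth.Agent.Sga1.QuotBasic Groth.Agent.Sga1.QuotExists

variable {X S : Scheme.{u}} (f : X ⟶ S) {d : ℕ}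

/-- The Young subgroup in the lifted symmetric group. -/
def yng {J : Type} (c : Fin d → J) : Subgroup (ULift.{u} (Equiv.Perm (Fin d))) :=
  (young c).comap (MulEquiv.ulift : ULift.{u} (Equiv.Perm (Fin d)) ≃* Equiv.Perm (Fin d)).toMonoidHom

theorem mem_yng {J : Type} {c : Fin d → J} {g : ULift.{u} (Equiv.Perm (Fin d))} : g ∈ yng c ↔ g.down ∈ young c := Iff.rfl

theorem bs_perm (g : ULift.{u} (Equiv.Perm (Fin d))) (x : SymProd.fibPow f d) :
    bs f d ((SymProd.permActU f d g).hom x) = bs f d x := by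
  rw [← Scheme.Hom.comp_apply]
  congr 1
  rw [SymProd.permActU_hom, SymProd.permHom_base]

theorem pr_perm (g : ULift.{u} (Equiv.Perm (Fin d))) (i : Fin d) (x : SymProd.fibPow f d) :
    pr f i ((SymProd.permActU f d g).hom x) = pr f (g.down.symm i) x := by
  rw [← Scheme.Hom.comp_apply]
  congr 1
  rw [SymProd.permActU_hom, SymProd.permHom_π]

/-- Colour the factors by the components of a point. -/
theorem exists_colour (x : SymProd.fibPow f d) :
    ∃ c : Fin d → Fin d, (∀ i, pr f (c i) x = pr f i x) ∧ ∀ i j, pr f i x = pr f j x → c i = c j := by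
  classical
  have h : ∀ z : X, (∃ k, pr f k x = z) → ∃ k, pr f k x = z := fun _ h => h
  let sel : ∀ z : X, (∃ k, pr f k x = z) → Fin d := fun z hz => hz.choose
  have hsel : ∀ z hz, pr f (sel z hz) x = z := fun z hz => hz.choose_spec
  have hcong : ∀ z z' hz hz', z = z' → sel z hz = sel z' hz' := by
    intro z z' hz hz' e
    subst e
    rfl
  exact ⟨fun i => sel (pr f i x) ⟨i, rfl⟩, fun i => hsel _ _, fun i j e => hcong _ _ _ _ e⟩

theorem exists_chart {S₀ : S.Opens} (x : SymProd.fibPow f d) (hx : bs f d x ∈ S₀) :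
    ∃ (c : Fin d → Fin d) (U : Fin d → X.Opens), (∀ j, IsAffineOpen (U j)) ∧ (∀ j, U j ≤ f ⁻¹ᵁ S₀) ∧
      x ∈ chart f c S₀ U ∧
      ∀ g : ULift.{u} (Equiv.Perm (Fin d)), (SymProd.permActU f d g).hom x = x → g ∈ yng c := by
  obtain ⟨c, hc, hc'⟩ := exists_colour f x
  have hpt : ∀ j, pr f j x ∈ f ⁻¹ᵁ S₀ := by
    intro j
    change f (pr f j x) ∈ S₀
    rw [← Scheme.Hom.comp_apply, pr_comp]
    exact hx
  choose U hU hxU hUS using fun j => TopologicalSpace.Opens.isBasis_iff_nbhd.mp X.isBasis_affineOpens (hpt j)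
  refine ⟨c, U, hU, hUS, ⟨hx, fun i => ?_⟩, fun g hg => ?_⟩
  · have := hxU (c i)
    rwa [hc i] at this
  · rw [mem_yng]
    intro i
    apply hc'
    have h1 := pr_perm f g (g.down i) x
    rw [hg, Equiv.symm_apply_apply] at h1
    exact h1

variable {J : Type} (c : Fin d → J)

theorem stable_chart (S₀ : S.Opens) (U : J → X.Opens) :
    Stable ((SymProd.permActU f d).comp (yng c).subtype) (chart f c S₀ U) := by
  rintro ⟨g, hg⟩ y ⟨hy1, hy2⟩
  refine ⟨?_, fun i => ?_⟩
  · change bs f d ((SymProd.permActU f d g).hom y) ∈ S₀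
    rw [bs_perm]
    exact hy1
  · change pr f i ((SymProd.permActU f d g).hom y) ∈ U (c i)
    rw [pr_perm]
    have := hy2 (g.down.symm i)
    rwa [young_symm c (mem_yng.mp hg) i] at this

/-- The inverse of a permutation in the lifted Young subgroup. -/
def linv (σ : young c) : yng.{u} c :=
  ⟨ULift.up σ.1⁻¹, show (ULift.up σ.1⁻¹ : ULift.{u} (Equiv.Perm (Fin d))) ∈ yng c from (young c).inv_mem σ.2⟩

/-- The action of the Young subgroup on sections over an open, written as a left action. -/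
noncomputable def tau {O : (SymProd.fibPow f d).Opens}
    (s : Stable ((SymProd.permActU f d).comp (yng c).subtype) O) (σ : young c) :
    Γ(SymProd.fibPow f d, O) →+* Γ(SymProd.fibPow f d, O) :=
  (act ((SymProd.permActU f d).comp (yng c).subtype) s (linv c σ)).hom

theorem mem_invSub_iff_tau {O : (SymProd.fibPow f d).Opens}
    (s : Stable ((SymProd.permActU f d).comp (yng c).subtype) O) (t : Γ(SymProd.fibPow f d, O)) :
    t ∈ invSub s ↔ ∀ σ, tau f c s σ t = t := by
  constructor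
  · intro h σ
    exact h _
  · rintro h ⟨g, hg⟩
    have h1 := h ⟨g.down⁻¹, (young c).inv_mem hg⟩
    have h2 : linv c ⟨g.down⁻¹, (young c).inv_mem hg⟩ = ⟨g, hg⟩ := by
      apply Subtype.ext
      apply ULift.ext
      exact inv_inv g.down
    unfold tau at h1
    rw [h2] at h1
    exact h1

theorem isEqv_tau {O : (SymProd.fibPow f d).Opens}
    (s : Stable ((SymProd.permActU f d).comp (yng c).subtype) O) (U : J → X.Opens)
    (e : ∀ i, O ≤ pr f i ⁻¹ᵁ U (c i)) :
    ColourRing.IsEqv c (B := fun j => Γ(X, U j)) (tau f c s) (fun i => ((pr f i).appLE (U (c i)) O (e i)).hom) := by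
  intro σ i b
  have key : ∀ (τ : Equiv.Perm (Fin d)) (hle : O ≤ (SymProd.permHom f d τ) ⁻¹ᵁ O)
      (e' : O ≤ pr f (τ.symm i) ⁻¹ᵁ U (c i)), (pr f i).appLE (U (c i)) O (e i) ≫
        (SymProd.permHom f d τ).appLE O O hle = (pr f (τ.symm i)).appLE (U (c i)) O e' := by
    intro τ hle e'
    rw [Scheme.Hom.appLE_comp_appLE]
    exact appLE_congr_hom (SymProd.permHom_π f d τ i) _ _ _
  have h1 := key σ.1⁻¹ (s (linv c σ)) (by have := e (σ.1 i); rwa [σ.2 i] at this)
  have h2 := congrArg (fun k => k.hom (b (c i))) h1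
  refine h2.trans ?_
  have h3 : ∀ (j j' : J) (hj : j = j') (k : Fin d) (e₁ : O ≤ pr f k ⁻¹ᵁ U j) (e₂ : O ≤ pr f k ⁻¹ᵁ U j'),
      ((pr f k).appLE (U j) O e₁).hom (b j) = ((pr f k).appLE (U j') O e₂).hom (b j') := by
    intro j j' hj k e₁ e₂
    subst hj
    rfl
  exact h3 _ _ (σ.2 i).symm _ _ _

/-- The coordinate maps into the sections over an open contained in the chart. -/
noncomputable def coordO {S₀ : S.Opens} {U : J → X.Opens} (eU : ∀ j, U j ≤ f ⁻¹ᵁ S₀)
    {O : (SymProd.fibPow f d).Opens} (eb : O ≤ bs f d ⁻¹ᵁ S₀) (ep : ∀ i, O ≤ pr f i ⁻¹ᵁ U (c i)) (i : Fin d) :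
    letI := fun j => algOf f S₀ (U j) (eU j)
    letI := algOf (bs f d) S₀ O eb
    Γ(X, U (c i)) →ₐ[Γ(S, S₀)] Γ(SymProd.fibPow f d, O) :=
  letI := fun j => algOf f S₀ (U j) (eU j)
  letI := algOf (bs f d) S₀ O eb
  { toRingHom := ((pr f i).appLE (U (c i)) O (ep i)).hom
    commutes' := fun r => by
      change ((pr f i).appLE (U (c i)) O (ep i)).hom
        ((f.appLE S₀ (U (c i)) (eU (c i))).hom r) = ((bs f d).appLE S₀ O eb).hom r
      rw [← CommRingCat.comp_apply, Scheme.Hom.appLE_comp_appLE]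
      simp only [pr_comp] }

theorem bijective_Θ {S₀ : S.Opens} (hS₀ : IsAffineOpen S₀) {U : J → X.Opens} (hU : ∀ j, IsAffineOpen (U j))
    (eU : ∀ j, U j ≤ f ⁻¹ᵁ S₀) {O : (SymProd.fibPow f d).Opens} (hO : O = chart f c S₀ U)
    (eb : O ≤ bs f d ⁻¹ᵁ S₀) (ep : ∀ i, O ≤ pr f i ⁻¹ᵁ U (c i)) :
    letI := fun j => algOf f S₀ (U j) (eU j)
    letI := algOf (bs f d) S₀ O eb
    IsAffineOpen O ∧ Function.Bijective (ColourRing.Θ c (B := fun j => Γ(X, U j)) (coordO f c eU eb ep)) := by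
  subst hO
  exact FibChart.main f c S₀ hS₀ U hU eU

theorem isAffineOpen_chart {S₀ : S.Opens} (hS₀ : IsAffineOpen S₀) {U : J → X.Opens} (hU : ∀ j, IsAffineOpen (U j))
    (eU : ∀ j, U j ≤ f ⁻¹ᵁ S₀) : IsAffineOpen (chart f c S₀ U) :=
  (bijective_Θ f c hS₀ hU eU rfl (chart_le_base S₀ U) (chart_le_pr S₀ U)).1

theorem bs_inv (g : ULift.{u} (Equiv.Perm (Fin d))) : (SymProd.permActU f d g).hom ≫ bs f d = bs f d := by
  rw [SymProd.permActU_hom]
  exact SymProd.permHom_base f d g.down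

variable [Fintype J] [DecidableEq J]

theorem flat_chart [Flat f] {S₀ : S.Opens} (hS₀ : IsAffineOpen S₀) {U : J → X.Opens} (hU : ∀ j, IsAffineOpen (U j))
    (eU : ∀ j, U j ≤ f ⁻¹ᵁ S₀) {O : (SymProd.fibPow f d).Opens} (hO : O = chart f c S₀ U)
    (s : Stable ((SymProd.permActU f d).comp (yng c).subtype) O) (eb : O ≤ bs f d ⁻¹ᵁ S₀) :
    (TransferFlat.baseHom (ρ := (SymProd.permActU f d).comp (yng c).subtype) (fun h => bs_inv f h.1) s eb).Flat := by
  have ep : ∀ i, O ≤ pr f i ⁻¹ᵁ U (c i) := by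
    subst hO
    exact chart_le_pr S₀ U
  obtain ⟨hOa, hbij⟩ := bijective_Θ f c hS₀ hU eU hO eb ep
  letI := fun j => algOf f S₀ (U j) (eU j)
  letI := algOf (bs f d) S₀ O eb
  have hflat : ∀ j, Module.Flat Γ(S, S₀) Γ(X, U j) := fun j => Scheme.Hom.flat_appLE f hS₀ (hU j) (eU j)
  letI : Algebra Γ(S, S₀) (invSub s) := (TransferFlat.baseHom (ρ := (SymProd.permActU f d).comp (yng c).subtype)
    (fun h => bs_inv f h.1) s eb).toAlgebra
  let N : Submodule Γ(S, S₀) Γ(SymProd.fibPow f d, O) :=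
    { carrier := {t | t ∈ invSub s}
      add_mem' := fun ha hb => (invSub s).add_mem ha hb
      zero_mem' := (invSub s).zero_mem
      smul_mem' := fun a t ht => (invSub s).mul_mem (TransferFlat.baseHom
        (ρ := (SymProd.permActU f d).comp (yng c).subtype) (fun h => bs_inv f h.1) s eb a).2 ht }
  have h1 : Module.Flat Γ(S, S₀) N := ColourRing.flat_invs c (B := fun j => Γ(X, U j))
    (coordO f c eU eb ep) (τ := tau f c s)
    (fun σ a => (mem_invSub_iff_tau f c s _).mp (TransferFlat.baseHom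
        (ρ := (SymProd.permActU f d).comp (yng c).subtype) (fun h => bs_inv f h.1) s eb a).2 σ)
    (isEqv_tau f c s U ep) hbij N (fun t => mem_invSub_iff_tau f c s t)
  let e : N ≃ₗ[Γ(S, S₀)] invSub s :=
    { toFun := fun t => ⟨t.1, t.2⟩
      invFun := fun t => ⟨t.1, t.2⟩
      map_add' := fun _ _ => rfl
      map_smul' := fun _ _ => rfl
      left_inv := fun _ => rfl
      right_inv := fun _ => rfl }
  exact Module.Flat.of_linearEquiv e.symm

/-- Symmetric powers of a flat morphism are flat, on stable affine opens. -/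
theorem flat_baseHom [Flat f] {S₀ : S.Opens} (hS₀ : IsAffineOpen S₀) {O₁ : (SymProd.fibPow f d).Opens}
    (h₁ : IsAffineOpen O₁) (s₁ : Stable (SymProd.permActU f d) O₁) (e₁ : O₁ ≤ bs f d ⁻¹ᵁ S₀) :
    (TransferFlat.baseHom (bs_inv f) s₁ e₁).Flat := by
  apply TransferFlat.flat_baseHom (bs_inv f) h₁ s₁ e₁
  intro x hx
  obtain ⟨c, U, hU, eU, hxc, hstab⟩ := exists_chart f x (e₁ hx)
  exact ⟨yng c, chart f c S₀ U, isAffineOpen_chart f c hS₀ hU eU, stable_chart f c S₀ U, chart_le_base S₀ U, hxc, hstab,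
    flat_chart f c hS₀ hU eU rfl _ _⟩

end K755.SymLocal
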