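import Groth.Agent.ZeroCyc.K755.SymLocal

/-!
# Symmetric powers: change of base and closed subschemes
-/

set_option autoImplicit false

universe u
open CategoryTheory CategoryTheory.Limits AlgebraicGeometry
open scoped TensorProduct

namespace K755.SymRel

open K755.FibChart K755.Transfer K755.Colour K755.SymLocal Groth.Agent.Sga1.QuotBasic Groth.Agent.Sga1.QuotExists

/-- `pre p W' O` is affine if it is so locally. -/
theorem isAffineOpen_pre {X X' : Scheme.{u}} (p : X' ⟶ X) (W' : X'.Opens) {O : X.Opens} (hO : IsAffineOpen O)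
    (h : ∀ x ∈ O, ∃ C : X.Opens, x ∈ C ∧ IsAffineOpen C ∧ IsAffineOpen (pre p W' C)) :
    IsAffineOpen (pre p W' O) := by
  let g : (pre p W' O : X'.Opens).toScheme ⟶ O.toScheme := p.resLE O (pre p W' O) (pre_le p W' O)
  have hg : IsAffineHom g := by
    apply isAffineHom_of_forall_exists_isAffineOpen
    intro x
    obtain ⟨C, hxC, hC, hC'⟩ := h x.1 x.2
    obtain ⟨a, b, hab, hxa⟩ := exists_basicOpen_le_affine_inter hO hC x.1 ⟨x.2, hxC⟩
    have hD : IsAffineOpen (X.basicOpen a) := hO.basicOpen a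
    have hDO : X.basicOpen a ≤ O := X.basicOpen_le a
    have hD' : IsAffineOpen (pre p W' (X.basicOpen a)) := by
      rw [hab, ← basicOpen_pb]
      exact hC'.basicOpen _
    refine ⟨O.ι ⁻¹ᵁ X.basicOpen a, hxa, hD.preimage_of_isOpenImmersion _ (by simpa using hDO), ?_⟩
    have h1 : g ⁻¹ᵁ (O.ι ⁻¹ᵁ X.basicOpen a) = (pre p W' O).ι ⁻¹ᵁ (pre p W' (X.basicOpen a)) := by
      rw [← Scheme.Hom.comp_preimage, Scheme.Hom.resLE_comp_ι, Scheme.Hom.comp_preimage]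
      ext y
      exact ⟨fun hy => ⟨hy, y.2.2⟩, fun hy => hy.1⟩
    rw [h1]
    exact hD'.preimage_of_isOpenImmersion _ (by simpa using pre_mono p W' hDO)
  have : IsAffine O.toScheme := hO
  exact isAffine_of_isAffineHom g

variable {X S Z' S' : Scheme.{u}} (f : X ⟶ S) (f' : Z' ⟶ S') (b : S' ⟶ S) (h : Z' ⟶ X) {d : ℕ}
  (p : SymProd.fibPow f' d ⟶ SymProd.fibPow f d)

/-- The relative situation. -/
structure Rel (S₀ : S.Opens) (S₀' : S'.Opens) : Prop where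
  w : h ≫ f = f' ≫ b
  pr_p : ∀ i, p ≫ pr f i = pr f' i ≫ h
  bs_p : p ≫ bs f d = bs f' d ≫ b
  hS₀ : IsAffineOpen S₀
  hS₀' : IsAffineOpen S₀'
  le : S₀' ≤ b ⁻¹ᵁ S₀
  affine : ∀ U : X.Opens, IsAffineOpen U → U ≤ f ⁻¹ᵁ S₀ → IsAffineOpen (h ⁻¹ᵁ U ⊓ f' ⁻¹ᵁ S₀')
  span : ∀ U : X.Opens, IsAffineOpen U → U ≤ f ⁻¹ᵁ S₀ →
    letI := algOf f' S₀' (h ⁻¹ᵁ U ⊓ f' ⁻¹ᵁ S₀') (fun _ hx => hx.2)
    Submodule.span Γ(S', S₀') (Set.range (h.appLE U (h ⁻¹ᵁ U ⊓ f' ⁻¹ᵁ S₀') (fun _ hx => hx.1)).hom) = ⊤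

variable {f f' b h p} {S₀ : S.Opens} {S₀' : S'.Opens} (R : Rel f f' b h p S₀ S₀')
include R

theorem Rel.equivariant (g : ULift.{u} (Equiv.Perm (Fin d))) :
    (SymProd.permActU f' d g).hom ≫ p = p ≫ (SymProd.permActU f d g).hom := by
  rw [SymProd.permActU_hom, SymProd.permActU_hom]
  apply WidePullback.hom_ext
  · intro i
    rw [Category.assoc, Category.assoc]
    have h1 : p ≫ WidePullback.π (fun _ : Fin d => f) i = WidePullback.π (fun _ : Fin d => f') i ≫ h := R.pr_p i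
    have h2 : p ≫ WidePullback.π (fun _ : Fin d => f) (g.down.symm i) =
      WidePullback.π (fun _ : Fin d => f') (g.down.symm i) ≫ h := R.pr_p _
    rw [SymProd.permHom_π, h1, h2, SymProd.permHom_π_assoc]
  · rw [Category.assoc, Category.assoc]
    have h1 : p ≫ WidePullback.base (fun _ : Fin d => f) = WidePullback.base (fun _ : Fin d => f') ≫ b := R.bs_p
    rw [SymProd.permHom_base, h1, SymProd.permHom_base_assoc]

variable {J : Type} (c : Fin d → J) (U : J → X.Opens)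

theorem Rel.pre_chart :
    pre p (bs f' d ⁻¹ᵁ S₀') (chart f c S₀ U) = chart f' c S₀' (fun j => h ⁻¹ᵁ U j ⊓ f' ⁻¹ᵁ S₀') := by
  have h1 : ∀ (i) (y : SymProd.fibPow f' d), pr f i (p y) = h (pr f' i y) := by
    intro i y
    rw [← Scheme.Hom.comp_apply, R.pr_p i, Scheme.Hom.comp_apply]
  have h2 : ∀ (i) (y : SymProd.fibPow f' d), f' (pr f' i y) = bs f' d y := by
    intro i y
    rw [← Scheme.Hom.comp_apply, pr_comp]
  have h3 : ∀ y : SymProd.fibPow f' d, bs f d (p y) = b (bs f' d y) := by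
    intro y
    rw [← Scheme.Hom.comp_apply, R.bs_p, Scheme.Hom.comp_apply]
  ext y
  constructor
  · rintro ⟨⟨hy1, hy2⟩, hy3⟩
    refine ⟨hy3, fun i => ⟨?_, ?_⟩⟩
    · have := hy2 i
      rw [h1] at this
      exact this
    · change f' (pr f' i y) ∈ S₀'
      rw [h2]
      exact hy3
  · rintro ⟨hy1, hy2⟩
    refine ⟨⟨?_, fun i => ?_⟩, hy1⟩
    · rw [h3]
      exact R.le hy1
    · rw [h1]
      exact (hy2 i).1

theorem Rel.isAffineOpen_pre_chart (hU : ∀ j, IsAffineOpen (U j)) (eU : ∀ j, U j ≤ f ⁻¹ᵁ S₀) :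
    IsAffineOpen (pre p (bs f' d ⁻¹ᵁ S₀') (chart f c S₀ U)) := by
  rw [R.pre_chart c U]
  exact isAffineOpen_chart f' c R.hS₀' (fun j => R.affine _ (hU j) (eU j)) (fun j => fun _ hx => hx.2)

theorem Rel.isAffineOpen_pre {O : (SymProd.fibPow f d).Opens} (hO : IsAffineOpen O) (e : O ≤ bs f d ⁻¹ᵁ S₀) :
    IsAffineOpen (pre p (bs f' d ⁻¹ᵁ S₀') O) := by
  apply SymRel.isAffineOpen_pre p _ hO
  intro x hx
  obtain ⟨c, U, hU, eU, hxc, -⟩ := exists_chart f x (e hx)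
  exact ⟨_, hxc, isAffineOpen_chart f c R.hS₀ hU eU, R.isAffineOpen_pre_chart c U hU eU⟩

omit R in
theorem stable_base (S₀' : S'.Opens) : Stable (SymProd.permActU f' d) (bs f' d ⁻¹ᵁ S₀') :=
  stable_preimage (bs_inv f') S₀'

omit R in
theorem app_mem_invSub (a : Γ(S', S₀')) : ((bs f' d).app S₀').hom a ∈ invSub (stable_base (f' := f') (d := d) S₀') :=
  fun γ => act_app_apply (bs_inv f') S₀' γ a

variable [Fintype J] [DecidableEq J]

/-- The invariants over the preimage of a chart are generated by coefficients and the invariants over the chart. -/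
theorem Rel.mem_gen_chart [Flat f'] (hU : ∀ j, IsAffineOpen (U j)) (eU : ∀ j, U j ≤ f ⁻¹ᵁ S₀)
    (s' : Stable ((SymProd.permActU f' d).comp (yng c).subtype) (pre p (bs f' d ⁻¹ᵁ S₀') (chart f c S₀ U)))
    {z : Γ(SymProd.fibPow f' d, pre p (bs f' d ⁻¹ᵁ S₀') (chart f c S₀ U))} (hz : z ∈ invSub s') :
    z ∈ gen (pb p (bs f' d ⁻¹ᵁ S₀') (chart f c S₀ U))
      (cf p (bs f' d ⁻¹ᵁ S₀') ((bs f' d).app S₀').hom (chart f c S₀ U))
      (invSub (stable_chart f c S₀ U) : Set Γ(SymProd.fibPow f d, chart f c S₀ U)) := by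
  let O' := pre p (bs f' d ⁻¹ᵁ S₀') (chart f c S₀ U)
  have hO' : O' = chart f' c S₀' (fun j => h ⁻¹ᵁ U j ⊓ f' ⁻¹ᵁ S₀') := R.pre_chart c U
  have ep : ∀ i, O' ≤ pr f' i ⁻¹ᵁ (h ⁻¹ᵁ U (c i) ⊓ f' ⁻¹ᵁ S₀') := by
    rw [hO']
    exact chart_le_pr S₀' (fun j => h ⁻¹ᵁ U j ⊓ f' ⁻¹ᵁ S₀')
  have eb : O' ≤ bs f' d ⁻¹ᵁ S₀' := pre_le' p _ _
  have hUa : ∀ j, IsAffineOpen (h ⁻¹ᵁ U j ⊓ f' ⁻¹ᵁ S₀') := fun j => R.affine _ (hU j) (eU j)
  have eU' : ∀ j, h ⁻¹ᵁ U j ⊓ f' ⁻¹ᵁ S₀' ≤ f' ⁻¹ᵁ S₀' := fun j => fun _ hx => hx.2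
  obtain ⟨hOa, hbij⟩ := bijective_Θ f' c R.hS₀' hUa eU' hO' eb ep
  letI := fun j => algOf f' S₀' (h ⁻¹ᵁ U j ⊓ f' ⁻¹ᵁ S₀') (eU' j)
  letI := algOf (bs f' d) S₀' O' eb
  have hflat : ∀ j, Module.Flat Γ(S', S₀') Γ(Z', h ⁻¹ᵁ U j ⊓ f' ⁻¹ᵁ S₀') :=
    fun j => Scheme.Hom.flat_appLE f' R.hS₀' (hUa j) (eU' j)
  have hcoef : ∀ a, algebraMap Γ(S', S₀') Γ(SymProd.fibPow f' d, O') a =
      cf p (bs f' d ⁻¹ᵁ S₀') ((bs f' d).app S₀').hom (chart f c S₀ U) a := by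
    intro a
    change ((bs f' d).appLE S₀' O' eb).hom a = (_ : _ →+* _) (((bs f' d).app S₀').hom a)
    rw [Scheme.Hom.app_eq_appLE, ← CommRingCat.comp_apply, Scheme.Hom.appLE_map]
  refine mem_gen_of_mem_span _ _ (A' := Γ(S', S₀')) hcoef ?_
  have key := ColourRing.mem_span_ring c (B := fun j => Γ(Z', h ⁻¹ᵁ U j ⊓ f' ⁻¹ᵁ S₀')) (coordO f' c eU' eb ep)
    (τ := tau f' c s')
    (fun σ a => (mem_invSub_iff_tau f' c s' _).mp (TransferFlat.baseHom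
        (ρ := (SymProd.permActU f' d).comp (yng c).subtype) (fun h => bs_inv f' h.1) s' eb a).2 σ)
    (isEqv_tau f' c s' _ ep) hbij (B₀ := fun j => Γ(X, U j))
    (fun j => (h.appLE (U j) (h ⁻¹ᵁ U j ⊓ f' ⁻¹ᵁ S₀') (fun _ hx => hx.1)).hom)
    (fun j => R.span _ (hU j) (eU j))
    (T₀ := Γ(SymProd.fibPow f d, chart f c S₀ U))
    (fun i => ((pr f i).appLE (U (c i)) (chart f c S₀ U) (chart_le_pr S₀ U i)).hom)
    (τ₀ := tau f c (stable_chart f c S₀ U))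
    (isEqv_tau f c (stable_chart f c S₀ U) U (chart_le_pr S₀ U))
    (pb p (bs f' d ⁻¹ᵁ S₀') (chart f c S₀ U)) (fun i b => by
      change (p.appLE _ _ _).hom (((pr f i).appLE _ _ _).hom b) = ((pr f' i).appLE _ _ _).hom ((h.appLE _ _ _).hom b)
      rw [← CommRingCat.comp_apply, ← CommRingCat.comp_apply, Scheme.Hom.appLE_comp_appLE,
        Scheme.Hom.appLE_comp_appLE]
      simp only [R.pr_p]) (t := z) ((mem_invSub_iff_tau f' c s' z).mp hz)
  refine Submodule.span_mono ?_ key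
  rintro _ ⟨t₀, ht₀, rfl⟩
  exact ⟨t₀, (mem_invSub_iff_tau f c _ t₀).mpr ht₀, rfl⟩

omit [Fintype J] [DecidableEq J] in
/-- The invariants over the preimage of a stable affine open are generated by coefficients and invariants. -/
theorem Rel.mem_gen [Flat f'] {O : (SymProd.fibPow f d).Opens} (hO : IsAffineOpen O)
    (s : Stable (SymProd.permActU f d) O) (e : O ≤ bs f d ⁻¹ᵁ S₀)
    (s' : Stable (SymProd.permActU f' d) (pre p (bs f' d ⁻¹ᵁ S₀') O))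
    {z : Γ(SymProd.fibPow f' d, pre p (bs f' d ⁻¹ᵁ S₀') O)} (hz : z ∈ invSub s') :
    z ∈ gen (pb p (bs f' d ⁻¹ᵁ S₀') O) (cf p (bs f' d ⁻¹ᵁ S₀') ((bs f' d).app S₀').hom O)
      (invSub s : Set Γ(SymProd.fibPow f d, O)) := by
  apply mem_gen_of_local p _ _ hO s
  intro x hx
  obtain ⟨c, U, hU, eU, hxc, hstab⟩ := exists_chart f x (e hx)
  exact exists_mul_mem_gen p _ ((bs f' d).app S₀').hom R.equivariant (stable_base S₀')
    app_mem_invSub hO (isAffineOpen_chart f c R.hS₀ hU eU) (R.isAffineOpen_pre hO e)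
    (R.isAffineOpen_pre_chart c U hU eU) s (yng c) (stable_chart f c S₀ U) hx hxc hstab
    (fun z' hz' => R.mem_gen_chart c U hU eU _ hz') hz

end K755.SymRel
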