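import Groth.Agent.ZeroCyc.K755.SymComp
import Groth.Agent.ZeroCyc.K755.ResFrac

/-!
# Comparison of symmetric products: residue fields
-/

set_option autoImplicit false

universe u
open CategoryTheory CategoryTheory.Limits AlgebraicGeometry
open scoped TensorProduct

namespace K755.SymRes

open K755.FibChart K755.SymRel K755.PullFib K755.Transfer K755.SymLocal K755.SymComp K755.ResFrac
open Groth.Agent.Sga1.QuotBasic Groth.Agent.Sga1.QuotExists

variable {X S Z' S' Y Y' : Scheme.{u}} {f : X ⟶ S} {f' : Z' ⟶ S'} {b : S' ⟶ S} {h : Z' ⟶ X} {d : ℕ}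
  {p : SymProd.fibPow f' d ⟶ SymProd.fibPow f d}
  {q : SymProd.fibPow f d ⟶ Y} {g : Y ⟶ S} (hq : SymProd.IsSymProd f d q g)
  {r : SymProd.fibPow f' d ⟶ Y'} {g' : Y' ⟶ S'} (hr : SymProd.IsSymProd f' d r g')
  {mY : Y' ⟶ Y} (hm : r ≫ mY = p ≫ q)
  (w : h ≫ f = f' ≫ b) (pr_p : ∀ i, p ≫ pr f i = pr f' i ≫ h) (bs_p : p ≫ bs f d = bs f' d ≫ b)
  (G : ∀ (S₀ : S.Opens) (S₀' : S'.Opens), IsAffineOpen S₀ → IsAffineOpen S₀' → S₀' ≤ b ⁻¹ᵁ S₀ → Gen f f' h S₀ S₀')

theorem mem_of_frac {K A₁ A₃ : Type*} [Field K] [CommRing A₁] [CommRing A₃] (L : Subfield K) (Ψ : A₃ →+* K)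
    (j : A₁ →+* A₃) (χ : A₁ → K) (hχ : ∀ a, Ψ (j a) = χ a) (hL : ∀ a, χ a ∈ L) {a : A₃} {a₁ a₂ : A₁}
    (ha : a * j a₂ = j a₁) (h0 : χ a₂ ≠ 0) : Ψ a ∈ L := by
  have e1 : Ψ a * χ a₂ = χ a₁ := by rw [← hχ, ← hχ, ← map_mul, ha]
  rw [← eq_div_iff h0] at e1
  rw [e1]
  exact div_mem (hL _) (hL _)

include hq hr hm bs_p in
theorem base_point (y' : Y') : g (mY y') = b (g' y') := by
  obtain ⟨z, rfl⟩ := surjective_of_isQuot hr.isQuot y'
  have h1 : r ≫ mY ≫ g = r ≫ g' ≫ b := by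
    rw [← Category.assoc, hm, Category.assoc, hq.over, ← Category.assoc, hr.over]
    exact bs_p
  have h2 := congrArg (fun k : SymProd.fibPow f' d ⟶ S => k z) h1
  simpa using h2

include hq hr hm bs_p in
/-- Charts around a point. -/
theorem exists_opens (y' : Y') : ∃ (S₀ : S.Opens) (S₀' : S'.Opens) (V : Y.Opens), IsAffineOpen S₀ ∧ IsAffineOpen S₀' ∧
    IsAffineOpen V ∧ S₀' ≤ b ⁻¹ᵁ S₀ ∧ V ≤ g ⁻¹ᵁ S₀ ∧ g' y' ∈ S₀' ∧ mY y' ∈ V := by
  obtain ⟨S₀, hS₀, hx⟩ := exists_affine_mem (g (mY y'))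
  obtain ⟨V, hV, hxV, eV⟩ := TopologicalSpace.Opens.isBasis_iff_nbhd.mp Y.isBasis_affineOpens
    (show mY y' ∈ g ⁻¹ᵁ S₀ from hx)
  obtain ⟨S₀', hS₀', hxS', eS'⟩ := TopologicalSpace.Opens.isBasis_iff_nbhd.mp S'.isBasis_affineOpens
    (show g' y' ∈ b ⁻¹ᵁ S₀ by
      change b (g' y') ∈ S₀
      rw [← base_point hq hr hm bs_p]
      exact hx)
  exact ⟨S₀, S₀', V, hS₀, hS₀', hV, eS', eV, hxS', hxV⟩

set_option maxHeartbeats 1000000 in
include hq hr hm w pr_p bs_p G in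
/-- The residue field of a point of `Y'` is generated by those of its images in `Y` and `S'`. -/
theorem subfield_eq_top (y' : Y') (L : Subfield (Y'.residueField y'))
    (hL₁ : ∀ x, (mY.residueFieldMap y').hom x ∈ L) (hL₂ : ∀ x, (g'.residueFieldMap y').hom x ∈ L) : L = ⊤ := by
  obtain ⟨S₀, S₀', V, hS₀, hS₀', hV, eS', eV, hs', hv⟩ := exists_opens hq hr hm bs_p y'
  have G₀ := G S₀ S₀' hS₀ hS₀' eS'
  have R := G₀.rel w pr_p bs_p hS₀ hS₀' eS'
  let W : Y'.Opens := mY ⁻¹ᵁ V ⊓ g' ⁻¹ᵁ S₀'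
  have hWaff : IsAffineOpen W := isAffineOpen_W R hq hr hm hV eV rfl
  have hyW : y' ∈ W := ⟨hv, hs'⟩
  let P : Ideal Γ(S', S₀') := (hS₀'.primeIdealOf ⟨g' y', hs'⟩).asIdeal
  have hP : P.IsPrime := (hS₀'.primeIdealOf ⟨g' y', hs'⟩).isPrime
  let β : Spec (CommRingCat.of P.ResidueField) ⟶ S' :=
    Spec.map (CommRingCat.ofHom (algebraMap Γ(S', S₀') P.ResidueField)) ≫ hS₀'.fromSpec
  let pt : Spec (CommRingCat.of P.ResidueField) := IsLocalRing.closedPoint P.ResidueField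
  have hsub : ∀ x : Spec (CommRingCat.of P.ResidueField), β x = g' y' := by
    intro x
    have h1 : (Spec.map (CommRingCat.ofHom (algebraMap Γ(S', S₀') P.ResidueField))) x =
        hS₀'.primeIdealOf ⟨g' y', hs'⟩ := by
      apply PrimeSpectrum.ext
      change Ideal.comap (algebraMap Γ(S', S₀') P.ResidueField) x.asIdeal = P
      have h2 : x.asIdeal = ⊥ := (Ideal.eq_bot_or_top x.asIdeal).resolve_right x.isPrime.ne_top
      rw [h2, ← RingHom.ker_eq_comap_bot, Ideal.ker_algebraMap_residueField]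
    change (Spec.map _ ≫ hS₀'.fromSpec) x = _
    rw [Scheme.Hom.comp_apply, h1, hS₀'.fromSpec_primeIdealOf]
  have eβ : (⊤ : (Spec (CommRingCat.of P.ResidueField)).Opens) ≤ β ⁻¹ᵁ S₀' := by
    intro x _
    change β x ∈ S₀'
    rw [hsub]
    exact hs'
  let f'' : pullback f' β ⟶ Spec (CommRingCat.of P.ResidueField) := pullback.snd f' β
  let h' : pullback f' β ⟶ Z' := pullback.fst f' β
  have sq : IsPullback h' f'' f' β := IsPullback.of_hasPullback f' β
  let p' : SymProd.fibPow f'' d ⟶ SymProd.fibPow f' d := fmap sq.w d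
  have sqd : IsPullback p' (bs f'' d) (bs f' d) β := isPullback_fibPow sq (fmap_pr sq.w) (fmap_bs sq.w)
  obtain ⟨z, hz⟩ := surjective_of_isQuot hr.isQuot y'
  have hrg : r ≫ g' = bs f' d := hr.over
  obtain ⟨z'', hz'', -⟩ := exists_preimage sqd z pt (by
    rw [hsub, ← hrg, Scheme.Hom.comp_apply, hz])
  have G₁ : Gen f f'' (h' ≫ h) S₀ ⊤ := G₀.comp (gen_of_isPullback sq hS₀' (isAffineOpen_top _) eβ) sq.w eβ
  have R'' : Rel f f'' (β ≫ b) (h' ≫ h) (p' ≫ p) S₀ ⊤ := by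
    refine G₁.rel ?_ (fun i => ?_) ?_ hS₀ (isAffineOpen_top _) ?_
    · rw [Category.assoc, w, ← Category.assoc, sq.w, Category.assoc]
    · rw [Category.assoc, pr_p, ← Category.assoc, fmap_pr, Category.assoc]
    · rw [Category.assoc, bs_p, ← Category.assoc, fmap_bs, Category.assoc]
    · intro x _
      exact eS' (eβ (show x ∈ ⊤ from trivial))
  have hflat : Flat f'' := inferInstance
  let O : (SymProd.fibPow f d).Opens := q ⁻¹ᵁ V
  have hOaff : IsAffineOpen O := by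
    have := hq.isQuot.affine
    exact hV.preimage q
  have sO : Stable (SymProd.permActU f d) O := stable_preimage hq.isQuot.inv V
  let O'' : (SymProd.fibPow f'' d).Opens := pre (p' ≫ p) (bs f'' d ⁻¹ᵁ ⊤) O
  have sO'' : Stable (SymProd.permActU f'' d) O'' :=
    stable_pre (p' ≫ p) _ R''.equivariant (stable_base ⊤) sO
  have hzO : z'' ∈ O'' := by
    refine ⟨?_, trivial⟩
    change q ((p' ≫ p) z'') ∈ V
    rw [Scheme.Hom.comp_apply, hz'', ← Scheme.Hom.comp_apply, ← hm, Scheme.Hom.comp_apply, hz]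
    exact hv
  have heqV : ∀ x : SymProd.fibPow f'' d, mY ((p' ≫ r) x) = q ((p' ≫ p) x) := by
    intro x
    rw [← Scheme.Hom.comp_apply, ← Scheme.Hom.comp_apply, Category.assoc, Category.assoc, hm]
  have heqS : ∀ x : SymProd.fibPow f'' d, g' ((p' ≫ r) x) = β (bs f'' d x) := by
    intro x
    rw [← Scheme.Hom.comp_apply, ← Scheme.Hom.comp_apply, Category.assoc, hrg]
    exact congrArg (fun k : SymProd.fibPow f'' d ⟶ S' => k x) sqd.w
  have eO : O'' ≤ (p' ≫ r) ⁻¹ᵁ W := by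
    intro x hx
    refine ⟨?_, ?_⟩
    · change mY ((p' ≫ r) x) ∈ V
      rw [heqV]
      exact hx.1
    · change g' ((p' ≫ r) x) ∈ S₀'
      rw [heqS]
      exact eβ (show bs f'' d x ∈ ⊤ from trivial)
  obtain ⟨θ, hθ⟩ := exists_residue (p' ≫ r) z'' y' (by rw [Scheme.Hom.comp_apply, hz'', hz])
  let ev := ((SymProd.fibPow f'' d).evaluation O'' z'' hzO).hom
  -- values of pulled back sections
  have key1 : ∀ v : Γ(Y, V), ev (pb (p' ≫ p) (bs f'' d ⁻¹ᵁ ⊤) O ((q.app V).hom v)) ∈ L.map θ := by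
    intro v
    have e1 : pb (p' ≫ p) (bs f'' d ⁻¹ᵁ ⊤) O ((q.app V).hom v) =
        ((p' ≫ r).appLE W O'' eO).hom ((mY.appLE V W (fun _ hx => hx.1)).hom v) := by
      change ((p' ≫ p).appLE O O'' _).hom ((q.app V).hom v) = _
      rw [Scheme.Hom.app_eq_appLE, ← CommRingCat.comp_apply, ← CommRingCat.comp_apply, Scheme.Hom.appLE_comp_appLE,
        Scheme.Hom.appLE_comp_appLE]
      have e2 : (p' ≫ p) ≫ q = (p' ≫ r) ≫ mY := by rw [Category.assoc, Category.assoc, hm]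
      simp only [e2]
    rw [e1]
    have e3 := hθ W hyW O'' hzO eO ((mY.appLE V W (fun _ hx => hx.1)).hom v)
    change ((SymProd.fibPow f'' d).evaluation O'' z'' hzO).hom _ ∈ _
    rw [← e3, ← residueFieldMap_evaluation mY y' V hv W hyW]
    exact ⟨_, hL₁ _, rfl⟩
  have key2 : ∀ a : Γ(S', S₀'), ev (((bs f'' d).appLE ⊤ O'' (pre_le' _ _ O)).hom ((β.appLE S₀' ⊤ eβ).hom a)) =
      θ ((Y'.evaluation W y' hyW).hom ((g'.appLE S₀' W (fun _ hx => hx.2)).hom a)) := by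
    intro a
    rw [hθ W hyW O'' hzO eO]
    congr 1
    rw [← CommRingCat.comp_apply, ← CommRingCat.comp_apply, Scheme.Hom.appLE_comp_appLE,
        Scheme.Hom.appLE_comp_appLE]
    have e2 : bs f'' d ≫ β = (p' ≫ r) ≫ g' := by rw [Category.assoc, hrg]; exact sqd.w.symm
    simp only [e2]
  have key3 : ∀ a : Γ(Spec (CommRingCat.of P.ResidueField), ⊤),
      ev (((bs f'' d).appLE ⊤ O'' (pre_le' _ _ O)).hom a) ∈ L.map θ := by
    intro a
    obtain ⟨a₁, a₂, ha₂, ha⟩ := exists_frac_spec hS₀' P β rfl eβ a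
    have hL' : ∀ a : Γ(S', S₀'), θ ((Y'.evaluation W y' hyW).hom ((g'.appLE S₀' W (fun _ hx => hx.2)).hom a)) ∈
        L.map θ := by
      intro a
      rw [← residueFieldMap_evaluation g' y' S₀' hs' W hyW]
      exact ⟨_, hL₂ _, rfl⟩
    have hne : θ ((Y'.evaluation W y' hyW).hom ((g'.appLE S₀' W (fun _ hx => hx.2)).hom a₂)) ≠ 0 := by
      rw [← residueFieldMap_evaluation g' y' S₀' hs' W hyW, Ne, map_eq_zero, map_eq_zero]
      have h1 : g' y' ∈ S'.basicOpen a₂ := by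
        have h2 : hS₀'.fromSpec (hS₀'.primeIdealOf ⟨g' y', hs'⟩) = g' y' := hS₀'.fromSpec_primeIdealOf _
        have h3 : hS₀'.primeIdealOf ⟨g' y', hs'⟩ ∈ hS₀'.fromSpec ⁻¹ᵁ S'.basicOpen a₂ := by
          rw [hS₀'.fromSpec_preimage_basicOpen]
          exact ha₂
        have h4 : hS₀'.fromSpec (hS₀'.primeIdealOf ⟨g' y', hs'⟩) ∈ S'.basicOpen a₂ := h3
        rwa [h2] at h4
      exact (Scheme.evaluation_ne_zero_iff_mem_basicOpen S' (g' y') hs' a₂).mpr h1
    exact mem_of_frac (L.map θ) (ev.comp ((bs f'' d).appLE ⊤ O'' (pre_le' _ _ O)).hom) (β.appLE S₀' ⊤ eβ).hom _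
      key2 hL' ha hne
  have key : ∀ t : Γ(Y', W), (Y'.evaluation W y' hyW).hom t ∈ L := by
    intro t
    have e1 := hθ W hyW O'' hzO eO t
    have hinv : ((p' ≫ r).appLE W O'' eO).hom t ∈ invSub sO'' := by
      intro γ
      have e2 : ((Iso.hom (SymProd.permActU f'' d γ)) ≫ p' ≫ r) = p' ≫ r := by
        have e3 : (SymProd.permActU f'' d γ).hom ≫ p' = p' ≫ (SymProd.permActU f' d γ).hom := by
          have R₁ : Rel f' f'' β h' p' S₀' ⊤ :=
            (gen_of_isPullback sq hS₀' (isAffineOpen_top _) eβ).rel sq.w (fmap_pr sq.w) (fmap_bs sq.w) hS₀'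
              (isAffineOpen_top _) eβ
          exact R₁.equivariant γ
        rw [← Category.assoc]
        refine (congrArg (fun k => k ≫ r) e3).trans ?_
        rw [Category.assoc]
        exact congrArg (fun k => p' ≫ k) (hr.isQuot.inv γ)
      have e4 : (p' ≫ r).appLE W O'' eO ≫ act (SymProd.permActU f'' d) sO'' γ = (p' ≫ r).appLE W O'' eO := by
        change _ ≫ (Iso.hom (SymProd.permActU f'' d γ)).appLE _ _ _ = _
        rw [Scheme.Hom.appLE_comp_appLE]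
        exact appLE_congr_hom e2 _ _ _
      exact congrArg (fun k => k.hom t) e4
    have e5 := R''.mem_gen hOaff sO (base_le hq eV) sO'' hinv
    have e6 : ev (((p' ≫ r).appLE W O'' eO).hom t) ∈ (L.map θ).toSubring.toAddSubgroup := by
      refine map_gen _ _ ev.toAddMonoidHom _ (fun x hx a => ?_) e5
      obtain ⟨v, rfl⟩ := (quotOn_of_isQuot hq.isQuot V).surj x hx
      rw [cf_app]
      change ev (pb (p' ≫ p) (bs f'' d ⁻¹ᵁ ⊤) O ((q.app V).hom v) *
        ((bs f'' d).appLE ⊤ O'' (pre_le' _ _ O)).hom a) ∈ L.map θ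
      rw [map_mul]
      exact mul_mem (key1 v) (key3 a)
    change ((SymProd.fibPow f'' d).evaluation O'' z'' hzO).hom _ ∈ L.map θ at e6
    rw [← e1] at e6
    obtain ⟨x, hx, hxe⟩ := e6
    have := θ.injective hxe
    rwa [← this]
  rw [eq_top_iff]
  rintro x -
  obtain ⟨t, v, hv0, htv⟩ := exists_frac hWaff y' hyW x
  rw [← eq_div_iff hv0] at htv
  rw [htv]
  exact div_mem (key t) (key v)

end K755.SymRes
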