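import Groth.Agent.ZeroCyc.K755.Trace
import Groth.Agent.Sga1.QuotExists

/-!
# Transfer from a subgroup containing the stabiliser
-/

set_option autoImplicit false

universe u

open CategoryTheory CategoryTheory.Limits AlgebraicGeometry

namespace K755.Transfer

section Alg

/-- The additive group generated by the products of elements of `I` and coefficients. -/
def gen {R R' A' : Type*} [CommRing R] [CommRing R'] [CommRing A'] (π : R →+* R') (α : A' →+* R') (I : Set R) :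
    AddSubgroup R' := AddSubgroup.closure {x | ∃ r ∈ I, ∃ a, x = π r * α a}

variable {R R' A' : Type*} [CommRing R] [CommRing R'] [CommRing A'] (π : R →+* R') (α : A' →+* R')

theorem mul_mem_gen {I : Set R} {r : R} (hr : r ∈ I) (a : A') : π r * α a ∈ gen π α I :=
  AddSubgroup.subset_closure ⟨r, hr, a, rfl⟩

theorem gen_mono {I J : Set R} (h : I ⊆ J) : gen π α I ≤ gen π α J :=
  AddSubgroup.closure_mono (by rintro _ ⟨r, hr, a, rfl⟩; exact ⟨r, h hr, a, rfl⟩)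

/-- Induction principle: an additive map sending generators to `N` sends `gen` to `N`. -/
theorem map_gen {M : Type*} [AddCommGroup M] {I : Set R} (F : R' →+ M) (N : AddSubgroup M)
    (h : ∀ r ∈ I, ∀ a, F (π r * α a) ∈ N) {x : R'} (hx : x ∈ gen π α I) : F x ∈ N := by
  have : gen π α I ≤ N.comap F := by
    rw [gen, AddSubgroup.closure_le]
    rintro _ ⟨r, hr, a, rfl⟩
    exact h r hr a
  exact this hx

theorem smul_mem_gen {I : Set R} {y : R} (hy : ∀ r ∈ I, y * r ∈ I) {x : R'} (hx : x ∈ gen π α I) :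
    π y * x ∈ gen π α I := by
  refine map_gen π α (AddMonoidHom.mulLeft (π y)) _ (fun r hr a => ?_) hx
  change π y * (π r * α a) ∈ _
  rw [← mul_assoc, ← map_mul]
  exact mul_mem_gen π α (hy r hr) a

theorem coeff_mul_mem_gen {I : Set R} (a : A') {x : R'} (hx : x ∈ gen π α I) :
    α a * x ∈ gen π α I := by
  refine map_gen π α (AddMonoidHom.mulLeft (α a)) _ (fun r hr b => ?_) hx
  change α a * (π r * α b) ∈ _
  rw [mul_left_comm, ← map_mul]
  exact mul_mem_gen π α hr _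

/-- The image of `A'`-submodule spans. -/
theorem mem_gen_of_mem_span {I : Set R} [Algebra A' R'] (hα : ∀ a, algebraMap A' R' a = α a) {x : R'}
    (hx : x ∈ Submodule.span A' {x : R' | ∃ r, r ∈ I ∧ x = π r}) : x ∈ gen π α I := by
  induction hx using Submodule.span_induction with
  | mem x hx =>
    obtain ⟨r, hr, rfl⟩ := hx
    have := mul_mem_gen π α hr 1
    rwa [map_one, mul_one] at this
  | zero => exact zero_mem _
  | add x y _ _ hx hy => exact add_mem hx hy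
  | smul a x _ hx =>
    rw [Algebra.smul_def, hα]
    exact coeff_mul_mem_gen π α a hx

/-- The localization step. -/
theorem exists_pow_mul_mem_gen {R₁ R₂ R₃ R₁' R₂' R₃' A' : Type*} [CommRing R₁] [CommRing R₂] [CommRing R₃]
    [CommRing R₁'] [CommRing R₂'] [CommRing R₃'] [CommRing A']
    (j₁ : R₁ →+* R₃) (j₂ : R₂ →+* R₃) (j₁' : R₁' →+* R₃') (j₂' : R₂' →+* R₃')
    (π₁ : R₁ →+* R₁') (π₂ : R₂ →+* R₂') (π₃ : R₃ →+* R₃')
    (α₁ : A' →+* R₁') (α₂ : A' →+* R₂') (α₃ : A' →+* R₃')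
    (c₁ : ∀ r, π₃ (j₁ r) = j₁' (π₁ r)) (c₂ : ∀ r, π₃ (j₂ r) = j₂' (π₂ r))
    (a₁ : ∀ a, j₁' (α₁ a) = α₃ a) (a₂ : ∀ a, j₂' (α₂ a) = α₃ a)
    (I₁ : Subring R₁) (I₂ : Subring R₂) (I₃ : Subring R₃) (i₂ : ∀ r ∈ I₂, j₂ r ∈ I₃)
    {f : R₁} (hf : f ∈ I₁) {g : R₂}
    (ha : ∀ x ∈ I₃, ∃ n : ℕ, ∃ r ∈ I₁, j₁ r = j₁ f ^ n * x)
    (hb : ∃ w ∈ I₃, w * j₂ g = 1)
    {s' : R₁'} (hc : ∃ n : ℕ, ∃ z' ∈ gen π₂ α₂ (I₂ : Set R₂), j₂' z' = j₂' (π₂ g) ^ n * j₁' s')
    (he : ∀ x y : R₁', j₁' x = j₁' y → ∃ n : ℕ, π₁ f ^ n * x = π₁ f ^ n * y) :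
    ∃ n : ℕ, π₁ f ^ n * s' ∈ gen π₁ α₁ (I₁ : Set R₁) := by
  obtain ⟨n, z', hz', hn⟩ := hc
  obtain ⟨w, hw, hwg⟩ := hb
  have h1 : j₂' z' ∈ gen π₃ α₃ (I₃ : Set R₃) := by
    refine map_gen π₂ α₂ j₂'.toAddMonoidHom _ (fun r hr a => ?_) hz'
    change j₂' (π₂ r * α₂ a) ∈ _
    rw [map_mul, ← c₂, a₂]
    exact mul_mem_gen π₃ α₃ (i₂ r hr) a
  have h2 : j₁' s' ∈ gen π₃ α₃ (I₃ : Set R₃) := by
    have h3 : π₃ (w ^ n) * j₂' z' ∈ gen π₃ α₃ (I₃ : Set R₃) :=
      smul_mem_gen π₃ α₃ (fun r hr => I₃.mul_mem (I₃.pow_mem hw n) hr) h1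
    rw [hn, ← mul_assoc, map_pow, ← mul_pow, ← c₂, ← map_mul, hwg, map_one, one_pow, one_mul] at h3
    exact h3
  have key : ∀ y ∈ gen π₃ α₃ (I₃ : Set R₃), ∃ n : ℕ, ∃ y₁ ∈ gen π₁ α₁ (I₁ : Set R₁),
      j₁' y₁ = j₁' (π₁ f) ^ n * y := by
    intro y hy
    induction hy using AddSubgroup.closure_induction with
    | mem x hx =>
      obtain ⟨r, hr, a, rfl⟩ := hx
      obtain ⟨n, r₁, hr₁, h⟩ := ha r hr
      refine ⟨n, π₁ r₁ * α₁ a, mul_mem_gen π₁ α₁ hr₁ a, ?_⟩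
      rw [map_mul, ← c₁, h, a₁, map_mul, map_pow, c₁, mul_assoc]
    | zero => exact ⟨0, 0, zero_mem _, by simp⟩
    | add x y _ _ hx hy =>
      obtain ⟨n, x₁, hx₁, hx⟩ := hx
      obtain ⟨m, y₁, hy₁, hy⟩ := hy
      refine ⟨n + m, π₁ (f ^ m) * x₁ + π₁ (f ^ n) * y₁, add_mem
        (smul_mem_gen π₁ α₁ (fun r hr => I₁.mul_mem (I₁.pow_mem hf m) hr) hx₁)
        (smul_mem_gen π₁ α₁ (fun r hr => I₁.mul_mem (I₁.pow_mem hf n) hr) hy₁), ?_⟩
      simp only [map_add, map_mul, map_pow, hx, hy]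
      ring
    | neg x _ hx =>
      obtain ⟨n, x₁, hx₁, hx⟩ := hx
      exact ⟨n, -x₁, neg_mem hx₁, by rw [map_neg, hx, mul_neg]⟩
  obtain ⟨m, y₁, hy₁, hy⟩ := key _ h2
  obtain ⟨k, hk⟩ := he y₁ (π₁ f ^ m * s') (by rw [hy, map_mul, map_pow])
  refine ⟨k + m, ?_⟩
  rw [pow_add, mul_assoc, ← hk, ← map_pow]
  exact smul_mem_gen π₁ α₁ (fun r hr => I₁.mul_mem (I₁.pow_mem hf k) hr) hy₁

open Classical in
/-- The trace step. -/
theorem tr_mul_mem_gen {G : Type*} [Group G] [Finite G] (H : Subgroup G)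
    (φ : G →* AddMonoid.End R) (φ' : G →* AddMonoid.End R')
    (hmul' : ∀ g x y, φ' g (x * y) = φ' g x * φ' g y) (hπ : ∀ g r, π (φ g r) = φ' g (π r))
    (hα : ∀ g a, φ' g (α a) = α a) {e : R} {s' : R'} (hs' : ∀ g, φ' g s' = s')
    (h : π e * s' ∈ gen π α {r | ∀ h ∈ H, φ h r = r}) :
    letI := Fintype.ofFinite (G ⧸ H)
    π (Trace.tr φ H e) * s' ∈ gen π α {r | ∀ g, φ g r = r} := by
  letI := Fintype.ofFinite (G ⧸ H)
  have h1 : π (Trace.tr φ H e) * s' = Trace.tr φ' H (π e * s') := by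
    have h2 : π (Trace.tr φ H e) = Trace.tr φ' H (π e) := Trace.map_tr φ H φ' π.toAddMonoidHom hπ e
    rw [h2, Trace.tr_apply, Trace.tr_apply, Finset.sum_mul]
    refine Finset.sum_congr rfl fun c _ => ?_
    rw [hmul', hs']
  rw [h1]
  refine map_gen π α (Trace.tr φ' H) _ (fun r hr a => ?_) h
  have h3 : Trace.tr φ' H (π r * α a) = π (Trace.tr φ H r) * α a := by
    have h2 : π (Trace.tr φ H r) = Trace.tr φ' H (π r) := Trace.map_tr φ H φ' π.toAddMonoidHom hπ r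
    rw [h2, Trace.tr_apply, Trace.tr_apply, Finset.sum_mul]
    refine Finset.sum_congr rfl fun c _ => ?_
    rw [hmul', hα]
  rw [h3]
  exact mul_mem_gen π α (show Trace.tr φ H r ∈ {r | ∀ g, φ g r = r} from fun g => Trace.apply_tr φ H hr g) a

end Alg

section Sch

open Groth.Agent.Sga1.QuotBasic Groth.Agent.Sga1.QuotExists Groth.Agent.Sga1.StableAffine

variable {X : Scheme.{u}} {G : Type u} [Group G] {ρ : G →* Aut X}

/-- Invariant sections over an invariant basic open extend after multiplication with a power. -/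
theorem exists_inv_lift [Finite G] {O D : X.Opens} (hO : IsAffineOpen O) (s : Stable ρ O) (sD : Stable ρ D)
    (g : Γ(X, O)) (hg : g ∈ invSub s) (hD : D = X.basicOpen g) (hle : D ≤ O) (y : Γ(X, D)) (hy : y ∈ invSub sD) :
    ∃ n : ℕ, ∃ a ∈ invSub s, (X.presheaf.map (homOfLE hle).op).hom a =
      (X.presheaf.map (homOfLE hle).op).hom g ^ n * y := by
  subst hD
  letI := (resInv s sD (X.basicOpen_le _)).toAlgebra
  have := isLocalization_invSub s hO ⟨g, hg⟩ sD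
  obtain ⟨n, a, ha⟩ := IsLocalization.Away.surj (⟨g, hg⟩ : invSub s) (⟨y, hy⟩ : invSub sD)
  refine ⟨n, a.1, a.2, ?_⟩
  have h1 := congrArg Subtype.val ha
  rw [mul_comm]
  exact h1.symm

theorem res_mem_invSub {O D : X.Opens} (s : Stable ρ O) (sD : Stable ρ D) (hle : D ≤ O) {a : Γ(X, O)}
    (ha : a ∈ invSub s) : (X.presheaf.map (homOfLE hle).op).hom a ∈ invSub sD :=
  (resInv s sD hle ⟨a, ha⟩).2

/-- Two stable affine opens containing `x` have a common invariant basic open neighbourhood of `x`. -/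
theorem exists_common [Finite G] {O₁ O₂ : X.Opens} (h₁ : IsAffineOpen O₁) (h₂ : IsAffineOpen O₂)
    (s₁ : Stable ρ O₁) (s₂ : Stable ρ O₂) {x : X} (x₁ : x ∈ O₁) (x₂ : x ∈ O₂) :
    ∃ f ∈ invSub s₁, ∃ g ∈ invSub s₂, X.basicOpen f = X.basicOpen g ∧ x ∈ X.basicOpen f := by
  obtain ⟨g₁, hg₁, hxg₁, hle₁⟩ := exists_invariant_basicOpen h₂ s₂ s₁ x₂ x₁
  have sg : Stable ρ (X.basicOpen g₁) := stable_basicOpen ρ s₂ g₁ hg₁
  obtain ⟨f, hf, hxf, hlef⟩ := exists_invariant_basicOpen h₁ s₁ sg x₁ hxg₁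
  obtain ⟨n, a, ha, hna⟩ := exists_inv_lift h₂ s₂ sg g₁ hg₁ rfl (X.basicOpen_le g₁)
    ((X.presheaf.map (homOfLE hle₁).op).hom f) (res_mem_invSub s₁ sg hle₁ hf)
  refine ⟨f, hf, g₁ * a, (invSub s₂).mul_mem hg₁ ha, ?_, hxf⟩
  have h3 : X.basicOpen ((X.presheaf.map (homOfLE (X.basicOpen_le g₁)).op).hom a) =
      X.basicOpen g₁ ⊓ X.basicOpen a := Scheme.basicOpen_res _ _ _
  have h4 : X.basicOpen ((X.presheaf.map (homOfLE hle₁).op).hom f) = X.basicOpen g₁ ⊓ X.basicOpen f :=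
    Scheme.basicOpen_res _ _ _
  have h5 : IsUnit ((X.presheaf.map (homOfLE (X.basicOpen_le g₁)).op).hom g₁) :=
    RingedSpace.isUnit_res_basicOpen _ _
  rw [hna, Scheme.basicOpen_mul, h4, Scheme.basicOpen_of_isUnit _ (h5.pow n), ← inf_assoc, inf_idem] at h3
  rw [Scheme.basicOpen_mul, ← h3]
  exact (inf_eq_right.mpr hlef).symm

/-- No point of an orbit specialises to another one. -/
theorem eq_of_specializes [Finite G] {x : X} {g : G} (h : (ρ g).hom x ⤳ x) : (ρ g).hom x = x := by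
  have h1 : ∀ n : ℕ, (ρ (g ^ n)).hom x ⤳ x := by
    intro n
    induction n with
    | zero => rw [pow_zero, one_apply]
    | succ n ih =>
      rw [pow_succ', mul_apply]
      exact (ih.map (ρ g).hom.continuous).trans h
  obtain ⟨n, hn, hgn⟩ := (isOfFinOrder_of_finite g).exists_pow_eq_one
  obtain ⟨m, rfl⟩ : ∃ m, n = m + 1 := ⟨n - 1, by omega⟩
  have h2 := (h1 m).map (ρ g).hom.continuous
  rw [← mul_apply, ← pow_succ', hgn, one_apply] at h2
  exact (h.antisymm h2).eq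

theorem stable_comp {O : X.Opens} (s : Stable ρ O) (H : Subgroup G) : Stable (ρ.comp H.subtype) O :=
  fun h => s h.1

/-- If `H` contains the stabiliser of `x`, there is an `H`-invariant function separating `x` from the rest of the orbit. -/
theorem exists_sep [Finite G] {O : X.Opens} (hO : IsAffineOpen O) (H : Subgroup G) (s : Stable (ρ.comp H.subtype) O)
    {x : X} (hx : x ∈ O) (hstab : ∀ g, (ρ g).hom x = x → g ∈ H) :
    ∃ e ∈ invSub s, x ∈ X.basicOpen e ∧ ∀ g ∉ H, (ρ g).hom x ∉ X.basicOpen e := by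
  let Z : Set X := {z | ∃ g ∉ H, (ρ g).hom x = z}
  let W : X.Opens := ⟨(closure Z)ᶜ, isClosed_closure.isOpen_compl⟩
  have hZfin : Z.Finite := by
    refine (Set.finite_range (fun g : G => (ρ g).hom x)).subset ?_
    rintro _ ⟨g, -, rfl⟩
    exact ⟨g, rfl⟩
  have sW : Stable (ρ.comp H.subtype) W := by
    rintro ⟨h, hh⟩ z hz hz'
    apply hz
    have h1 : (ρ h⁻¹).hom ((ρ h).hom z) ∈ (ρ h⁻¹).hom '' closure Z := ⟨_, hz', rfl⟩
    rw [inv_apply_apply] at h1
    refine closure_mono ?_ (image_closure_subset_closure_image (ρ h⁻¹).hom.continuous h1)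
    rintro _ ⟨_, ⟨g, hg, rfl⟩, rfl⟩
    refine ⟨h⁻¹ * g, fun hc => hg ?_, (mul_apply ρ h⁻¹ g x)⟩
    have := H.mul_mem hh hc
    rwa [mul_inv_cancel_left] at this
  have hxW : x ∈ W := by
    intro hx'
    rw [← Set.biUnion_of_singleton Z, hZfin.closure_biUnion] at hx'
    simp only [Set.mem_iUnion] at hx'
    obtain ⟨z, ⟨g, hg, rfl⟩, hz⟩ := hx'
    exact hg (hstab g (eq_of_specializes (specializes_iff_mem_closure.mpr hz)))
  obtain ⟨e, he, hxe, hle⟩ := exists_invariant_basicOpen hO s sW hx hxW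
  refine ⟨e, he, hxe, fun g hg hge => hle hge (subset_closure ⟨g, hg, rfl⟩)⟩

/-- The left action of `G` on the sections over a stable open, as additive endomorphisms. -/
noncomputable def lact {O : X.Opens} (s : Stable ρ O) : G →* AddMonoid.End Γ(X, O) where
  toFun g := (act ρ s g⁻¹).hom.toAddMonoidHom
  map_one' := by
    ext a
    change (act ρ s 1⁻¹).hom a = a
    rw [inv_one, act_one_apply]
  map_mul' g h := by
    ext a
    change (act ρ s (g * h)⁻¹).hom a = (act ρ s g⁻¹).hom ((act ρ s h⁻¹).hom a)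
    rw [mul_inv_rev, act_mul_apply]

theorem lact_apply {O : X.Opens} (s : Stable ρ O) (g : G) (a : Γ(X, O)) : lact s g a = (act ρ s g⁻¹).hom a := rfl

theorem lact_mul {O : X.Opens} (s : Stable ρ O) (g : G) (a b : Γ(X, O)) :
    lact s g (a * b) = lact s g a * lact s g b := map_mul (act ρ s g⁻¹).hom a b

theorem mem_invSub_iff {O : X.Opens} (s : Stable ρ O) (a : Γ(X, O)) : a ∈ invSub s ↔ ∀ g, lact s g a = a :=
  ⟨fun h g => h g⁻¹, fun h g => by have := h g⁻¹; rwa [lact_apply, inv_inv] at this⟩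

theorem mem_invSub_comp_iff {O : X.Opens} (s : Stable ρ O) (H : Subgroup G) (a : Γ(X, O)) :
    a ∈ invSub (stable_comp s H) ↔ ∀ h ∈ H, lact s h a = a :=
  ⟨fun h g hg => h ⟨g⁻¹, H.inv_mem hg⟩, fun h g => by have := h g.1⁻¹ (H.inv_mem g.2); rwa [lact_apply, inv_inv] at this⟩

theorem mem_basicOpen_tr [Finite G] {O : X.Opens} (s : Stable ρ O) (H : Subgroup G) {x : X} (hx : x ∈ O) {e : Γ(X, O)}
    (he : e ∈ invSub (stable_comp s H)) (hxe : x ∈ X.basicOpen e) (hg : ∀ g ∉ H, (ρ g).hom x ∉ X.basicOpen e) :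
    letI := Fintype.ofFinite (G ⧸ H)
    x ∈ X.basicOpen (Trace.tr (lact s) H e) := by
  classical
  letI := Fintype.ofFinite (G ⧸ H)
  have he' := (mem_invSub_comp_iff s H e).mp he
  rw [Scheme.mem_basicOpen _ _ _ hx] at hxe ⊢
  rw [Trace.tr_eq_sum, Trace.out_apply (lact s) H he', map_one, map_add, map_sum]
  change IsUnit (X.presheaf.germ O x hx e + _)
  have h1 : ∑ c ∈ Finset.univ.erase (QuotientGroup.mk 1 : G ⧸ H), (X.presheaf.germ O x hx).hom (lact s c.out e) ∈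
      IsLocalRing.maximalIdeal (X.presheaf.stalk x) := by
    refine Ideal.sum_mem _ fun c hc => ?_
    rw [IsLocalRing.mem_maximalIdeal, mem_nonunits_iff]
    intro hu
    have h2 : x ∈ X.basicOpen ((act ρ s c.out⁻¹).hom e) := by
      rw [Scheme.mem_basicOpen _ _ _ hx]
      exact hu
    rw [basicOpen_act] at h2
    exact hg _ (fun h => Trace.out_notMem H (Finset.ne_of_mem_erase hc) (by simpa using H.inv_mem h)) h2
  by_contra hnu
  rw [← mem_nonunits_iff, ← IsLocalRing.mem_maximalIdeal] at hnu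
  have h3 := Ideal.sub_mem _ hnu h1
  rw [add_sub_cancel_right, IsLocalRing.mem_maximalIdeal, mem_nonunits_iff] at h3
  exact h3 hxe

end Sch

section Map

open Groth.Agent.Sga1.QuotBasic Groth.Agent.Sga1.QuotExists Groth.Agent.Sga1.StableAffine

variable {X X' : Scheme.{u}} {G : Type u} [Group G] {ρ : G →* Aut X} {ρ' : G →* Aut X'} (p : X' ⟶ X)
  (W' : X'.Opens)

/-- The preimage of an open, cut down to `W'`. -/
def pre (O : X.Opens) : X'.Opens := p ⁻¹ᵁ O ⊓ W'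

theorem pre_le (O : X.Opens) : pre p W' O ≤ p ⁻¹ᵁ O := fun _ hx => hx.1

theorem pre_le' (O : X.Opens) : pre p W' O ≤ W' := fun _ hx => hx.2

theorem stable_pre (hp : ∀ g, (ρ' g).hom ≫ p = p ≫ (ρ g).hom) (sW : Stable ρ' W') {O : X.Opens} (s : Stable ρ O) :
    Stable ρ' (pre p W' O) := by
  refine Stable.inf (fun g => ?_) sW
  rw [← Scheme.Hom.comp_preimage, hp g, Scheme.Hom.comp_preimage]
  intro x hx
  exact s g hx

/-- Pull back of sections. -/
noncomputable def pb (O : X.Opens) : Γ(X, O) →+* Γ(X', pre p W' O) := (p.appLE O (pre p W' O) (pre_le p W' O)).hom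

/-- The coefficients. -/
noncomputable def cf {A' : Type u} [CommRing A'] (α : A' →+* Γ(X', W')) (O : X.Opens) : A' →+* Γ(X', pre p W' O) :=
  (X'.presheaf.map (homOfLE (pre_le' p W' O)).op).hom.comp α

theorem pre_mono {O D : X.Opens} (h : D ≤ O) : pre p W' D ≤ pre p W' O := fun _ hx => ⟨h hx.1, hx.2⟩

theorem pb_res {O D : X.Opens} (h : D ≤ O) (r : Γ(X, O)) :
    pb p W' D ((X.presheaf.map (homOfLE h).op).hom r) =
      (X'.presheaf.map (homOfLE (pre_mono p W' h)).op).hom (pb p W' O r) := by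
  have : X.presheaf.map (homOfLE h).op ≫ p.appLE D (pre p W' D) (pre_le p W' D) =
      p.appLE O (pre p W' O) (pre_le p W' O) ≫ X'.presheaf.map (homOfLE (pre_mono p W' h)).op := by
    rw [Scheme.Hom.map_appLE, Scheme.Hom.appLE_map]
  exact congrArg (fun k => k.hom r) this

theorem cf_res {A' : Type u} [CommRing A'] (α : A' →+* Γ(X', W')) {O D : X.Opens} (h : D ≤ O) (a : A') :
    (X'.presheaf.map (homOfLE (pre_mono p W' h)).op).hom (cf p W' α O a) = cf p W' α D a := by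
  change (X'.presheaf.map _).hom ((X'.presheaf.map _).hom (α a)) = (X'.presheaf.map _).hom (α a)
  rw [← CommRingCat.comp_apply, ← Functor.map_comp]
  rfl

theorem pb_act (hp : ∀ g, (ρ' g).hom ≫ p = p ≫ (ρ g).hom) (sW : Stable ρ' W') {O : X.Opens} (s : Stable ρ O) (g : G)
    (r : Γ(X, O)) :
    pb p W' O ((act ρ s g).hom r) = (act ρ' (stable_pre p W' hp sW s) g).hom (pb p W' O r) := by
  have : act ρ s g ≫ p.appLE O (pre p W' O) (pre_le p W' O) =
      p.appLE O (pre p W' O) (pre_le p W' O) ≫ act ρ' (stable_pre p W' hp sW s) g := by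
    change (Iso.hom (ρ g)).appLE O O _ ≫ _ = _ ≫ (Iso.hom (ρ' g)).appLE _ _ _
    rw [Scheme.Hom.appLE_comp_appLE, Scheme.Hom.appLE_comp_appLE]
    exact appLE_congr_hom (hp g).symm _ _ _
  exact congrArg (fun k => k.hom r) this

theorem pb_mem_invSub (hp : ∀ g, (ρ' g).hom ≫ p = p ≫ (ρ g).hom) (sW : Stable ρ' W') {O : X.Opens} (s : Stable ρ O)
    {r : Γ(X, O)} (hr : r ∈ invSub s) : pb p W' O r ∈ invSub (stable_pre p W' hp sW s) := by
  intro g
  rw [← pb_act p W' hp sW s, hr g]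

theorem cf_mem_invSub {A' : Type u} [CommRing A'] (α : A' →+* Γ(X', W'))
    (hp : ∀ g, (ρ' g).hom ≫ p = p ≫ (ρ g).hom) (sW : Stable ρ' W') (hα : ∀ a, α a ∈ invSub sW) {O : X.Opens}
    (s : Stable ρ O) (a : A') : cf p W' α O a ∈ invSub (stable_pre p W' hp sW s) :=
  res_mem_invSub sW (stable_pre p W' hp sW s) (pre_le' p W' O) (hα a)

theorem basicOpen_pb {O : X.Opens} (f : Γ(X, O)) :
    X'.basicOpen (pb p W' O f) = pre p W' (X.basicOpen f) := by
  have : X'.basicOpen (pb p W' O f) = pre p W' O ⊓ p ⁻¹ᵁ X.basicOpen f := Scheme.basicOpen_appLE _ _ _ _ _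
  rw [this]
  apply le_antisymm
  · rintro x ⟨⟨h1, h2⟩, h3⟩
    exact ⟨h3, h2⟩
  · rintro x ⟨h1, h2⟩
    exact ⟨⟨X.basicOpen_le f h1, h2⟩, h1⟩

/-- The transfer theorem: if the invariants of `H ⊇ Stab(x)` on a neighbourhood `O₂` are generated by coefficients and
invariants of the base, then so are, near `x`, the invariants of `G` on `O₁`. -/
theorem exists_mul_mem_gen [Finite G] {A' : Type u} [CommRing A'] (α : A' →+* Γ(X', W'))
    (hp : ∀ g, (ρ' g).hom ≫ p = p ≫ (ρ g).hom) (sW : Stable ρ' W') (hα : ∀ a, α a ∈ invSub sW)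
    {O₁ O₂ : X.Opens} (h₁ : IsAffineOpen O₁) (h₂ : IsAffineOpen O₂) (h₁' : IsAffineOpen (pre p W' O₁))
    (h₂' : IsAffineOpen (pre p W' O₂)) (s₁ : Stable ρ O₁) (H : Subgroup G) (s₂ : Stable (ρ.comp H.subtype) O₂)
    {x : X} (x₁ : x ∈ O₁) (x₂ : x ∈ O₂) (hstab : ∀ g, (ρ g).hom x = x → g ∈ H)
    (hgen : ∀ z' ∈ invSub (stable_pre p W' (ρ := ρ.comp H.subtype) (ρ' := ρ'.comp H.subtype) (fun h => hp h.1)
      (stable_comp sW H) s₂), z' ∈ gen (pb p W' O₂) (cf p W' α O₂) (invSub s₂ : Set Γ(X, O₂)))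
    {s' : Γ(X', pre p W' O₁)} (hs' : s' ∈ invSub (stable_pre p W' hp sW s₁)) :
    ∃ u ∈ invSub s₁, x ∈ X.basicOpen u ∧
      pb p W' O₁ u * s' ∈ gen (pb p W' O₁) (cf p W' α O₁) (invSub s₁ : Set Γ(X, O₁)) := by
  classical
  obtain ⟨f, hf, g, hg, hfg, hxf⟩ := exists_common h₁ h₂ (stable_comp s₁ H) s₂ x₁ x₂
  let D := X.basicOpen f
  have hD₁ : D ≤ O₁ := X.basicOpen_le f
  have hD₂ : D ≤ O₂ := by
    change X.basicOpen f ≤ O₂
    rw [hfg]
    exact X.basicOpen_le g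
  have sD : Stable (ρ.comp H.subtype) D := stable_basicOpen _ (stable_comp s₁ H) f hf
  have hpH : ∀ h : H, ((ρ'.comp H.subtype) h).hom ≫ p = p ≫ ((ρ.comp H.subtype) h).hom := fun h => hp h.1
  have sWH : Stable (ρ'.comp H.subtype) W' := stable_comp sW H
  have sD' : Stable (ρ'.comp H.subtype) (pre p W' D) := stable_pre p W' hpH sWH sD
  have hD₁' : pre p W' D = X'.basicOpen (pb p W' O₁ f) := (basicOpen_pb p W' f).symm
  have hD₂' : pre p W' D = X'.basicOpen (pb p W' O₂ g) := by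
    rw [basicOpen_pb, ← hfg]
  have key : ∃ n : ℕ, pb p W' O₁ f ^ n * s' ∈
      gen (pb p W' O₁) (cf p W' α O₁) (invSub (stable_comp s₁ H) : Set Γ(X, O₁)) := by
    refine exists_pow_mul_mem_gen (X.presheaf.map (homOfLE hD₁).op).hom (X.presheaf.map (homOfLE hD₂).op).hom
      (X'.presheaf.map (homOfLE (pre_mono p W' hD₁)).op).hom (X'.presheaf.map (homOfLE (pre_mono p W' hD₂)).op).hom
      (pb p W' O₁) (pb p W' O₂) (pb p W' D) (cf p W' α O₁) (cf p W' α O₂) (cf p W' α D)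
      (pb_res p W' hD₁) (pb_res p W' hD₂) (cf_res p W' α hD₁) (cf_res p W' α hD₂)
      (invSub (stable_comp s₁ H)) (invSub s₂) (invSub sD) (fun r hr => res_mem_invSub s₂ sD hD₂ hr)
      (f := f) hf (g := g) ?_ ?_ ?_ ?_
    · intro x hx
      exact exists_inv_lift h₁ (stable_comp s₁ H) sD f hf rfl hD₁ x hx
    · have hu : IsUnit ((X.presheaf.map (homOfLE hD₂).op).hom g) := by
        have h1 : IsUnit ((X.presheaf.map (homOfLE (X.basicOpen_le g)).op).hom g) :=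
          RingedSpace.isUnit_res_basicOpen _ _
        have h2 : (X.presheaf.map (homOfLE hD₂).op).hom g = (X.presheaf.map (homOfLE (le_of_eq hfg)).op).hom
            ((X.presheaf.map (homOfLE (X.basicOpen_le g)).op).hom g) := by
          rw [← CommRingCat.comp_apply, ← Functor.map_comp]
          rfl
        rw [h2]
        exact h1.map _
      have hu' : IsUnit (⟨(X.presheaf.map (homOfLE hD₂).op).hom g, res_mem_invSub s₂ sD hD₂ hg⟩ : invSub sD) :=
        isUnit_invSub sD _ hu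
      obtain ⟨w, hw⟩ := hu'.exists_left_inv
      exact ⟨w.1, w.2, congrArg Subtype.val hw⟩
    · obtain ⟨n, z', hz', hn⟩ := exists_inv_lift h₂' (stable_pre p W' hpH sWH s₂) sD' (pb p W' O₂ g)
        (pb_mem_invSub p W' hpH sWH s₂ hg) hD₂' (pre_mono p W' hD₂)
        ((X'.presheaf.map (homOfLE (pre_mono p W' hD₁)).op).hom s')
        (res_mem_invSub (stable_pre p W' hpH sWH (stable_comp s₁ H)) sD' _ (fun h => hs' h.1))
      exact ⟨n, z', hgen z' hz', hn⟩
    · intro x y hxy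
      letI := (X'.presheaf.map (homOfLE (pre_mono p W' hD₁)).op).hom.toAlgebra
      have := h₁'.isLocalization_of_eq_basicOpen (pb p W' O₁ f) (homOfLE (pre_mono p W' hD₁)) hD₁'
      exact IsLocalization.Away.exists_of_eq (S := Γ(X', pre p W' D)) (pb p W' O₁ f) hxy
  obtain ⟨n, hn⟩ := key
  obtain ⟨e₀, he₀, hxe₀, hsep⟩ := exists_sep h₁ H (stable_comp s₁ H) x₁ hstab
  have he : e₀ * f ^ n ∈ invSub (stable_comp s₁ H) := Subring.mul_mem _ he₀ (Subring.pow_mem _ hf n)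
  have hxe : x ∈ X.basicOpen (e₀ * f ^ n) := by
    rw [Scheme.mem_basicOpen _ _ _ x₁] at hxe₀ hxf ⊢
    rw [map_mul, map_pow]
    exact hxe₀.mul (hxf.pow n)
  have hge : ∀ γ ∉ H, (ρ γ).hom x ∉ X.basicOpen (e₀ * f ^ n) := by
    intro γ hγ hc
    rw [Scheme.basicOpen_mul] at hc
    exact hsep γ hγ hc.1
  letI := Fintype.ofFinite (G ⧸ H)
  refine ⟨Trace.tr (lact s₁) H (e₀ * f ^ n), ?_, mem_basicOpen_tr s₁ H x₁ he hxe hge, ?_⟩
  · rw [mem_invSub_iff]
    exact fun γ => Trace.apply_tr (lact s₁) H ((mem_invSub_comp_iff s₁ H _).mp he) γ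
  · have h5 := tr_mul_mem_gen (pb p W' O₁) (cf p W' α O₁) H (lact s₁) (lact (stable_pre p W' hp sW s₁))
      (lact_mul (stable_pre p W' hp sW s₁)) (fun γ r => pb_act p W' hp sW s₁ γ⁻¹ r)
      (fun γ a => (mem_invSub_iff _ _).mp (cf_mem_invSub p W' α hp sW hα s₁ a) γ)
      (e := e₀ * f ^ n) (s' := s') ((mem_invSub_iff _ _).mp hs') (by
        rw [map_mul, mul_assoc, map_pow]
        refine gen_mono _ _ (fun r hr => (mem_invSub_comp_iff s₁ H r).mp hr)
          (smul_mem_gen _ _ (fun r hr => Subring.mul_mem _ he₀ hr) hn))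
    exact gen_mono _ _ (fun r hr => (mem_invSub_iff s₁ r).mpr hr) h5

/-- Local to global. -/
theorem mem_gen_of_local [Finite G] {A' : Type u} [CommRing A'] (α : A' →+* Γ(X', W'))
    {O₁ : X.Opens} (h₁ : IsAffineOpen O₁) (s₁ : Stable ρ O₁) {s' : Γ(X', pre p W' O₁)}
    (h : ∀ x ∈ O₁, ∃ u ∈ invSub s₁, x ∈ X.basicOpen u ∧
      pb p W' O₁ u * s' ∈ gen (pb p W' O₁) (cf p W' α O₁) (invSub s₁ : Set Γ(X, O₁))) :
    s' ∈ gen (pb p W' O₁) (cf p W' α O₁) (invSub s₁ : Set Γ(X, O₁)) := by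
  let 𝔞 : Ideal (invSub s₁) :=
    { carrier := {u | pb p W' O₁ u.1 * s' ∈ gen (pb p W' O₁) (cf p W' α O₁) (invSub s₁ : Set Γ(X, O₁))}
      add_mem' := fun {a b} ha hb => by
        change pb p W' O₁ (a.1 + b.1) * s' ∈ gen (pb p W' O₁) (cf p W' α O₁) (invSub s₁ : Set Γ(X, O₁))
        rw [map_add, add_mul]
        exact add_mem ha hb
      zero_mem' := by
        change pb p W' O₁ 0 * s' ∈ gen (pb p W' O₁) (cf p W' α O₁) (invSub s₁ : Set Γ(X, O₁))
        rw [map_zero, zero_mul]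
        exact zero_mem _
      smul_mem' := fun a b hb => by
        change pb p W' O₁ (a.1 * b.1) * s' ∈ gen (pb p W' O₁) (cf p W' α O₁) (invSub s₁ : Set Γ(X, O₁))
        rw [map_mul, mul_assoc]
        exact smul_mem_gen _ _ (fun r hr => Subring.mul_mem _ a.2 hr) hb }
  have h1 : 𝔞 = ⊤ := by
    by_contra hne
    obtain ⟨P₀, hP₀, hle⟩ := Ideal.exists_le_maximal 𝔞 hne
    obtain ⟨Q, hQ⟩ := (isIntegral_invSub s₁).comap_surjective Subtype.val_injective ⟨P₀, hP₀.isPrime⟩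
    have hx : h₁.fromSpec Q ∈ O₁ := by
      have := h₁.range_fromSpec
      exact this.le ⟨Q, rfl⟩
    obtain ⟨u, hu, hxu, hmem⟩ := h _ hx
    have h2 : Q ∈ h₁.fromSpec ⁻¹ᵁ X.basicOpen u := hxu
    rw [h₁.fromSpec_preimage_basicOpen] at h2
    apply h2
    have h3 : (⟨u, hu⟩ : invSub s₁) ∈ (PrimeSpectrum.comap (invSub s₁).subtype Q).asIdeal := by
      rw [hQ]; exact hle hmem
    exact h3
  have h2 : (1 : invSub s₁) ∈ 𝔞 := by rw [h1]; trivial
  have h3 : pb p W' O₁ 1 * s' ∈ gen (pb p W' O₁) (cf p W' α O₁) (invSub s₁ : Set Γ(X, O₁)) := h2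
  rwa [map_one, one_mul] at h3

end Map

end K755.Transfer
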